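import Mathlib
import Cfsg.Agent.Lib.Computation.PermCode
import Cfsg.Agent.Lib.FischerQuad75.ModelData

/-!
The model: 126 points of norm one, their commuting graph, third points, and the local quadrangle of
45 points at the first one.
-/

set_option autoImplicit false
set_option maxRecDepth 20000
set_option maxHeartbeats 4000000
set_option Elab.async false

namespace Cfsg.Agent.Lib.FischerQuad75

open Cfsg.Agent.Lib.Computation (getW)

/-- the row of a point in the commuting graph -/
def row (i : Fin 126) : Nat := adjT.getD i.1 0

/-- commuting distinct points -/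
def adjB (i j : Fin 126) : Bool := (row i).testBit j.1

/-- the reflection at `j` applied to `i` -/
def R (j i : Fin 126) : Fin 126 := ⟨getW 7 (reflT.getD j.1 0) i.1 % 126, Nat.mod_lt _ (by norm_num)⟩

/-- a point of the quadrangle as a point -/
def la (a : Fin 45) : Fin 126 := ⟨a.1 + 1, by omega⟩

/-- twin `b` over frame `i` -/
def farPt (i : Fin 40) (b : Bool) : Fin 126 := ⟨46 + 2 * i.1 + cond b 1 0, by cases b <;> simp <;> omega⟩

/-- rows of the quadrangle -/
def srow (a : Fin 45) : Nat := (row (la a) >>> 1) &&& (2 ^ 45 - 1)

/-- collinear distinct points of the quadrangle -/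
def S45 (a b : Fin 45) : Bool := (srow a).testBit b.1

/-- the third point of a non-collinear pair -/
def h45 (a b : Fin 45) : Fin 45 := ⟨((R (la b) (la a)).1 - 1) % 45, Nat.mod_lt _ (by norm_num)⟩

/-- the points of the quadrangle seen by frame `i` -/
def fam (i : Fin 40) : Nat := (row (farPt i false) >>> 1) &&& (2 ^ 45 - 1)

/-- membership in a frame -/
def inFam (i : Fin 40) (a : Fin 45) : Bool := (fam i).testBit a.1

/-- the lines as masks -/
def line (l : Fin 27) : Nat := lineT.getD l.1 0

theorem adj_symm : ∀ i j : Fin 126, adjB i j = adjB j i := by decide +kernel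

theorem adj_irrefl : ∀ i : Fin 126, adjB i i = false := by decide +kernel

theorem adj_zero_la : ∀ a : Fin 45, adjB 0 (la a) = true := by decide +kernel

theorem adj_zero_far : ∀ (i : Fin 40) (b : Bool), adjB 0 (farPt i b) = false := by decide +kernel

theorem adj_la : ∀ a b : Fin 45, adjB (la a) (la b) = S45 a b := by decide +kernel

theorem adj_la_far : ∀ (a : Fin 45) (i : Fin 40) (b : Bool), adjB (la a) (farPt i b) = inFam i a := by
  decide +kernel

theorem cases126 : ∀ k : Fin 126, k = 0 ∨ (∃ a, la a = k) ∨ ∃ i b, farPt i b = k := by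
  intro k
  rcases Nat.lt_or_ge k.1 1 with h | h
  · exact Or.inl (Fin.ext (by simp; omega))
  rcases Nat.lt_or_ge k.1 46 with h' | h'
  · exact Or.inr (Or.inl ⟨⟨k.1 - 1, by omega⟩, Fin.ext (by simp [la]; omega)⟩)
  refine Or.inr (Or.inr ⟨⟨(k.1 - 46) / 2, by omega⟩, decide (k.1 % 2 = 1), Fin.ext ?_⟩)
  rcases Nat.mod_two_eq_zero_or_one k.1 with e | e <;> simp [farPt, e] <;> omega

/-! ### the quadrangle -/

theorem S45_symm : ∀ a b : Fin 45, S45 a b = S45 b a := by decide +kernel

theorem S45_irrefl : ∀ a : Fin 45, S45 a a = false := by decide +kernel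

/-- common points of a collinear pair are pairwise collinear -/
theorem line_clique : ∀ a b : Fin 45, S45 a b = true → ∀ c : Fin 45, S45 a c = true → S45 b c = true →
    ((srow a &&& srow b) &&& ((srow c) ^^^ (2 ^ 45 - 1))) = 2 ^ c.1 := by decide +kernel

theorem clique_of_mask {a b c d : Fin 45} (hab : S45 a b = true) (hac : S45 a c = true) (hbc : S45 b c = true)
    (had : S45 a d = true) (hbd : S45 b d = true) (hne : c ≠ d) : S45 c d = true := by
  have h := congrArg (fun n => n.testBit d.1) (line_clique a b hab c hac hbc)
  simp only [Nat.testBit_and, Nat.testBit_xor, Nat.testBit_two_pow_sub_one, Nat.testBit_two_pow] at h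
  simp only [S45] at had hbd ⊢
  rw [had, hbd] at h
  have hcd : ¬ c.1 = d.1 := fun e => hne (Fin.ext e)
  simpa [d.2, hcd] using h

/-- the points commuting with all common points of a non-collinear pair -/
def inter (a b : Fin 45) : Nat :=
  Nat.rec (2 ^ 45 - 1) (fun c acc =>
    bif (srow a &&& srow b).testBit c then acc &&& srow ⟨c % 45, Nat.mod_lt _ (by norm_num)⟩ else acc) 45

theorem inter_eq : ∀ a b : Fin 45, a ≠ b → S45 a b = false →
    inter a b = (2 ^ a.1 ||| 2 ^ b.1 ||| 2 ^ (h45 a b).1) ∧ h45 a b ≠ a ∧ h45 a b ≠ b ∧ h45 a b = h45 b a ∧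
      S45 a (h45 a b) = false ∧ S45 b (h45 a b) = false := by decide +kernel

theorem testBit_inter {a b d : Fin 45} (h : ∀ c, S45 a c = true → S45 b c = true → S45 c d = true) :
    (inter a b).testBit d.1 = true := by
  have key : ∀ n : ℕ, n ≤ 45 →
      (Nat.rec (motive := fun _ => Nat) (2 ^ 45 - 1) (fun c acc =>
        bif (srow a &&& srow b).testBit c then acc &&& srow ⟨c % 45, Nat.mod_lt _ (by norm_num)⟩ else acc) n).testBit
          d.1 = true := by
    intro n
    induction n with
    | zero =>
      intro _
      show (2 ^ 45 - 1 : Nat).testBit d.1 = true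
      rw [Nat.testBit_two_pow_sub_one]
      exact decide_eq_true d.2
    | succ n ih =>
      intro hn
      have ih' := ih (by omega)
      simp only
      cases hb : (srow a &&& srow b).testBit n
      · simpa [hb] using ih'
      · simp only [cond_true]
        rw [Nat.testBit_and, ih', Bool.true_and]
        have hc : (⟨n % 45, Nat.mod_lt _ (by norm_num)⟩ : Fin 45) = ⟨n, by omega⟩ :=
          Fin.ext (Nat.mod_eq_of_lt (by omega))
        rw [Nat.testBit_and, Bool.and_eq_true] at hb
        rw [hc]
        exact h ⟨n, by omega⟩ hb.1 hb.2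
  exact key 45 le_rfl

/-- third point: the only further point seeing all common points -/
theorem eq_h45 {a b d : Fin 45} (hab : a ≠ b) (hS : S45 a b = false)
    (h : ∀ c, S45 a c = true → S45 b c = true → S45 c d = true) : d = a ∨ d = b ∨ d = h45 a b := by
  have e := testBit_inter h
  rw [(inter_eq a b hab hS).1] at e
  simp only [Nat.testBit_or, Bool.or_eq_true, Nat.testBit_two_pow, decide_eq_true_eq] at e
  rcases e with (e | e) | e
  · exact Or.inl (Fin.ext e.symm)
  · exact Or.inr (Or.inl (Fin.ext e.symm))
  · exact Or.inr (Or.inr (Fin.ext e.symm))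

theorem h45_common {a b c : Fin 45} (hab : a ≠ b) (hS : S45 a b = false) (ha : S45 a c = true)
    (hb : S45 b c = true) : S45 c (h45 a b) = true := by
  revert a b c
  decide +kernel

/-- every point is on an edge, and every edge has three further common points -/
theorem exists_nbr : ∀ a : Fin 45, srow a ≠ 0 := by decide +kernel

/-- each line is a mask of five pairwise collinear points -/
theorem line_facts : ∀ l : Fin 27, ∀ a : Fin 45, (line l).testBit a.1 = true →
    (line l) ^^^ 2 ^ a.1 = (line l) &&& srow a := by decide +kernel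

theorem line_of_edge : ∀ a b : Fin 45, S45 a b = true →
    ∃ l : Fin 27, line l = (2 ^ a.1 ||| 2 ^ b.1 ||| (srow a &&& srow b)) := by decide +kernel

theorem line_size : ∀ l : Fin 27, ∀ a : Fin 45, (line l).testBit a.1 = true →
    ∃ b : Fin 45, (line l).testBit b.1 = true ∧ S45 a b = true := by decide +kernel

theorem line_cover : ∀ a : Fin 45, ∃ l : Fin 27, (line l).testBit a.1 = true := by decide +kernel

/-! ### frames -/

/-- two frames sharing an edge -/
def compB (i j : Fin 40) : Bool :=
  decide (i ≠ j) && (List.finRange 45).any fun p => ((fam i &&& fam j).testBit p.1) && ((fam i &&& fam j &&& srow p) != 0)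

theorem far_adj : ∀ i j : Fin 40, ∀ b c : Bool,
    adjB (farPt i b) (farPt j c) = (compB i j && (xor (xor b c) (adjB (farPt i false) (farPt j false)))) := by
  decide +kernel

theorem fam_inj : ∀ i j : Fin 40, fam i = fam j → i = j := by decide +kernel

theorem comp_count : ∀ i : Fin 40, (Finset.univ.filter fun j => compB i j = true).card = 27 := by decide +kernel

theorem comp_symm : ∀ i j : Fin 40, compB i j = compB j i := by decide +kernel

theorem fam_card : ∀ i : Fin 40, (Finset.univ.filter fun a => inFam i a = true).card = 18 := by decide +kernel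

end Cfsg.Agent.Lib.FischerQuad75
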