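import Mathlib
import Cfsg.Agent.Lib.FischerQuad75.Model

/-!
Further checked facts on the model: lines, compatible frames, thirds, and the propagation steps that
fix the twins.
-/

set_option autoImplicit false
set_option maxRecDepth 20000
set_option maxHeartbeats 4000000
set_option Elab.async false

namespace Cfsg.Agent.Lib.FischerQuad75

theorem line_card : ∀ l : Fin 27, (Finset.univ.filter fun a : Fin 45 => (line l).testBit a.1 = true).card = 5 := by
  decide +kernel

theorem line_adj {l : Fin 27} {a b : Fin 45} (ha : (line l).testBit a.1 = true) (hb : (line l).testBit b.1 = true)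
    (hne : a ≠ b) : S45 a b = true := by
  have h := congrArg (fun n => n.testBit b.1) (line_facts l a ha)
  simp only [Nat.testBit_xor, Nat.testBit_and, Nat.testBit_two_pow, hb, Bool.true_and] at h
  have hab : ¬ a.1 = b.1 := fun e => hne (Fin.ext e)
  simpa [S45, hab] using h.symm

theorem h45_back : ∀ a b : Fin 45, a ≠ b → S45 a b = false → h45 a (h45 a b) = b := by decide +kernel

theorem fam_sub : ∀ i j : Fin 40, fam i &&& fam j = fam i → i = j := by decide +kernel

theorem deg45 : ∀ a : Fin 45, (Finset.univ.filter fun b : Fin 45 => S45 a b = true).card = 12 := by decide +kernel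

theorem R_facts : ∀ i j : Fin 126, if i = j ∨ adjB i j = true then R j i = i else
    (R j i ≠ i ∧ R j i ≠ j ∧ adjB i (R j i) = false ∧ adjB j (R j i) = false ∧ R j i = R i j ∧
      row i &&& row j &&& row (R j i) = row i &&& row j ∧ row i &&& row j ≠ 0) := by decide +kernel

theorem R_spec {i j : Fin 126} (hne : i ≠ j) (h : adjB i j = false) :
    R j i ≠ i ∧ R j i ≠ j ∧ adjB i (R j i) = false ∧ adjB j (R j i) = false ∧ R j i = R i j ∧
      row i &&& row j &&& row (R j i) = row i &&& row j ∧ row i &&& row j ≠ 0 := by
  have e := R_facts i j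
  rwa [if_neg (by simp [hne, h])] at e

theorem R_fix {i j : Fin 126} (h : i = j ∨ adjB i j = true) : R j i = i := by
  have e := R_facts i j
  rwa [if_pos h] at e

theorem R_common {i j c : Fin 126} (hne : i ≠ j) (h : adjB i j = false) (h1 : adjB c i = true) (h2 : adjB c j = true) :
    adjB c (R j i) = true := by
  obtain ⟨-, -, -, -, -, e, -⟩ := R_spec hne h
  rw [adj_symm] at h1 h2 ⊢
  have := congrArg (fun n => n.testBit c.1) e
  simp only [adjB] at h1 h2 ⊢
  simp only [Nat.testBit_and, h1, h2, Bool.true_and, Bool.and_true] at this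
  exact this

theorem exists_common {i j : Fin 126} (hne : i ≠ j) (h : adjB i j = false) :
    ∃ c, adjB i c = true ∧ adjB j c = true := by
  obtain ⟨-, -, -, -, -, -, e⟩ := R_spec hne h
  by_contra hcon
  push Not at hcon
  refine e (Nat.eq_of_testBit_eq fun k => ?_)
  rw [Nat.zero_testBit, Nat.testBit_and]
  by_cases hk : k < 126
  · have := hcon ⟨k, hk⟩
    simp only [adjB] at this
    cases hb : (row i).testBit k
    · rfl
    · simpa using this hb
  · have hlt : ∀ x : Fin 126, row x < 2 ^ 126 := by decide +kernel
    rw [Nat.testBit_lt_two_pow (lt_of_lt_of_le (hlt i) (Nat.pow_le_pow_right (by norm_num) (not_lt.mp hk)))]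
    rfl

/-- the twin bit of two frames -/
def md (i j : Fin 40) : Bool := adjB (farPt i false) (farPt j false)

/-- the index of a frame -/
def ff (i : Nat) : Fin 40 := ⟨i % 40, Nat.mod_lt _ (by norm_num)⟩

/-- children are new, parents are old -/
def treeOK : List (Nat × Nat) → List (Fin 40) → Bool
  | [], seen => (List.finRange 40).all fun i => seen.contains i
  | (a, b) :: t, seen => seen.contains (ff a) && (!seen.contains (ff b) && (compB (ff a) (ff b) && treeOK t (ff b :: seen)))

theorem treeT_ok : treeOK treeT [0] = true := by decide +kernel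

/-- pairs as bits -/
def pix (i j : Fin 40) : Nat := 40 * i.1 + j.1

/-- both orientations of a pair -/
def pairBits (i j : Fin 40) : Nat := 2 ^ pix i j ||| 2 ^ pix j i

/-- the tree pairs -/
def treeBits : Nat := treeT.foldl (fun acc p => acc ||| pairBits (ff p.1) (ff p.2)) 0

/-- the check of the propagation -/
def stepsOK : List (Nat × Nat × Nat × Nat × Nat × Nat) → Nat → Bool
  | [], known => (List.finRange 40).all fun i => (List.finRange 40).all fun j =>
      !compB i j || known.testBit (pix i j)
  | (o, i, j, t, p, q) :: l, known =>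
      known.testBit (pix (ff o) (ff i)) && (known.testBit (pix (ff o) (ff j)) && (compB (ff i) (ff j) &&
        ((inFam (ff o) ⟨p % 45, Nat.mod_lt _ (by norm_num)⟩ && (inFam (ff i) ⟨p % 45, Nat.mod_lt _ (by norm_num)⟩ &&
          inFam (ff j) ⟨p % 45, Nat.mod_lt _ (by norm_num)⟩)) &&
        ((bif t == 0 then
            S45 ⟨p % 45, Nat.mod_lt _ (by norm_num)⟩ ⟨q % 45, Nat.mod_lt _ (by norm_num)⟩ &&
              (inFam (ff o) ⟨q % 45, Nat.mod_lt _ (by norm_num)⟩ && (inFam (ff i) ⟨q % 45, Nat.mod_lt _ (by norm_num)⟩ &&
                inFam (ff j) ⟨q % 45, Nat.mod_lt _ (by norm_num)⟩))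
          else (List.finRange 45).all fun a =>
            !(fam (ff o) &&& fam (ff i) &&& fam (ff j)).testBit a.1 ||
              ((fam (ff o) &&& fam (ff i) &&& fam (ff j) &&& srow a) == 0)) &&
        ((xor (xor (md (ff o) (ff i)) (md (ff o) (ff j))) (md (ff i) (ff j)) == (t == 0)) &&
          stepsOK l (known ||| pairBits (ff i) (ff j)))))))

theorem steps_ok : stepsOK stepT treeBits = true := by decide +kernel

theorem md_symm : ∀ i j : Fin 40, md i j = md j i := fun i j => adj_symm _ _

end Cfsg.Agent.Lib.FischerQuad75
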