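import Mathlib
import Cfsg.Agent.Lib.FischerQuad75.Model

/-!
A set of points of the quadrangle meeting every line in two points and closed under third points is
one of the forty frames: a search certificate with a verified checker.
-/

set_option autoImplicit false
set_option maxRecDepth 100000
set_option maxHeartbeats 4000000
set_option Elab.async false

namespace Cfsg.Agent.Lib.FischerQuad75

/-- a node of the search -/
inductive Cert where
  | clash (p : Nat)
  | overfull (l p q r : Nat)
  | under (l p : Nat)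
  | leaf (i : Nat)
  | third (a b : Nat) (c : Cert)
  | branch (p : Nat) (y n : Cert)

/-- the index of a point -/
def fp (p : Nat) : Fin 45 := ⟨p % 45, Nat.mod_lt _ (by norm_num)⟩

/-- the index of a line -/
def fl (l : Nat) : Fin 27 := ⟨l % 27, Nat.mod_lt _ (by norm_num)⟩

/-- the checker -/
def chk : Cert → Nat → Nat → Bool
  | .clash p, inn, out => inn.testBit (fp p).1 && out.testBit (fp p).1
  | .overfull l p q r, inn, _ => decide (fp p ≠ fp q ∧ fp p ≠ fp r ∧ fp q ≠ fp r) &&
      ((inn &&& line (fl l)).testBit (fp p).1 && ((inn &&& line (fl l)).testBit (fp q).1 &&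
        (inn &&& line (fl l)).testBit (fp r).1))
  | .under l p, _, out => (line (fl l) ||| (out ||| 2 ^ (fp p).1)) == (out ||| 2 ^ (fp p).1)
  | .leaf i, inn, _ => (inn &&& fam ⟨i % 40, Nat.mod_lt _ (by norm_num)⟩) ==
      fam ⟨i % 40, Nat.mod_lt _ (by norm_num)⟩
  | .third a b c, inn, out => decide (fp a ≠ fp b) && (!S45 (fp a) (fp b) &&
      (inn.testBit (fp a).1 && (inn.testBit (fp b).1 && chk c (inn ||| 2 ^ (h45 (fp a) (fp b)).1) out)))
  | .branch p y n, inn, out => chk y (inn ||| 2 ^ (fp p).1) out && chk n inn (out ||| 2 ^ (fp p).1)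

/-- the search -/
def frameCert : Cert :=
  (.branch 0 (.branch 11 (.branch 14 (.third 11 14 (.branch 3 (.third 0 3 (.branch 1 (.third 0 1
  (.third 1 3 (.third 0 6 (.third 1 4 (.third 0 7 (.third 1 11 (.third 0 10 (.third 1 14 (.third
  0 13 (.third 1 17 (.third 0 16 (.leaf 0)))))))))))) (.branch 9 (.third 0 9 (.third 3 9 (.third
  0 13 (.third 3 10 (.third 0 15 (.third 9 11 (.third 0 2 (.clash 1)))))))) (.branch 24 (.overfull 0
  0 11 24) (.branch 33 (.overfull 10 3 14 33) (.under 3 44)))))) (.branch 18 (.third 0 18 (.third 14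
  18 (.third 0 43 (.third 11 43 (.third 0 33 (.branch 1 (.overfull 3 1 33 44) (.branch 12 (.overfull 16
  12 18 34) (.branch 26 (.overfull 1 0 14 26) (.branch 27 (.overfull 11 17 27 43) (.under 4 41))))))))))
  (.branch 31 (.third 0 31 (.third 14 31 (.third 0 20 (.third 11 20 (.third 0 36 (.branch 5
  (.overfull 15 5 20 32) (.branch 12 (.overfull 25 12 21 36) (.branch 34 (.overfull 13 14 34 37) (.under 16
  38))))))))) (.branch 40 (.third 0 40 (.third 14 40 (.third 0 27 (.third 11 27 (.third 0 22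
  (.branch 1 (.overfull 4 1 27 41) (.branch 15 (.overfull 17 15 22 28) (.branch 25 (.overfull 2 0 17 25)
  (.under 5 37))))))))) (.under 9 11)))))) (.branch 26 (.third 11 26 (.branch 1 (.third 0 1
  (.third 1 11 (.third 0 10 (.third 1 30 (.third 0 32 (.branch 3 (.overfull 9 3 11 31) (.branch 22
  (.overfull 21 10 22 30) (.branch 33 (.overfull 3 1 9 33) (.under 10 36))))))))) (.branch 12 (.third 0
  12 (.third 11 12 (.third 0 7 (.third 7 26 (.third 0 19 (.branch 9 (.overfull 24 8 9 30) (.branch
  24 (.overfull 0 0 11 24) (.branch 33 (.overfull 19 13 19 33) (.under 3 44))))))))) (.branch 27 (.third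
  0 27 (.third 11 27 (.third 0 22 (.third 22 26 (.third 0 4 (.branch 9 (.overfull 24 9 23 30)
  (.branch 24 (.overfull 0 0 11 24) (.branch 33 (.overfull 10 3 22 33) (.under 3 44))))))))) (.branch 41
  (.third 0 41 (.branch 9 (.overfull 24 9 30 40) (.branch 24 (.overfull 0 0 11 24) (.branch 33 (.third 0
  33 (.third 11 33 (.third 0 43 (.third 26 33 (.third 0 37 (.third 11 36 (.third 0 20 (.third 20
  26 (.third 0 6 (.third 5 11 (.third 0 16 (.leaf 11)))))))))))) (.under 3 44))))) (.under 4
  26)))))) (.branch 29 (.third 11 29 (.branch 1 (.third 0 1 (.third 1 11 (.third 0 10 (.third 1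
  29 (.third 0 28 (.third 1 38 (.third 0 36 (.third 9 28 (.third 0 18 (.third 1 18 (.third 0 21
  (.third 1 19 (.third 0 22 (.leaf 4)))))))))))))) (.branch 12 (.third 0 12 (.third 11 12
  (.third 0 7 (.third 7 38 (.third 0 40 (.branch 9 (.overfull 24 8 9 40) (.branch 24 (.overfull 0 0 11
  24) (.branch 33 (.overfull 19 13 33 38) (.under 3 44))))))))) (.branch 27 (.third 0 27 (.third 11
  27 (.third 0 22 (.third 22 29 (.third 0 37 (.third 11 36 (.third 0 20 (.third 20 22 (.third 0
  18 (.third 18 21 (.clash 1))))))))))) (.under 4 41))))) (.branch 39 (.third 11 39 (.branch 1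
  (.third 0 1 (.third 1 11 (.third 0 10 (.third 1 39 (.third 0 40 (.branch 3 (.overfull 9 3 11 40)
  (.branch 22 (.overfull 21 10 22 41) (.branch 33 (.overfull 3 1 9 33) (.under 10 36))))))))) (.branch
  12 (.third 0 12 (.third 11 12 (.third 0 7 (.third 7 25 (.third 0 23 (.third 7 39 (.third 0 43
  (.third 11 22 (.third 0 27 (.third 7 27 (.third 0 32 (.third 7 28 (.third 0 33 (.leaf
  14)))))))))))))) (.branch 27 (.third 0 27 (.third 11 27 (.third 0 22 (.third 22 25 (.third 0 8
  (.third 7 11 (.clash 12))))))) (.under 4 41))))) (.under 1 0))))) (.branch 24 (.branch 14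
  (.third 14 24 (.branch 1 (.third 0 1 (.third 1 14 (.third 0 13 (.third 1 38 (.third 0 36
  (.branch 3 (.overfull 10 3 14 36) (.branch 18 (.overfull 16 12 18 38) (.branch 31 (.overfull 5 1 31 37)
  (.under 9 40))))))))) (.branch 9 (.third 0 9 (.third 9 14 (.third 0 6 (.third 5 24 (.third 0
  23 (.branch 12 (.overfull 16 5 12 38) (.branch 26 (.overfull 1 0 14 26) (.branch 27 (.overfull 20 6 23 27)
  (.under 4 41))))))))) (.branch 33 (.third 0 33 (.branch 12 (.overfull 16 12 34 38) (.branch 26
  (.overfull 1 0 14 26) (.branch 27 (.third 0 27 (.third 14 27 (.third 0 40 (.third 24 27 (.third 0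
  15 (.third 14 15 (.third 0 7 (.third 7 24 (.third 0 21 (.third 7 27 (.third 0 32 (.leaf
  15)))))))))))) (.under 4 41))))) (.branch 44 (.third 0 44 (.third 14 43 (.third 0 18 (.third
  18 24 (.third 0 4 (.branch 12 (.overfull 16 12 18 38) (.branch 26 (.overfull 1 0 14 26) (.branch 27
  (.overfull 11 3 27 43) (.under 4 41))))))))) (.under 3 24)))))) (.branch 26 (.third 24 26 (.branch
  1 (.third 0 1 (.branch 3 (.third 0 3 (.third 1 3 (.third 0 6 (.third 1 4 (.third 0 7 (.third 3
  24 (.third 0 19 (.third 1 18 (.third 0 21 (.third 1 19 (.third 0 22 (.leaf 1))))))))))))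
  (.branch 18 (.third 0 18 (.third 1 18 (.third 0 21 (.third 1 19 (.third 0 22 (.third 18 24
  (.third 0 4 (.clash 3)))))))) (.branch 31 (.overfull 5 1 25 31) (.under 9 40))))) (.branch 9
  (.third 0 9 (.third 9 25 (.third 0 41 (.third 9 26 (.third 0 31 (.branch 3 (.overfull 9 3 31 40)
  (.branch 22 (.overfull 21 10 22 41) (.branch 33 (.overfull 3 9 24 33) (.under 10 36))))))))) (.branch
  33 (.third 0 33 (.third 25 33 (.third 0 12 (.third 12 24 (.third 0 37 (.branch 3 (.overfull 10 3
  33 36) (.branch 18 (.overfull 16 12 18 34) (.branch 31 (.overfull 5 25 31 37) (.under 9 40)))))))))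
  (.branch 44 (.third 0 44 (.third 25 43 (.third 0 28 (.third 24 27 (.third 0 15 (.branch 3
  (.overfull 11 3 27 43) (.branch 22 (.overfull 17 15 22 28) (.under 10 36)))))))) (.under 3 24))))))
  (.branch 29 (.third 24 29 (.branch 1 (.third 0 1 (.third 1 17 (.third 0 16 (.third 1 29
  (.third 0 28 (.branch 3 (.overfull 11 3 17 27) (.branch 18 (.overfull 23 16 18 29) (.branch 31 (.overfull
  5 1 15 31) (.under 9 40))))))))) (.branch 9 (.third 0 9 (.third 9 17 (.third 0 7 (.third 7 24
  (.third 0 21 (.branch 12 (.overfull 25 8 12 21) (.branch 27 (.overfull 11 17 20 27) (.under 4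
  41)))))))) (.branch 33 (.third 0 33 (.third 17 33 (.third 0 18 (.third 18 24 (.third 0 4
  (.branch 12 (.overfull 16 12 18 34) (.branch 27 (.overfull 11 3 17 27) (.under 4 41)))))))) (.branch
  44 (.third 0 44 (.branch 12 (.third 0 12 (.third 12 17 (.third 0 6 (.third 5 24 (.third 0 23
  (.third 5 29 (.third 0 31 (.third 5 43 (.third 0 37 (.third 5 36 (.third 0 41 (.leaf
  12)))))))))))) (.branch 27 (.overfull 11 17 27 43) (.under 4 41)))) (.under 3 24)))))) (.branch 39
  (.third 24 39 (.branch 1 (.third 0 1 (.third 1 30 (.third 0 32 (.third 1 39 (.third 0 40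
  (.branch 3 (.overfull 9 3 31 40) (.branch 22 (.overfull 21 22 30 41) (.branch 33 (.overfull 3 1 24 33)
  (.under 10 36))))))))) (.branch 9 (.third 0 9 (.branch 12 (.third 0 12 (.third 9 12 (.third 0
  15 (.third 9 13 (.third 0 3 (.third 3 24 (.third 0 19 (.third 3 30 (.third 0 28 (.third 3 39
  (.third 0 37 (.leaf 7)))))))))))) (.branch 27 (.third 0 27 (.third 9 27 (.third 0 37 (.third 9
  28 (.third 0 18 (.third 18 24 (.third 0 4 (.third 3 9 (.third 0 13 (.clash 12))))))))))
  (.under 4 41)))) (.branch 33 (.third 0 33 (.third 30 33 (.third 0 5 (.third 5 24 (.third 0 23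
  (.branch 12 (.overfull 16 5 12 34) (.branch 27 (.overfull 20 6 23 27) (.under 4 41)))))))) (.branch 44
  (.third 0 44 (.third 30 43 (.third 0 21 (.third 20 24 (.third 0 8 (.branch 12 (.overfull 25 8 12
  21) (.branch 27 (.overfull 11 20 27 43) (.under 4 41)))))))) (.under 3 24)))))) (.under 1 0)))))
  (.branch 35 (.branch 14 (.third 14 35 (.branch 1 (.third 0 1 (.third 1 14 (.third 0 13 (.third
  1 35 (.third 0 34 (.branch 3 (.overfull 10 3 14 33) (.branch 18 (.overfull 16 12 18 34) (.branch 31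
  (.overfull 5 1 25 31) (.under 9 40))))))))) (.branch 9 (.third 0 9 (.third 9 14 (.third 0 6
  (.third 5 25 (.third 0 19 (.third 5 35 (.third 0 27 (.third 9 19 (.third 0 36 (.third 5 36
  (.third 0 41 (.third 5 37 (.third 0 43 (.leaf 10)))))))))))))) (.branch 33 (.third 0 33
  (.third 25 33 (.third 0 12 (.third 12 14 (.third 0 2 (.clash 1)))))) (.under 3 44)))))
  (.branch 26 (.third 26 35 (.branch 1 (.third 0 1 (.third 1 35 (.third 0 34 (.third 1 38
  (.third 0 36 (.branch 3 (.overfull 10 3 33 36) (.branch 18 (.overfull 16 18 34 38) (.branch 31 (.overfull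
  5 1 31 37) (.under 9 40))))))))) (.branch 9 (.third 0 9 (.third 9 26 (.third 0 31 (.third 9 35
  (.third 0 43 (.third 9 38 (.third 0 22 (.third 22 26 (.third 0 4 (.third 3 9 (.third 0 13
  (.third 3 10 (.third 0 15 (.leaf 9)))))))))))))) (.branch 33 (.third 0 33 (.third 26 33
  (.third 0 37 (.third 33 35 (.third 0 2 (.clash 1)))))) (.under 3 44))))) (.branch 29 (.third
  29 35 (.branch 1 (.third 0 1 (.third 1 29 (.third 0 28 (.third 1 30 (.third 0 32 (.third 1 35
  (.third 0 34 (.third 27 30 (.third 0 4 (.third 1 3 (.third 0 6 (.third 1 4 (.third 0 7 (.leaf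
  2)))))))))))))) (.branch 9 (.third 0 9 (.third 9 29 (.third 0 21 (.third 9 35 (.third 0 43
  (.branch 12 (.overfull 25 12 21 35) (.branch 27 (.overfull 11 20 27 43) (.under 4 41)))))))) (.branch
  33 (.third 0 33 (.third 29 33 (.third 0 4 (.third 3 30 (.third 0 28 (.third 3 35 (.third 0 32
  (.third 27 29 (.third 0 2 (.clash 1)))))))))) (.under 3 44))))) (.branch 39 (.third 35 39
  (.branch 1 (.third 0 1 (.third 1 17 (.third 0 16 (.third 1 35 (.third 0 34 (.third 1 39
  (.third 0 40 (.third 15 34 (.third 0 20 (.third 1 20 (.third 0 23 (.third 1 21 (.third 0 18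
  (.leaf 6)))))))))))))) (.branch 9 (.third 0 9 (.third 9 17 (.third 0 7 (.third 7 39 (.third 0
  43 (.branch 12 (.overfull 25 8 12 35) (.branch 27 (.overfull 11 17 27 43) (.under 4 41))))))))
  (.branch 33 (.third 0 33 (.third 17 33 (.third 0 18 (.third 18 35 (.third 0 41 (.third 17 40
  (.third 0 22 (.third 18 22 (.third 0 20 (.third 18 21 (.clash 1))))))))))) (.under 3 44)))))
  (.under 1 0))))) (.branch 42 (.branch 14 (.third 14 42 (.branch 1 (.third 0 1 (.third 1 14
  (.third 0 13 (.third 1 30 (.third 0 32 (.third 1 42 (.third 0 43 (.third 12 30 (.third 0 19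
  (.third 1 18 (.third 0 21 (.third 1 19 (.third 0 22 (.leaf 5)))))))))))))) (.branch 9 (.third
  0 9 (.third 9 14 (.third 0 6 (.third 5 30 (.third 0 33 (.branch 12 (.overfull 16 5 12 34) (.branch
  26 (.overfull 1 0 14 26) (.branch 27 (.overfull 20 6 27 42) (.under 4 41))))))))) (.branch 33 (.third
  0 33 (.third 30 33 (.third 0 5 (.third 5 14 (.third 0 10 (.clash 9)))))) (.under 3 44)))))
  (.branch 26 (.third 26 42 (.branch 1 (.third 0 1 (.third 1 17 (.third 0 16 (.third 1 42
  (.third 0 43 (.branch 3 (.overfull 11 3 17 43) (.branch 18 (.overfull 23 16 18 44) (.branch 31 (.overfull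
  5 1 15 31) (.under 9 40))))))))) (.branch 9 (.third 0 9 (.third 9 17 (.third 0 7 (.third 7 26
  (.third 0 19 (.third 7 42 (.third 0 36 (.third 9 18 (.third 0 28 (.third 7 27 (.third 0 32
  (.third 7 28 (.third 0 33 (.leaf 13)))))))))))))) (.branch 33 (.third 0 33 (.third 17 33
  (.third 0 18 (.third 18 26 (.third 0 8 (.third 7 17 (.clash 9))))))) (.under 3 44)))))
  (.branch 29 (.third 29 42 (.branch 1 (.third 0 1 (.third 1 29 (.third 0 28 (.third 1 42
  (.third 0 43 (.branch 3 (.overfull 11 3 27 43) (.branch 18 (.overfull 23 18 29 44) (.branch 31 (.overfull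
  5 1 25 31) (.under 9 40))))))))) (.branch 9 (.third 0 9 (.third 9 25 (.third 0 41 (.third 9 29
  (.third 0 21 (.third 9 42 (.third 0 34 (.third 20 25 (.third 0 4 (.third 3 9 (.third 0 13
  (.third 3 10 (.third 0 15 (.leaf 8)))))))))))))) (.branch 33 (.third 0 33 (.third 25 33
  (.third 0 12 (.third 12 29 (.third 0 40 (.third 12 42 (.third 0 20 (.third 20 25 (.third 0 4
  (.third 3 12 (.third 0 16 (.third 3 13 (.clash 9))))))))))))) (.under 3 44))))) (.branch 39
  (.third 39 42 (.branch 1 (.third 0 1 (.third 1 38 (.third 0 36 (.third 1 39 (.third 0 40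
  (.third 1 42 (.third 0 43 (.third 36 39 (.third 0 4 (.third 1 3 (.third 0 6 (.third 1 4
  (.third 0 7 (.leaf 3)))))))))))))) (.branch 9 (.third 0 9 (.third 9 38 (.third 0 22 (.third 9
  42 (.third 0 34 (.branch 12 (.overfull 16 12 34 38) (.branch 27 (.overfull 20 23 27 42) (.under 4
  41)))))))) (.branch 33 (.third 0 33 (.third 33 39 (.third 0 23 (.third 22 38 (.clash 9)))))
  (.under 3 44))))) (.under 1 0))))) (.under 0 0))))) (.branch 11 (.branch 24 (.branch 14
  (.third 11 14 (.third 14 24 (.third 11 38 (.branch 1 (.third 1 11 (.third 1 14 (.third 1 17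
  (.third 1 29 (.third 1 38 (.third 10 14 (.third 1 5 (.third 5 24 (.third 1 23 (.third 5 29
  (.third 5 36 (.leaf 24)))))))))))) (.branch 9 (.third 9 11 (.third 2 14 (.third 2 17 (.third 2
  29 (.third 2 38 (.third 9 14 (.third 2 6 (.third 6 24 (.third 2 22 (.third 6 29 (.third 6 37
  (.leaf 33)))))))))))) (.branch 33 (.third 11 33 (.third 14 43 (.third 18 24 (.branch 12 (.overfull
  16 12 18 38) (.branch 26 (.overfull 1 14 26 29) (.branch 27 (.overfull 11 17 27 43) (.under 4
  41))))))) (.branch 44 (.third 11 44 (.third 14 44 (.third 19 24 (.branch 12 (.overfull 16 12 34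
  38) (.branch 26 (.overfull 1 14 26 29) (.branch 27 (.overfull 11 3 17 27) (.under 4 41))))))) (.under
  3 24)))))))) (.branch 26 (.third 11 26 (.third 24 26 (.third 11 25 (.branch 1 (.third 1 11
  (.third 1 30 (.third 1 39 (.branch 3 (.overfull 9 3 11 40) (.branch 22 (.overfull 21 10 22 30)
  (.branch 33 (.overfull 3 1 24 33) (.under 10 36))))))) (.branch 9 (.third 9 11 (.third 2 30
  (.third 2 39 (.branch 3 (.overfull 9 3 11 31) (.branch 22 (.overfull 21 22 30 41) (.branch 33 (.overfull 3
  9 24 33) (.under 10 36))))))) (.branch 33 (.third 11 33 (.third 25 33 (.third 11 12 (.third 7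
  24 (.third 7 25 (.third 7 26 (.third 7 33 (.third 11 21 (.third 19 24 (.third 3 7 (.third 3 12
  (.leaf 36)))))))))))) (.branch 44 (.third 11 44 (.third 25 34 (.third 11 13 (.third 8 24
  (.third 8 25 (.third 8 26 (.third 8 34 (.third 11 20 (.third 18 24 (.third 4 8 (.third 4 13
  (.leaf 39)))))))))))) (.under 3 24)))))))) (.branch 29 (.third 11 29 (.third 24 29 (.third 11
  17 (.clash 14)))) (.under 1 39)))) (.branch 35 (.branch 14 (.third 11 14 (.third 14 35 (.third
  11 25 (.branch 1 (.third 1 11 (.third 1 14 (.third 1 17 (.third 1 35 (.third 1 39 (.third 10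
  14 (.third 1 5 (.third 5 25 (.third 1 19 (.third 5 35 (.third 5 40 (.leaf 23))))))))))))
  (.branch 9 (.third 9 11 (.third 2 14 (.third 2 17 (.third 2 35 (.third 2 39 (.third 9 14
  (.third 2 6 (.third 6 25 (.third 2 18 (.third 6 35 (.third 6 41 (.leaf 31)))))))))))) (.branch
  33 (.third 11 33 (.third 14 43 (.third 18 25 (.third 6 11 (.third 6 14 (.clash 9)))))) (.under
  3 44))))))) (.branch 26 (.third 11 26 (.third 26 35 (.third 11 38 (.branch 1 (.third 1 11
  (.third 1 29 (.third 1 30 (.third 1 35 (.third 1 38 (.third 10 29 (.third 1 20 (.third 10 35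
  (.third 20 26 (.third 1 6 (.third 3 10 (.leaf 17)))))))))))) (.branch 9 (.third 9 11 (.third 2
  29 (.third 2 30 (.third 2 35 (.third 2 38 (.third 9 29 (.third 2 21 (.third 9 35 (.third 21 26
  (.third 2 5 (.third 4 9 (.leaf 28)))))))))))) (.branch 33 (.third 11 33 (.third 26 33 (.third
  11 37 (.third 21 26 (.third 5 11 (.third 5 29 (.third 5 35 (.third 11 27 (.third 21 22 (.third
  2 5 (.third 2 11 (.clash 9)))))))))))) (.under 3 44))))))) (.branch 29 (.third 11 29 (.third
  29 35 (.third 11 30 (.clash 26)))) (.under 1 39)))) (.branch 42 (.branch 14 (.third 11 14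
  (.third 14 42 (.third 11 30 (.branch 1 (.third 1 11 (.third 1 14 (.third 1 17 (.third 1 30
  (.third 1 42 (.third 10 14 (.third 1 5 (.third 5 26 (.third 1 21 (.third 5 30 (.third 5 43
  (.leaf 22)))))))))))) (.branch 9 (.third 9 11 (.third 2 14 (.third 2 17 (.third 2 30 (.third 2
  42 (.third 9 14 (.third 2 6 (.third 6 26 (.third 2 20 (.third 6 30 (.third 6 44 (.leaf
  32)))))))))))) (.branch 33 (.third 11 33 (.third 14 43 (.third 18 26 (.third 8 11 (.third 8 14
  (.third 8 17 (.third 8 33 (.third 8 42 (.third 10 11 (.clash 1)))))))))) (.under 3 44)))))))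
  (.branch 26 (.third 11 26 (.third 26 42 (.third 11 17 (.clash 14)))) (.branch 29 (.third 11 29
  (.third 29 42 (.third 11 25 (.branch 1 (.third 1 11 (.third 1 29 (.third 1 38 (.third 1 39
  (.third 1 42 (.third 10 29 (.third 1 20 (.third 10 42 (.third 20 25 (.third 1 4 (.third 4 10
  (.leaf 20)))))))))))) (.branch 9 (.third 9 11 (.third 2 29 (.third 2 38 (.third 2 39 (.third 2
  42 (.third 9 29 (.third 2 21 (.third 9 42 (.third 21 25 (.third 2 3 (.third 3 9 (.leaf
  25)))))))))))) (.branch 33 (.third 11 33 (.third 25 33 (.third 11 12 (.third 7 25 (.third 7 33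
  (.third 7 38 (.third 7 42 (.third 11 36 (.third 20 23 (.clash 1)))))))))) (.under 3 44)))))))
  (.under 1 39)))) (.under 0 11)))) (.branch 24 (.branch 35 (.branch 14 (.third 14 24 (.third 14
  35 (.third 24 25 (.branch 1 (.third 1 14 (.third 1 35 (.third 1 38 (.branch 3 (.overfull 10 3 14
  36) (.branch 18 (.overfull 16 18 34 38) (.branch 31 (.overfull 5 1 25 31) (.under 9 40))))))) (.branch
  9 (.third 9 14 (.third 6 24 (.third 6 25 (.third 6 26 (.third 6 35 (.third 9 25 (.third 6 41
  (.third 9 26 (.third 18 24 (.third 4 6 (.third 4 9 (.leaf 37)))))))))))) (.branch 33 (.third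
  25 33 (.third 12 14 (.third 2 38 (.branch 3 (.overfull 10 3 14 33) (.branch 18 (.overfull 16 12 18 38)
  (.branch 31 (.overfull 5 25 31 37) (.under 9 40))))))) (.branch 44 (.third 14 44 (.third 19 24
  (.third 3 25 (.third 3 26 (.third 3 35 (.third 19 25 (.third 3 5 (.third 5 14 (.third 3 10
  (.third 5 35 (.third 5 44 (.leaf 35)))))))))))) (.under 3 24)))))))) (.branch 26 (.third 24 26
  (.third 25 35 (.clash 14))) (.branch 29 (.third 24 29 (.third 17 35 (.third 24 39 (.branch 1
  (.third 1 17 (.third 1 29 (.third 1 30 (.third 1 35 (.third 1 39 (.third 16 30 (.third 16 35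
  (.third 1 22 (.third 19 24 (.third 1 3 (.third 3 16 (.leaf 18)))))))))))) (.branch 9 (.third 9
  17 (.third 7 24 (.third 7 39 (.branch 12 (.overfull 25 12 21 35) (.branch 27 (.overfull 11 17 27 43)
  (.under 4 41)))))) (.branch 33 (.third 17 33 (.third 18 24 (.third 4 30 (.third 4 35 (.third 4
  39 (.third 18 30 (.third 4 13 (.third 13 17 (.third 4 5 (.third 2 18 (.third 2 39 (.leaf
  30)))))))))))) (.branch 44 (.third 30 44 (.third 20 24 (.third 8 17 (.branch 12 (.overfull 25 8 12
  35) (.branch 27 (.overfull 11 17 20 27) (.under 4 41)))))) (.under 3 24)))))))) (.under 1 39))))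
  (.branch 42 (.branch 14 (.third 14 24 (.third 14 42 (.third 24 30 (.branch 1 (.third 1 14
  (.third 1 30 (.third 1 38 (.third 1 39 (.third 1 42 (.third 13 30 (.third 1 18 (.third 13 39
  (.third 18 24 (.third 1 4 (.third 4 13 (.leaf 21)))))))))))) (.branch 9 (.third 9 14 (.third 6
  24 (.third 6 30 (.branch 12 (.overfull 16 12 34 38) (.branch 26 (.overfull 1 14 26 39) (.branch 27
  (.overfull 20 6 27 42) (.under 4 41))))))) (.branch 33 (.third 30 33 (.third 5 14 (.third 5 24
  (.branch 12 (.overfull 16 5 12 38) (.branch 26 (.overfull 1 14 26 39) (.branch 27 (.overfull 20 23 27 42)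
  (.under 4 41))))))) (.branch 44 (.third 14 44 (.third 19 24 (.third 3 30 (.third 3 39 (.third
  3 42 (.third 19 30 (.third 3 12 (.third 12 14 (.third 2 3 (.third 2 19 (.third 2 30 (.leaf
  27)))))))))))) (.under 3 24)))))))) (.branch 26 (.third 24 26 (.third 25 42 (.third 24 29
  (.branch 1 (.third 1 17 (.third 1 29 (.third 1 42 (.branch 3 (.overfull 11 3 17 43) (.branch 18
  (.overfull 23 16 18 29) (.branch 31 (.overfull 5 1 25 31) (.under 9 40))))))) (.branch 9 (.third 9 17
  (.third 7 24 (.third 7 25 (.third 7 26 (.third 7 42 (.third 9 25 (.third 9 26 (.third 7 31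
  (.third 19 24 (.third 3 7 (.third 3 9 (.leaf 34)))))))))))) (.branch 33 (.third 17 33 (.third
  18 24 (.third 4 25 (.third 4 26 (.third 4 42 (.third 18 25 (.third 4 6 (.third 6 17 (.third 4
  12 (.third 6 29 (.third 6 40 (.leaf 38)))))))))))) (.branch 44 (.third 25 44 (.third 24 27
  (.third 15 17 (.branch 3 (.overfull 11 3 17 27) (.branch 22 (.overfull 17 15 22 42) (.under 10
  36)))))) (.under 3 24)))))))) (.branch 29 (.third 24 29 (.third 17 42 (.clash 26))) (.under 1
  39)))) (.under 0 24))) (.branch 35 (.branch 42 (.branch 14 (.third 14 35 (.third 14 42 (.third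
  25 42 (.branch 1 (.third 1 14 (.third 1 29 (.third 1 30 (.third 1 35 (.third 1 42 (.third 13
  29 (.third 13 30 (.third 1 18 (.third 18 25 (.third 1 6 (.third 3 13 (.leaf 16))))))))))))
  (.branch 9 (.third 9 14 (.third 6 25 (.third 6 29 (.third 6 30 (.third 6 35 (.third 9 25
  (.third 6 41 (.third 9 29 (.third 18 21 (.clash 1)))))))))) (.branch 33 (.third 25 33 (.third
  12 14 (.third 2 29 (.third 2 30 (.third 2 42 (.third 12 29 (.third 12 30 (.third 2 19 (.third
  19 25 (.third 2 5 (.third 4 12 (.leaf 29)))))))))))) (.under 3 44))))))) (.branch 26 (.third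
  26 35 (.third 26 42 (.third 17 35 (.branch 1 (.third 1 17 (.third 1 35 (.third 1 38 (.third 1
  39 (.third 1 42 (.third 16 35 (.third 1 22 (.third 16 38 (.third 19 26 (.third 1 7 (.third 4
  16 (.leaf 19)))))))))))) (.branch 9 (.third 9 17 (.third 7 26 (.third 7 38 (.third 7 39
  (.third 7 42 (.third 9 26 (.third 7 31 (.third 9 38 (.third 19 22 (.clash 1)))))))))) (.branch
  33 (.third 17 33 (.third 18 26 (.third 8 17 (.third 8 33 (.third 8 38 (.third 8 39 (.third 8
  42 (.third 10 38 (.third 18 23 (.third 2 8 (.third 2 17 (.leaf 26)))))))))))) (.under 3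
  44))))))) (.branch 29 (.third 29 35 (.third 29 42 (.third 25 35 (.clash 14)))) (.under 1
  39)))) (.under 0 35)) (.under 0 42)))))

theorem frameCert_ok : chk frameCert 0 0 = true := by decide +kernel

theorem fam_two : ∀ (i : Fin 40) (l : Fin 27), ∃ p q : Fin 45, p ≠ q ∧
    (line l &&& fam i) = (2 ^ p.1 ||| 2 ^ q.1) := by decide +kernel

/-- what is known about the set of points seen by a far point -/
structure IsOvoid2 (N : Fin 45 → Prop) : Prop where
  two : ∀ l : Fin 27, ∃ p q : Fin 45, p ≠ q ∧ ∀ r, ((line l).testBit r.1 = true ∧ N r ↔ r = p ∨ r = q)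
  closed : ∀ a b, N a → N b → a ≠ b → S45 a b = false → N (h45 a b)

theorem chk_sound {N : Fin 45 → Prop} (hN : IsOvoid2 N) : ∀ (c : Cert) (inn out : Nat), chk c inn out = true →
    (∀ p : Fin 45, inn.testBit p.1 = true → N p) → (∀ p : Fin 45, out.testBit p.1 = true → ¬ N p) →
    ∃ i : Fin 40, ∀ p, inFam i p = true → N p := by
  intro c
  induction c with
  | clash p =>
    intro inn out h hi ho
    simp only [chk, Bool.and_eq_true] at h
    exact absurd (hi _ h.1) (ho _ h.2)
  | overfull l p q r =>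
    intro inn out h hi _
    simp only [chk, Bool.and_eq_true, decide_eq_true_eq, Nat.testBit_and] at h
    obtain ⟨⟨n1, n2, n3⟩, ⟨h1, l1⟩, ⟨h2, l2⟩, h3, l3⟩ := h
    obtain ⟨u, v, -, huv⟩ := hN.two (fl l)
    have e1 := (huv _).mp ⟨l1, hi _ h1⟩
    have e2 := (huv _).mp ⟨l2, hi _ h2⟩
    have e3 := (huv _).mp ⟨l3, hi _ h3⟩
    rcases e1 with e1 | e1 <;> rcases e2 with e2 | e2 <;> rcases e3 with e3 | e3 <;>
      first
        | exact absurd (e1.trans e2.symm) n1
        | exact absurd (e1.trans e3.symm) n2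
        | exact absurd (e2.trans e3.symm) n3
  | under l p =>
    intro inn out h _ ho
    simp only [chk, beq_iff_eq] at h
    obtain ⟨u, v, hne, huv⟩ := hN.two (fl l)
    have key : ∀ r, (line (fl l)).testBit r.1 = true → N r → r = fp p := by
      intro r hl hr
      have e := congrArg (fun n => Nat.testBit n r.1) h
      simp only [Nat.testBit_or, Nat.testBit_two_pow, hl, Bool.true_or] at e
      have e' := e.symm
      simp only [Bool.or_eq_true, decide_eq_true_eq] at e'
      rcases e' with e' | e'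
      · exact absurd hr (ho _ e')
      · exact Fin.ext e'.symm
    obtain ⟨l1, h1⟩ := (huv u).mpr (Or.inl rfl)
    obtain ⟨l2, h2⟩ := (huv v).mpr (Or.inr rfl)
    exact absurd ((key u l1 h1).trans (key v l2 h2).symm) hne
  | leaf i =>
    intro inn out h hi _
    simp only [chk, beq_iff_eq] at h
    refine ⟨⟨i % 40, Nat.mod_lt _ (by norm_num)⟩, fun p hp => hi p ?_⟩
    unfold inFam at hp
    rw [← h, Nat.testBit_and, Bool.and_eq_true] at hp
    exact hp.1
  | third a b c ih =>
    intro inn out h hi ho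
    simp only [chk, Bool.and_eq_true, decide_eq_true_eq, Bool.not_eq_true'] at h
    obtain ⟨hne, hS, ha, hb, hc⟩ := h
    refine ih _ out hc (fun p hp => ?_) ho
    simp only [Nat.testBit_or, Bool.or_eq_true, Nat.testBit_two_pow, decide_eq_true_eq] at hp
    rcases hp with hp | hp
    · exact hi p hp
    · rw [show p = h45 (fp a) (fp b) from Fin.ext hp.symm]
      exact hN.closed _ _ (hi _ ha) (hi _ hb) hne hS
  | branch p y n ihy ihn =>
    intro inn out h hi ho
    simp only [chk, Bool.and_eq_true] at h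
    by_cases hp : N (fp p)
    · refine ihy _ out h.1 (fun r hr => ?_) ho
      simp only [Nat.testBit_or, Bool.or_eq_true, Nat.testBit_two_pow, decide_eq_true_eq] at hr
      rcases hr with hr | hr
      · exact hi r hr
      · rw [show r = fp p from Fin.ext hr.symm]
        exact hp
    · refine ihn inn _ h.2 hi fun r hr => ?_
      simp only [Nat.testBit_or, Bool.or_eq_true, Nat.testBit_two_pow, decide_eq_true_eq] at hr
      rcases hr with hr | hr
      · exact ho r hr
      · rw [show r = fp p from Fin.ext hr.symm]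
        exact hp

/-- such a set is a frame -/
theorem eq_frame {N : Fin 45 → Prop} (hN : IsOvoid2 N) : ∃ i : Fin 40, ∀ p, N p ↔ inFam i p = true := by
  obtain ⟨i, hi⟩ := chk_sound hN frameCert 0 0 frameCert_ok (by simp) (by simp)
  refine ⟨i, fun p => ⟨fun hp => ?_, hi p⟩⟩
  obtain ⟨l, hl⟩ := line_cover p
  obtain ⟨u, v, huv, hboth⟩ := hN.two l
  obtain ⟨u', v', huv', he⟩ := fam_two i l
  have hu' : (line l &&& fam i).testBit u'.1 = true := by rw [he]; simp [Nat.testBit_two_pow]
  have hv' : (line l &&& fam i).testBit v'.1 = true := by rw [he]; simp [Nat.testBit_two_pow]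
  rw [Nat.testBit_and, Bool.and_eq_true] at hu' hv'
  have e1 := (hboth u').mp ⟨hu'.1, hi _ hu'.2⟩
  have e2 := (hboth v').mp ⟨hv'.1, hi _ hv'.2⟩
  rcases (hboth p).mp ⟨hl, hp⟩ with e | e <;> rcases e1 with e1 | e1 <;> rcases e2 with e2 | e2 <;>
    first
      | exact absurd (e1.trans e2.symm) huv'
      | (rw [e, ← e1]; exact hu'.2)
      | (rw [e, ← e2]; exact hv'.2)

end Cfsg.Agent.Lib.FischerQuad75
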