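import Mathlib
import Cfsg.Agent.Lib.FischerQuad75.Facts
import Cfsg.Agent.Lib.FischerQuad75.Frames

/-!
A graph with third points which looks like the quadrangle at every vertex and in which every vertex
sees two members of a six-clique is the model graph on 126 points.
-/

set_option autoImplicit false
set_option linter.style.haveILetI false
set_option linter.unusedSectionVars false

namespace Cfsg.Agent.Lib.FischerQuad75

/-- a graph with the local properties of the model -/
structure Geo (V : Type*) [Fintype V] [DecidableEq V] where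
  adj : V → V → Prop
  th : V → V → V
  symm : ∀ u v, adj u v → adj v u
  irrefl : ∀ v, ¬ adj v v
  loc : ∀ v, ∃ L : Fin 45 → V, (∀ a b, L a = L b → a = b) ∧ (∀ w, adj v w ↔ ∃ a, L a = w) ∧
    ∀ a b, adj (L a) (L b) ↔ S45 a b = true
  th_spec : ∀ u v, u ≠ v → ¬ adj u v → th u v ≠ u ∧ th u v ≠ v ∧ ¬ adj u (th u v) ∧ ¬ adj v (th u v) ∧
    ∀ w, adj w u → adj w v → adj w (th u v)
  two : ∀ K : Finset V, K.card = 6 → (∀ x ∈ K, ∀ y ∈ K, x ≠ y → adj x y) → ∀ w ∉ K,
    ∃ p q, p ≠ q ∧ ∀ x, x ∈ K ∧ adj w x ↔ x = p ∨ x = q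

namespace Geo

variable {V : Type*} [Fintype V] [DecidableEq V] (X : Geo V)

/-- a labelling of the neighbours of a vertex -/
noncomputable def L (v : V) : Fin 45 → V := (X.loc v).choose

theorem L_inj (v : V) {a b : Fin 45} (h : X.L v a = X.L v b) : a = b := (X.loc v).choose_spec.1 a b h

theorem adj_iff (v w : V) : X.adj v w ↔ ∃ a, X.L v a = w := (X.loc v).choose_spec.2.1 w

theorem adj_L (v : V) (a : Fin 45) : X.adj v (X.L v a) := (X.adj_iff v _).mpr ⟨a, rfl⟩

theorem adj_LL (v : V) (a b : Fin 45) : X.adj (X.L v a) (X.L v b) ↔ S45 a b = true :=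
  (X.loc v).choose_spec.2.2 a b

theorem ne_of_adj {u v : V} (h : X.adj u v) : u ≠ v := fun e => X.irrefl v (e ▸ h)

theorem nadj_LL (v : V) {a b : Fin 45} (h : S45 a b = false) : ¬ X.adj (X.L v a) (X.L v b) := fun h' => by
  rw [X.adj_LL, h] at h'
  exact Bool.false_ne_true h'

/-- thirds inside the labelled neighbourhood -/
theorem th_L (v : V) {a b : Fin 45} (hne : a ≠ b) (hS : S45 a b = false) :
    X.th (X.L v a) (X.L v b) = X.L v (h45 a b) := by
  obtain ⟨t1, t2, -, -, tc⟩ := X.th_spec _ _ (fun e => hne (X.L_inj v e)) (X.nadj_LL v hS)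
  obtain ⟨d, hd⟩ := (X.adj_iff v _).mp (tc v (X.adj_L v a) (X.adj_L v b))
  rcases eq_h45 hne hS (d := d) fun c ha hb => by
      rw [← X.adj_LL v]
      rw [hd]
      exact tc _ ((X.adj_LL v c a).mpr (by rw [S45_symm]; exact ha)) ((X.adj_LL v c b).mpr (by rw [S45_symm]; exact hb))
    with h | h | h
  · exact absurd (by rw [← hd, h]) t1
  · exact absurd (by rw [← hd, h]) t2
  · rw [← hd, h]

/-- the third point is the only other one seeing all common neighbours next to a given one -/
theorem third_unique {u v p x : V} (hne : u ≠ v) (huv : ¬ X.adj u v) (hu : X.adj p u) (hv : X.adj p v)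
    (hx : X.adj p x) (h : ∀ c, X.adj c u → X.adj c v → X.adj p c → X.adj c x) :
    x = u ∨ x = v ∨ x = X.th u v := by
  obtain ⟨a, rfl⟩ := (X.adj_iff p u).mp hu
  obtain ⟨b, rfl⟩ := (X.adj_iff p v).mp hv
  obtain ⟨d, rfl⟩ := (X.adj_iff p x).mp hx
  have hab : a ≠ b := fun e => hne (e ▸ rfl)
  have hS : S45 a b = false := Bool.eq_false_iff.mpr fun e => huv ((X.adj_LL p a b).mpr e)
  rcases eq_h45 hab hS (d := d) fun c ha hb => (X.adj_LL p c d).mp
      (h _ ((X.adj_LL p c a).mpr (by rw [S45_symm]; exact ha)) ((X.adj_LL p c b).mpr (by rw [S45_symm]; exact hb))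
        (X.adj_L p c)) with e | e | e
  · exact Or.inl (by rw [e])
  · exact Or.inr (Or.inl (by rw [e]))
  · exact Or.inr (Or.inr (by rw [X.th_L p hab hS, e]))

/-- the six-clique of a line -/
noncomputable def six (v : V) (l : Fin 27) : Finset V :=
  insert v ((Finset.univ.filter fun a : Fin 45 => (line l).testBit a.1 = true).image (X.L v))

theorem mem_six {v x : V} {l : Fin 27} :
    x ∈ X.six v l ↔ x = v ∨ ∃ a, (line l).testBit a.1 = true ∧ X.L v a = x := by
  simp [six]

theorem six_card (v : V) (l : Fin 27) : (X.six v l).card = 6 := by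
  rw [six, Finset.card_insert_of_notMem, Finset.card_image_of_injective _ fun a b h => X.L_inj v h, line_card]
  simp only [Finset.mem_image, not_exists, not_and]
  exact fun a _ e => X.ne_of_adj (X.adj_L v a) e.symm

theorem six_clique {v : V} {l : Fin 27} : ∀ x ∈ X.six v l, ∀ y ∈ X.six v l, x ≠ y → X.adj x y := by
  intro x hx y hy hne
  rcases (X.mem_six).mp hx with rfl | ⟨a, ha, rfl⟩ <;> rcases (X.mem_six).mp hy with rfl | ⟨b, hb, rfl⟩
  · exact absurd rfl hne
  · exact X.adj_L _ b
  · exact X.symm _ _ (X.adj_L _ a)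
  · exact (X.adj_LL _ a b).mpr (line_adj ha hb fun e => hne (e ▸ rfl))

section Base

variable (o : V)

/-- a vertex outside the closed neighbourhood of `o` -/
def Far (w : V) : Prop := w ≠ o ∧ ¬ X.adj o w

theorem L_not_far (a : Fin 45) : ¬ X.Far o (X.L o a) := fun h => h.2 (X.adj_L o a)

theorem ovoid {w : V} (hw : X.Far o w) : IsOvoid2 fun a => X.adj w (X.L o a) := by
  refine ⟨fun l => ?_, fun a b ha hb hne hS => ?_⟩
  · have hnot : w ∉ X.six o l := by
      rw [X.mem_six]
      rintro (rfl | ⟨a, -, rfl⟩)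
      · exact hw.1 rfl
      · exact X.L_not_far o a hw
    obtain ⟨p, q, hpq, h⟩ := X.two _ (X.six_card o l) X.six_clique w hnot
    have key : ∀ x, x = p ∨ x = q → ∃ a, (line l).testBit a.1 = true ∧ X.L o a = x := by
      intro x hx
      obtain ⟨h1, h2⟩ := (h x).mpr hx
      rcases (X.mem_six).mp h1 with rfl | h1
      · exact absurd (X.symm _ _ h2) hw.2
      · exact h1
    obtain ⟨a, ha, rfl⟩ := key p (Or.inl rfl)
    obtain ⟨b, hb, rfl⟩ := key q (Or.inr rfl)
    refine ⟨a, b, fun e => hpq (e ▸ rfl), fun r => ⟨fun hr => ?_, fun hr => ?_⟩⟩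
    · rcases (h (X.L o r)).mp ⟨X.mem_six.mpr (Or.inr ⟨r, hr.1, rfl⟩), hr.2⟩ with e | e
      · exact Or.inl (X.L_inj o e)
      · exact Or.inr (X.L_inj o e)
    · rcases hr with rfl | rfl
      · exact ⟨ha, ((h _).mpr (Or.inl rfl)).2⟩
      · exact ⟨hb, ((h _).mpr (Or.inr rfl)).2⟩
  · show X.adj w (X.L o (h45 a b))
    rw [← X.th_L o hne hS]
    exact (X.th_spec _ _ (fun e => hne (X.L_inj o e)) (X.nadj_LL o hS)).2.2.2.2 w ha hb

open Classical in
/-- the frame of a far vertex -/
noncomputable def fr (w : V) : Fin 40 := if h : X.Far o w then (eq_frame (X.ovoid o h)).choose else 0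

theorem fr_spec {w : V} (hw : X.Far o w) (a : Fin 45) : X.adj w (X.L o a) ↔ inFam (X.fr o w) a = true := by
  rw [fr, dif_pos hw]
  exact (eq_frame (X.ovoid o hw)).choose_spec a

theorem exists_mem_fam (i : Fin 40) : ∃ a, inFam i a = true := by
  by_contra h
  push Not at h
  have := fam_card i
  rw [Finset.filter_eq_empty_iff.mpr fun a _ => by simp [h a]] at this
  simp at this

/-- the twin -/
theorem twin {w : V} (hw : X.Far o w) : X.Far o (X.th o w) ∧ X.th o w ≠ w ∧ ¬ X.adj w (X.th o w) ∧
    X.fr o (X.th o w) = X.fr o w := by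
  obtain ⟨t1, t2, t3, t4, tc⟩ := X.th_spec o w (Ne.symm hw.1) hw.2
  have hfar : X.Far o (X.th o w) := ⟨t1, t3⟩
  refine ⟨hfar, t2, t4, (fam_sub _ _ (Nat.eq_of_testBit_eq fun k => ?_)).symm⟩
  rw [Nat.testBit_and]
  by_cases hk : (fam (X.fr o w)).testBit k = true
  · have hk45 : k < 45 := by
      by_contra hk45
      have : fam (X.fr o w) < 2 ^ 45 := lt_of_le_of_lt Nat.and_le_right (by norm_num)
      rw [Nat.testBit_lt_two_pow (lt_of_lt_of_le this (Nat.pow_le_pow_right (by norm_num) (not_lt.mp hk45)))] at hk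
      exact Bool.false_ne_true hk
    have ha := (X.fr_spec o hw ⟨k, hk45⟩).mpr hk
    have hb := (X.fr_spec o hfar ⟨k, hk45⟩).mp
      (X.symm _ _ (tc _ (X.symm _ _ (X.adj_L o ⟨k, hk45⟩)) (X.symm _ _ ha)))
    rw [hk, show (fam (X.fr o (X.th o w))).testBit k = true from hb]
    rfl
  · rw [Bool.eq_false_iff.mpr hk]
    rfl

theorem fr_eq {w w' : V} (hw : X.Far o w) (hw' : X.Far o w') (h : X.fr o w = X.fr o w') :
    w' = w ∨ w' = X.th o w := by
  obtain ⟨a, ha⟩ := exists_mem_fam (X.fr o w)
  rcases X.third_unique (Ne.symm hw.1) hw.2 (p := X.L o a) (x := w') (X.symm _ _ (X.adj_L o a))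
      (X.symm _ _ ((X.fr_spec o hw a).mpr ha)) (X.symm _ _ ((X.fr_spec o hw' a).mpr (h ▸ ha))) fun c hco hcw _ => by
        obtain ⟨e, rfl⟩ := (X.adj_iff o c).mp (X.symm _ _ hco)
        exact X.symm _ _ ((X.fr_spec o hw' e).mpr (h ▸ (X.fr_spec o hw e).mp (X.symm _ _ hcw))) with e | e | e
  · exact absurd e hw'.1
  · exact Or.inl e
  · exact Or.inr e

open Classical in
theorem card_far : (Finset.univ.filter (X.Far o)).card = 80 := by
  have h32 : ∀ a : Fin 45, ((Finset.univ.filter (X.Far o)).filter fun w => X.adj w (X.L o a)).card = 32 := by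
    intro a
    set u := X.L o a
    have h45 : (Finset.univ.filter fun w => X.adj u w).card = 45 := by
      rw [show (Finset.univ.filter fun w => X.adj u w) = Finset.univ.image (X.L u) from Finset.ext fun w => by
        simp [X.adj_iff u w], Finset.card_image_of_injective _ fun b c h => X.L_inj u h, Finset.card_univ,
        Fintype.card_fin]
    have hsplit : (Finset.univ.filter fun w => X.adj u w) = insert o
        ((Finset.univ.filter fun b : Fin 45 => S45 a b = true).image (X.L o) ∪
          (Finset.univ.filter (X.Far o)).filter fun w => X.adj w u) := by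
      ext w
      simp only [Finset.mem_filter, Finset.mem_univ, true_and, Finset.mem_insert, Finset.mem_union, Finset.mem_image]
      constructor
      · intro h
        by_cases hwo : w = o
        · exact Or.inl hwo
        by_cases hadj : X.adj o w
        · obtain ⟨b, rfl⟩ := (X.adj_iff o w).mp hadj
          exact Or.inr (Or.inl ⟨b, (X.adj_LL o a b).mp h, rfl⟩)
        · exact Or.inr (Or.inr ⟨⟨hwo, hadj⟩, X.symm _ _ h⟩)
      · rintro (rfl | ⟨b, hb, rfl⟩ | ⟨-, h⟩)
        · exact X.symm _ _ (X.adj_L _ a)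
        · exact (X.adj_LL o a b).mpr hb
        · exact X.symm _ _ h
    rw [hsplit, Finset.card_insert_of_notMem, Finset.card_union_of_disjoint,
      Finset.card_image_of_injective _ fun b c h => X.L_inj o h, deg45] at h45
    · omega
    · rw [Finset.disjoint_left]
      intro w hw hw'
      simp only [Finset.mem_filter, Finset.mem_image, Finset.mem_univ, true_and] at hw hw'
      obtain ⟨b, -, rfl⟩ := hw
      exact X.L_not_far o b hw'.1
    · simp only [Finset.mem_union, Finset.mem_image, Finset.mem_filter, Finset.mem_univ, true_and]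
      rintro (⟨b, -, hb⟩ | ⟨⟨h, -⟩, -⟩)
      · exact X.ne_of_adj (X.adj_L o b) hb.symm
      · exact h rfl
  have h18 : ∀ w ∈ Finset.univ.filter (X.Far o), (Finset.univ.filter fun a => X.adj w (X.L o a)).card = 18 := by
    intro w hw
    rw [Finset.filter_congr fun a _ => X.fr_spec o (Finset.mem_filter.mp hw).2 a, fam_card]
  have e := Finset.sum_card_bipartiteAbove_eq_sum_card_bipartiteBelow (fun w a => X.adj w (X.L o a))
    (s := Finset.univ.filter (X.Far o)) (t := (Finset.univ : Finset (Fin 45)))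
  simp only [Finset.bipartiteAbove, Finset.bipartiteBelow] at e
  rw [Finset.sum_congr rfl h18, Finset.sum_congr rfl fun a _ => h32 a, Finset.sum_const, Finset.sum_const,
    Finset.card_univ, Fintype.card_fin, smul_eq_mul, smul_eq_mul] at e
  omega

open Classical in
theorem fr_surj (i : Fin 40) : ∃ w, X.Far o w ∧ X.fr o w = i := by
  by_contra hcon
  push Not at hcon
  set F := Finset.univ.filter (X.Far o) with hF
  have himg : (F.image (X.fr o)).card ≤ 39 := by
    refine le_trans (Finset.card_le_card (t := Finset.univ.erase i) fun j hj => ?_) (by simp)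
    obtain ⟨w, hw, rfl⟩ := Finset.mem_image.mp hj
    exact Finset.mem_erase.mpr ⟨hcon w (Finset.mem_filter.mp hw).2, Finset.mem_univ _⟩
  have h2 : ∀ j ∈ F.image (X.fr o), (F.filter fun w => X.fr o w = j).card ≤ 2 := by
    intro j hj
    obtain ⟨w, hw, rfl⟩ := Finset.mem_image.mp hj
    refine le_trans (Finset.card_le_card (t := {w, X.th o w}) fun x hx => ?_) Finset.card_le_two
    obtain ⟨hx, hxe⟩ := Finset.mem_filter.mp hx
    rcases X.fr_eq o (Finset.mem_filter.mp hw).2 (Finset.mem_filter.mp hx).2 hxe.symm with e | e <;> simp [e]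
  have := Finset.card_le_mul_card_image F 2 h2
  have hc : F.card = 80 := X.card_far o
  omega

end Base

end Geo

end Cfsg.Agent.Lib.FischerQuad75
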