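import Mathlib
import Cfsg.Agent.Lib.FischerQuad75.Geo

/-!
The labelling: twins over compatible frames meet in a matching, the propagation fixes all matchings,
and so the graph is the model graph, thirds included.
-/

set_option autoImplicit false
set_option linter.style.haveILetI false
set_option linter.unusedSectionVars false

namespace Cfsg.Agent.Lib.FischerQuad75

theorem compB_of_edge {i j : Fin 40} (hne : i ≠ j) {a b : Fin 45} (ai : inFam i a = true) (aj : inFam j a = true)
    (bi : inFam i b = true) (bj : inFam j b = true) (hS : S45 a b = true) : compB i j = true := by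
  have h1 : ((fam i &&& fam j).testBit a.1) = true := by
    simp only [inFam] at ai aj
    simp [ai, aj]
  have h2 : (fam i &&& fam j &&& srow a) ≠ 0 := by
    intro e
    have := congrArg (fun n => n.testBit b.1) e
    simp only [inFam] at bi bj
    simp only [S45] at hS
    simp [bi, bj, hS] at this
  simp only [compB, Bool.and_eq_true, decide_eq_true_eq, List.any_eq_true, List.mem_finRange, true_and, bne_iff_ne]
  exact ⟨hne, a, h1, h2⟩

theorem compB_ne {i j : Fin 40} (h : compB i j = true) : i ≠ j := by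
  simp only [compB, Bool.and_eq_true, decide_eq_true_eq] at h
  exact h.1

theorem testBit_pairBits {i j a b : Fin 40} (h : (pairBits i j).testBit (pix a b) = true) :
    (a = i ∧ b = j) ∨ (a = j ∧ b = i) := by
  simp only [pairBits, Nat.testBit_or, Bool.or_eq_true, Nat.testBit_two_pow, decide_eq_true_eq, pix] at h
  rcases h with h | h
  · exact Or.inl ⟨Fin.ext (by omega), Fin.ext (by omega)⟩
  · exact Or.inr ⟨Fin.ext (by omega), Fin.ext (by omega)⟩

namespace Geo

variable {V : Type*} [Fintype V] [DecidableEq V] (X : Geo V) (o : V)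

/-- adjacent far vertices lie over compatible frames -/
theorem comp_of_adj {w w' : V} (hw : X.Far o w) (hw' : X.Far o w') (h : X.adj w w') :
    compB (X.fr o w) (X.fr o w') = true := by
  have hne : X.fr o w ≠ X.fr o w' := by
    intro e
    rcases X.fr_eq o hw hw' e with rfl | rfl
    · exact X.irrefl _ h
    · exact (X.twin o hw).2.2.1 h
  obtain ⟨d, rfl⟩ := (X.adj_iff w w').mp h
  obtain ⟨l, hl⟩ := line_cover d
  have hnot : o ∉ X.six w l := by
    rw [X.mem_six]
    rintro (e | ⟨a, -, e⟩)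
    · exact hw.1 e.symm
    · exact hw.2 (X.symm _ _ (e ▸ X.adj_L w a))
  obtain ⟨p, q, hpq, hk⟩ := X.two _ (X.six_card w l) X.six_clique o hnot
  have key : ∀ x, x = p ∨ x = q → ∃ a, X.L o a = x ∧ inFam (X.fr o w) a = true ∧
      inFam (X.fr o (X.L w d)) a = true := by
    intro x hx
    obtain ⟨h1, h2⟩ := (hk x).mpr hx
    obtain ⟨a, rfl⟩ := (X.adj_iff o x).mp h2
    refine ⟨a, rfl, (X.fr_spec o hw a).mp ?_, (X.fr_spec o hw' a).mp ?_⟩
    · exact X.six_clique _ (X.mem_six.mpr (Or.inl rfl)) _ h1 fun e => hw.2 (e ▸ X.adj_L o a)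
    · exact X.six_clique _ (X.mem_six.mpr (Or.inr ⟨d, hl, rfl⟩)) _ h1 fun e => hw'.2 (e ▸ X.adj_L o a)
  obtain ⟨a, ha, a1, a2⟩ := key p (Or.inl rfl)
  obtain ⟨b, hb, b1, b2⟩ := key q (Or.inr rfl)
  refine compB_of_edge hne a1 a2 b1 b2 ((X.adj_LL o a b).mp ?_)
  rw [ha, hb]
  exact X.six_clique _ ((hk p).mpr (Or.inl rfl)).1 _ ((hk q).mpr (Or.inr rfl)).1 hpq

theorem not_both {w w' : V} (hw : X.Far o w) (hw' : X.Far o w') :
    ¬ (X.adj w w' ∧ X.adj w (X.th o w')) := by
  rintro ⟨h1, h2⟩
  obtain ⟨a, ha⟩ := exists_mem_fam (X.fr o w')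
  have hp1 : X.adj (X.L o a) w' := X.symm _ _ ((X.fr_spec o hw' a).mpr ha)
  obtain ⟨c, hc⟩ := (X.adj_iff _ o).mp (X.symm _ _ (X.adj_L o a))
  obtain ⟨e, he⟩ := (X.adj_iff _ w').mp hp1
  have hce : c ≠ e := fun h => hw'.1 (by rw [← hc, ← he, h])
  have hS : S45 c e = false := Bool.eq_false_iff.mpr fun h => hw'.2 (by
    rw [← hc, ← he]; exact (X.adj_LL _ c e).mpr h)
  have hS' : S45 e c = false := by rw [S45_symm]; exact hS
  have hth : X.th o w' = X.L (X.L o a) (h45 c e) := by
    conv_lhs => rw [← hc, ← he, X.th_L _ hce hS]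
  obtain ⟨-, -, k2, k3, -, k5⟩ := inter_eq e c (Ne.symm hce) hS'
  have hne' : e ≠ h45 c e := by
    intro h
    obtain ⟨-, t1, -, -, -⟩ := (inter_eq c e hce hS).2
    exact (inter_eq c e hce hS).2.2.1 h.symm
  have hnS : S45 e (h45 c e) = false := (inter_eq c e hce hS).2.2.2.2.2
  have hback : X.th w' (X.th o w') = o := by
    rw [hth]
    conv_lhs => rw [← he]
    rw [X.th_L _ hne' hnS, ← k3, h45_back e c (Ne.symm hce) hS', hc]
  have h := (X.th_spec w' (X.th o w') (Ne.symm (X.twin o hw').2.1) (X.twin o hw').2.2.1).2.2.2.2 w h1 h2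
  rw [hback] at h
  exact hw.2 (X.symm _ _ h)

open Classical in
theorem exists_adj {w : V} (hw : X.Far o w) {i : Fin 40} (h : compB (X.fr o w) i = true) :
    ∃ w', X.Far o w' ∧ X.fr o w' = i ∧ X.adj w w' := by
  set A := (Finset.univ.filter (X.Far o)).filter fun w' => X.adj w w' with hA
  have hcard : A.card = 27 := by
    have h45 : (Finset.univ.filter fun x => X.adj w x).card = 45 := by
      rw [show (Finset.univ.filter fun x => X.adj w x) = Finset.univ.image (X.L w) from Finset.ext fun x => by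
        simp [X.adj_iff w x], Finset.card_image_of_injective _ fun b c h => X.L_inj w h, Finset.card_univ,
        Fintype.card_fin]
    rw [show (Finset.univ.filter fun x => X.adj w x) =
        ((Finset.univ.filter fun a => inFam (X.fr o w) a = true).image (X.L o)) ∪ A from ?_,
      Finset.card_union_of_disjoint, Finset.card_image_of_injective _ fun b c h => X.L_inj o h, fam_card] at h45
    · omega
    · rw [Finset.disjoint_left]
      intro x hx hx'
      obtain ⟨a, -, rfl⟩ := Finset.mem_image.mp hx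
      simp only [hA, Finset.mem_filter, Finset.mem_univ, true_and] at hx'
      exact X.L_not_far o a hx'.1
    · ext x
      simp only [hA, Finset.mem_filter, Finset.mem_univ, true_and, Finset.mem_union, Finset.mem_image]
      constructor
      · intro hx
        by_cases hox : X.adj o x
        · obtain ⟨a, rfl⟩ := (X.adj_iff o x).mp hox
          exact Or.inl ⟨a, (X.fr_spec o hw a).mp hx, rfl⟩
        · exact Or.inr ⟨⟨fun e => hw.2 (X.symm _ _ (e ▸ hx)), hox⟩, hx⟩
      · rintro (⟨a, ha, rfl⟩ | ⟨-, hx⟩)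
        · exact (X.fr_spec o hw a).mpr ha
        · exact hx
  have hinj : Set.InjOn (X.fr o) (A : Set V) := by
    intro x hx y hy e
    simp only [hA, Finset.coe_filter, Finset.mem_filter, Finset.mem_univ, true_and, Set.mem_setOf_eq] at hx hy
    rcases X.fr_eq o hx.1 hy.1 e with r | r
    · exact r.symm
    · exact absurd ⟨hx.2, r ▸ hy.2⟩ (X.not_both o hw hx.1)
  have heq : A.image (X.fr o) = Finset.univ.filter fun j => compB (X.fr o w) j = true := by
    refine Finset.eq_of_subset_of_card_le (fun j hj => ?_) ?_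
    · obtain ⟨x, hx, rfl⟩ := Finset.mem_image.mp hj
      simp only [hA, Finset.mem_filter, Finset.mem_univ, true_and] at hx
      exact Finset.mem_filter.mpr ⟨Finset.mem_univ _, X.comp_of_adj o hw hx.1 hx.2⟩
    · rw [Finset.card_image_of_injOn hinj, hcard, comp_count]
  have hi : i ∈ A.image (X.fr o) := heq ▸ Finset.mem_filter.mpr ⟨Finset.mem_univ _, h⟩
  obtain ⟨w', hw', rfl⟩ := Finset.mem_image.mp hi
  simp only [hA, Finset.mem_filter, Finset.mem_univ, true_and] at hw'
  exact ⟨w', hw'.1, rfl, hw'.2⟩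

/-- a choice of a vertex over every frame -/
def IsRep (ρ : Fin 40 → V) : Prop := ∀ i, X.Far o (ρ i) ∧ X.fr o (ρ i) = i

/-- the vertex with a given twin bit -/
def tw (ρ : Fin 40 → V) (i : Fin 40) (b : Bool) : V := bif b then X.th o (ρ i) else ρ i

open Classical in
/-- the twin bit of two frames under a choice -/
noncomputable def dd (ρ : Fin 40 → V) (i j : Fin 40) : Bool := decide (X.adj (ρ i) (ρ j))

variable {ρ : Fin 40 → V}

theorem tw_spec (h : X.IsRep o ρ) (i : Fin 40) (b : Bool) : X.Far o (X.tw o ρ i b) ∧ X.fr o (X.tw o ρ i b) = i := by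
  cases b
  · exact h i
  · exact ⟨(X.twin o (h i).1).1, (X.twin o (h i).1).2.2.2.trans (h i).2⟩

theorem tw_cases (h : X.IsRep o ρ) {w : V} (hw : X.Far o w) : ∃ b, X.tw o ρ (X.fr o w) b = w := by
  rcases X.fr_eq o (h (X.fr o w)).1 hw (h _).2 with e | e
  · exact ⟨false, e.symm⟩
  · exact ⟨true, e.symm⟩

theorem dd_symm (ρ : Fin 40 → V) (i j : Fin 40) : X.dd ρ i j = X.dd ρ j i := by
  simp only [dd]
  congr 1
  exact propext ⟨X.symm _ _, X.symm _ _⟩

theorem adj_tw (h : X.IsRep o ρ) {i j : Fin 40} (hc : compB i j = true) (b c : Bool) :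
    X.adj (X.tw o ρ i b) (X.tw o ρ j c) ↔ xor (xor b c) (X.dd ρ i j) = true := by
  have one : ∀ (i j : Fin 40) (b : Bool), compB i j = true →
      (X.adj (X.tw o ρ i b) (X.tw o ρ j true) ↔ ¬ X.adj (X.tw o ρ i b) (X.tw o ρ j false)) := by
    intro i j b hc
    refine ⟨fun h1 h2 => X.not_both o (X.tw_spec o h i b).1 (h j).1 ⟨h2, h1⟩, fun hn => ?_⟩
    obtain ⟨w', hw', hf, hadj⟩ := X.exists_adj o (X.tw_spec o h i b).1
      (show compB (X.fr o (X.tw o ρ i b)) j = true by rw [(X.tw_spec o h i b).2]; exact hc)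
    rcases X.fr_eq o (h j).1 hw' ((h j).2.trans hf.symm) with e | e
    · rw [e] at hadj; exact absurd hadj hn
    · rw [e] at hadj; exact hadj
  have e0 : X.adj (X.tw o ρ i false) (X.tw o ρ j false) ↔ X.dd ρ i j = true := by simp [dd, tw]
  have e1 := one i j false hc
  have e2 : X.adj (X.tw o ρ i true) (X.tw o ρ j false) ↔ ¬ X.adj (X.tw o ρ i false) (X.tw o ρ j false) := by
    have := one j i false (by rw [comp_symm]; exact hc)
    exact ⟨fun a a' => this.mp (X.symm _ _ a) (X.symm _ _ a'), fun a => X.symm _ _ (this.mpr fun a' => a (X.symm _ _ a'))⟩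
  have e3 := one i j true hc
  cases b <;> cases c <;> cases hd : X.dd ρ i j <;> simp_all

theorem not_adj_tw (h : X.IsRep o ρ) {i j : Fin 40} (hc : compB i j = false) (b c : Bool) :
    ¬ X.adj (X.tw o ρ i b) (X.tw o ρ j c) := fun ha => by
  have := X.comp_of_adj o (X.tw_spec o h i b).1 (X.tw_spec o h j c).1 ha
  rw [(X.tw_spec o h i b).2, (X.tw_spec o h j c).2, hc] at this
  exact Bool.false_ne_true this

/-- two rules for three mutually compatible frames -/
theorem rule_zero (h : X.IsRep o ρ) {k i j : Fin 40} (h1 : compB k i = true) (h2 : compB k j = true)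
    (h3 : compB i j = true) {p q : Fin 45} (hpq : S45 p q = true) (pk : inFam k p = true) (pi : inFam i p = true)
    (pj : inFam j p = true) (qk : inFam k q = true) (qi : inFam i q = true) (qj : inFam j q = true) :
    xor (xor (X.dd ρ k i) (X.dd ρ k j)) (X.dd ρ i j) = true := by
  set x := X.tw o ρ k false
  set y := X.tw o ρ i (!X.dd ρ k i)
  set z := X.tw o ρ j (!X.dd ρ k j)
  have hxy : X.adj x y := (X.adj_tw o h h1 _ _).mpr (by cases X.dd ρ k i <;> rfl)
  have hxz : X.adj x z := (X.adj_tw o h h2 _ _).mpr (by cases X.dd ρ k j <;> rfl)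
  have at_p : ∀ {t : Fin 40} (b : Bool) {a : Fin 45}, inFam t a = true → X.adj (X.L o a) (X.tw o ρ t b) :=
    fun {t} b {a} ha => X.symm _ _ ((X.fr_spec o (X.tw_spec o h t b).1 a).mpr (by rw [(X.tw_spec o h t b).2]; exact ha))
  have hyz : X.adj y z := by
    obtain ⟨cq, eq'⟩ := (X.adj_iff (X.L o p) _).mp ((X.adj_LL o p q).mpr hpq)
    obtain ⟨cx, ex⟩ := (X.adj_iff (X.L o p) x).mp (at_p false pk)
    obtain ⟨cy, ey⟩ := (X.adj_iff (X.L o p) y).mp (at_p _ pi)
    obtain ⟨cz, ez⟩ := (X.adj_iff (X.L o p) z).mp (at_p _ pj)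
    have w1 : X.adj (X.L o q) x := at_p false qk
    have w2 : X.adj (X.L o q) y := at_p _ qi
    have w3 : X.adj (X.L o q) z := at_p _ qj
    have hyz' : y ≠ z := fun e => compB_ne h3 (by
      rw [← (X.tw_spec o h i (!X.dd ρ k i)).2, ← (X.tw_spec o h j (!X.dd ρ k j)).2]
      exact congrArg (X.fr o) e)
    rw [← eq', ← ex, X.adj_LL] at w1
    rw [← eq', ← ey, X.adj_LL] at w2
    rw [← eq', ← ez, X.adj_LL] at w3
    rw [← ex, ← ey, X.adj_LL] at hxy
    rw [← ex, ← ez, X.adj_LL] at hxz
    rw [← ey, ← ez, X.adj_LL]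
    exact clique_of_mask w1 w2 hxy w3 hxz fun e => hyz' (by rw [← ey, ← ez, e])
  have := (X.adj_tw o h h3 _ _).mp hyz
  revert this
  cases X.dd ρ k i <;> cases X.dd ρ k j <;> cases X.dd ρ i j <;> simp

theorem rule_one (h : X.IsRep o ρ) {k i j : Fin 40} (h1 : compB k i = true) (h2 : compB k j = true)
    (h3 : compB i j = true) {p : Fin 45} (pk : inFam k p = true) (pi : inFam i p = true)
    (pj : inFam j p = true)
    (hno : ∀ a b : Fin 45, inFam k a = true → inFam i a = true → inFam j a = true → inFam k b = true →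
      inFam i b = true → inFam j b = true → S45 a b = false) :
    xor (xor (X.dd ρ k i) (X.dd ρ k j)) (X.dd ρ i j) = false := by
  by_contra hcon
  set x := X.tw o ρ k false
  set y := X.tw o ρ i (!X.dd ρ k i)
  set z := X.tw o ρ j (!X.dd ρ k j)
  have hxy : X.adj x y := (X.adj_tw o h h1 _ _).mpr (by cases X.dd ρ k i <;> rfl)
  have hxz : X.adj x z := (X.adj_tw o h h2 _ _).mpr (by cases X.dd ρ k j <;> rfl)
  have hyz : X.adj y z := (X.adj_tw o h h3 _ _).mpr (by
    revert hcon
    cases X.dd ρ k i <;> cases X.dd ρ k j <;> cases X.dd ρ i j <;> simp)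
  have at_p : ∀ {t : Fin 40} (b : Bool) {a : Fin 45}, inFam t a = true → X.adj (X.L o a) (X.tw o ρ t b) :=
    fun {t} b {a} ha => X.symm _ _ ((X.fr_spec o (X.tw_spec o h t b).1 a).mpr (by rw [(X.tw_spec o h t b).2]; exact ha))
  set P := X.L o p
  obtain ⟨cx, ex⟩ := (X.adj_iff P x).mp (at_p false pk)
  obtain ⟨cy, ey⟩ := (X.adj_iff P y).mp (at_p _ pi)
  obtain ⟨cz, ez⟩ := (X.adj_iff P z).mp (at_p _ pj)
  have hyz' : y ≠ z := fun e => compB_ne h3 (by
    rw [← (X.tw_spec o h i (!X.dd ρ k i)).2, ← (X.tw_spec o h j (!X.dd ρ k j)).2]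
    exact congrArg (X.fr o) e)
  rw [← ex, ← ey, X.adj_LL] at hxy
  rw [← ex, ← ez, X.adj_LL] at hxz
  rw [← ey, ← ez, X.adj_LL] at hyz
  obtain ⟨l, hl⟩ := line_of_edge cx cy hxy
  have mx : (line l).testBit cx.1 = true := by rw [hl]; simp [Nat.testBit_two_pow]
  have my : (line l).testBit cy.1 = true := by rw [hl]; simp [Nat.testBit_two_pow]
  have mz : (line l).testBit cz.1 = true := by
    rw [hl]
    simp only [S45] at hxz hyz
    simp [hxz, hyz]
  have hfx : X.Far o x := (X.tw_spec o h k false).1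
  have hfy : X.Far o y := (X.tw_spec o h i _).1
  have hfz : X.Far o z := (X.tw_spec o h j _).1
  have hnot : o ∉ X.six P l := by
    rw [X.mem_six]
    rintro (e | ⟨a, ha, e⟩)
    · exact X.ne_of_adj (X.adj_L o p) e
    · by_cases hc : a = cx
      · exact hfx.1 (by rw [← ex, ← hc, e])
      · refine hfx.2 ?_
        rw [← e, ← ex, X.adj_LL]
        exact line_adj ha mx hc
  obtain ⟨u, v, huv, hk⟩ := X.two _ (X.six_card P l) X.six_clique o hnot
  obtain ⟨w, hwP, hwu⟩ : ∃ w, w ≠ P ∧ (w = u ∨ w = v) := by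
    rcases (hk P).mp ⟨X.mem_six.mpr (Or.inl rfl), X.adj_L o p⟩ with e | e
    · exact ⟨v, fun e' => huv (e.symm.trans e'.symm), Or.inr rfl⟩
    · exact ⟨u, fun e' => huv (e'.trans e), Or.inl rfl⟩
  obtain ⟨hw6, hwo⟩ := (hk w).mpr hwu
  obtain ⟨q, hq⟩ := (X.adj_iff o w).mp hwo
  have hqf : ∀ {t : Fin 40} {b : Bool} {c : Fin 45}, (line l).testBit c.1 = true → X.L P c = X.tw o ρ t b →
      inFam t q = true := by
    intro t b c hc ec
    have hne : X.tw o ρ t b ≠ w := fun e => (X.tw_spec o h t b).1.2 (e ▸ hwo)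
    have := X.six_clique _ (X.mem_six.mpr (Or.inr ⟨c, hc, ec⟩)) _ hw6 hne
    rw [← hq] at this
    rw [← (X.tw_spec o h t b).2]
    exact (X.fr_spec o (X.tw_spec o h t b).1 q).mp this
  have hpq : S45 p q = true := by
    rw [← X.adj_LL o, hq]
    exact X.six_clique _ (X.mem_six.mpr (Or.inl rfl)) _ hw6 hwP.symm
  rw [hno p q pk pi pj (hqf mx ex) (hqf my ey) (hqf mz ez)] at hpq
  exact Bool.false_ne_true hpq

theorem exists_gauge : ∀ (t : List (Nat × Nat)) (seen : List (Fin 40)) (ρ : Fin 40 → V), X.IsRep o ρ →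
    treeOK t seen = true → ∀ (known : List (Nat × Nat)), (∀ p ∈ known, ff p.1 ∈ seen ∧ ff p.2 ∈ seen ∧
      compB (ff p.1) (ff p.2) = true ∧ X.dd ρ (ff p.1) (ff p.2) = md (ff p.1) (ff p.2)) →
    ∃ ρ' : Fin 40 → V, X.IsRep o ρ' ∧ ∀ p ∈ known ++ t,
      compB (ff p.1) (ff p.2) = true ∧ X.dd ρ' (ff p.1) (ff p.2) = md (ff p.1) (ff p.2) := by
  intro t
  induction t with
  | nil => exact fun _ ρ h _ known hk => ⟨ρ, h, fun p hp => (hk p (by simpa using hp)).2.2⟩
  | cons e t ih =>
    intro seen ρ h hok known hk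
    obtain ⟨a, b⟩ := e
    simp only [treeOK, Bool.and_eq_true, Bool.not_eq_true', List.contains_eq_mem, decide_eq_true_eq,
      decide_eq_false_iff_not] at hok
    obtain ⟨ha, hb, hc, hrest⟩ := hok
    have hab : ff a ≠ ff b := compB_ne hc
    set ρ' : Fin 40 → V := Function.update ρ (ff b)
      (X.tw o ρ (ff b) (xor (md (ff a) (ff b)) (X.dd ρ (ff a) (ff b)))) with hρ'
    have hrep : X.IsRep o ρ' := by
      intro i
      rw [hρ']
      by_cases hi : i = ff b
      · subst hi; rw [Function.update_self]; exact X.tw_spec o h _ _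
      · rw [Function.update_of_ne hi]; exact h i
    have hnew : X.dd ρ' (ff a) (ff b) = md (ff a) (ff b) := by
      have hh := X.adj_tw o h hc false (xor (md (ff a) (ff b)) (X.dd ρ (ff a) (ff b)))
      rw [show X.tw o ρ (ff a) false = ρ' (ff a) from (Function.update_of_ne hab _ _).symm,
        show X.tw o ρ (ff b) (xor (md (ff a) (ff b)) (X.dd ρ (ff a) (ff b))) = ρ' (ff b) from
          (Function.update_self (ff b) _ ρ).symm] at hh
      classical
      rw [show X.dd ρ' (ff a) (ff b) = decide (X.adj (ρ' (ff a)) (ρ' (ff b))) from rfl]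
      cases hm : md (ff a) (ff b) <;> cases hd : X.dd ρ (ff a) (ff b) <;> simp [hm, hd] at hh ⊢ <;>
        exact hh
    obtain ⟨ρ'', h'', hall⟩ := ih (ff b :: seen) ρ' hrep hrest (known ++ [(a, b)]) (fun p hp => by
      rcases List.mem_append.mp hp with hp | hp
      · obtain ⟨k1, k2, k3, k4⟩ := hk p hp
        refine ⟨List.mem_cons_of_mem _ k1, List.mem_cons_of_mem _ k2, k3, ?_⟩
        rw [← k4]
        have e1 : ρ' (ff p.1) = ρ (ff p.1) :=
          Function.update_of_ne (show ff p.1 ≠ ff b from fun e => hb (e ▸ k1)) _ _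
        have e2 : ρ' (ff p.2) = ρ (ff p.2) :=
          Function.update_of_ne (show ff p.2 ≠ ff b from fun e => hb (e ▸ k2)) _ _
        exact decide_eq_decide.mpr (by rw [e1, e2])
      · rw [List.mem_singleton.mp hp]
        exact ⟨List.mem_cons_of_mem _ ha, List.mem_cons_self, hc, hnew⟩)
    exact ⟨ρ'', h'', fun p hp => hall p (by simpa using hp)⟩

theorem steps_sound (h : X.IsRep o ρ) : ∀ (l : List (Nat × Nat × Nat × Nat × Nat × Nat)) (known : Nat),
    stepsOK l known = true →
    (∀ a b : Fin 40, known.testBit (pix a b) = true → compB a b = true ∧ X.dd ρ a b = md a b) →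
    ∀ i j : Fin 40, compB i j = true → X.dd ρ i j = md i j := by
  intro l
  induction l with
  | nil =>
    intro known hok hk i j hc
    simp only [stepsOK, List.all_eq_true, List.mem_finRange, forall_const, Bool.or_eq_true, Bool.not_eq_true'] at hok
    rcases hok i j with e | e
    · rw [hc] at e; exact Bool.noConfusion e
    · exact (hk i j e).2
  | cons s l ih =>
    intro known hok hk
    obtain ⟨k, i, j, t, p, q⟩ := s
    simp only [stepsOK, Bool.and_eq_true, beq_iff_eq] at hok
    obtain ⟨k1, k2, k3, ⟨pk, pi, pj⟩, hside, hpar, hrest⟩ := hok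
    obtain ⟨c1, d1⟩ := hk _ _ k1
    obtain ⟨c2, d2⟩ := hk _ _ k2
    have hd3 : X.dd ρ (ff i) (ff j) = md (ff i) (ff j) := by
      have hd : xor (xor (X.dd ρ (ff k) (ff i)) (X.dd ρ (ff k) (ff j))) (X.dd ρ (ff i) (ff j)) = (t == 0) := by
        cases ht : (t == 0)
        · rw [ht, cond_false] at hside
          simp only [List.all_eq_true, List.mem_finRange, forall_const, Bool.or_eq_true, Bool.not_eq_true',
            beq_iff_eq] at hside
          refine X.rule_one o h c1 c2 k3 pk pi pj fun a b a1 a2 a3 b1 b2 b3 => ?_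
          rcases hside a with e | e
          · simp only [inFam] at a1 a2 a3
            simp [a1, a2, a3] at e
          · have := congrArg (fun n => n.testBit b.1) e
            simp only [inFam] at b1 b2 b3
            simp only [S45]
            simpa [b1, b2, b3] using this
        · rw [ht, cond_true] at hside
          simp only [Bool.and_eq_true] at hside
          exact X.rule_zero o h c1 c2 k3 hside.1 pk pi pj hside.2.1 hside.2.2.1 hside.2.2.2
      rw [d1, d2, ← hpar] at hd
      revert hd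
      cases md (ff k) (ff i) <;> cases md (ff k) (ff j) <;> cases md (ff i) (ff j) <;>
        cases X.dd ρ (ff i) (ff j) <;> simp
    refine ih _ hrest fun a b hab => ?_
    rw [Nat.testBit_or, Bool.or_eq_true] at hab
    rcases hab with e | e
    · exact hk a b e
    · rcases testBit_pairBits e with ⟨rfl, rfl⟩ | ⟨rfl, rfl⟩
      · exact ⟨k3, hd3⟩
      · exact ⟨by rw [comp_symm]; exact k3, by rw [X.dd_symm, md_symm]; exact hd3⟩

theorem exists_rep : ∃ ρ : Fin 40 → V, X.IsRep o ρ ∧ ∀ i j, compB i j = true → X.dd ρ i j = md i j := by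
  choose ρ₀ h1 h2 using X.fr_surj o
  obtain ⟨ρ, h, hall⟩ := X.exists_gauge o treeT [0] ρ₀ (fun i => ⟨h1 i, h2 i⟩) treeT_ok [] (by simp)
  simp only [List.nil_append] at hall
  refine ⟨ρ, h, X.steps_sound o h stepT treeBits steps_ok ?_⟩
  have key : ∀ (t : List (Nat × Nat)) (acc : Nat) (a b : Fin 40),
      (t.foldl (fun acc p => acc ||| pairBits (ff p.1) (ff p.2)) acc).testBit (pix a b) = true →
      acc.testBit (pix a b) = true ∨ ∃ p ∈ t, (pairBits (ff p.1) (ff p.2)).testBit (pix a b) = true := by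
    intro t
    induction t with
    | nil => exact fun acc a b h => Or.inl h
    | cons p t ih =>
      intro acc a b h
      rcases ih _ a b h with h | ⟨r, hr, h⟩
      · rw [Nat.testBit_or, Bool.or_eq_true] at h
        rcases h with h | h
        · exact Or.inl h
        · exact Or.inr ⟨p, List.mem_cons_self, h⟩
      · exact Or.inr ⟨r, List.mem_cons_of_mem _ hr, h⟩
  intro a b hab
  rcases key treeT 0 a b hab with e | ⟨p, hp, e⟩
  · simp at e
  · obtain ⟨c, d⟩ := hall p hp
    rcases testBit_pairBits e with ⟨rfl, rfl⟩ | ⟨rfl, rfl⟩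
    · exact ⟨c, d⟩
    · exact ⟨by rw [comp_symm]; exact c, by rw [X.dd_symm, md_symm]; exact d⟩

/-- the graph is the model -/
theorem exists_labelling : ∃ e : Fin 126 → V, Function.Bijective e ∧ e 0 = o ∧
    (∀ i j, X.adj (e i) (e j) ↔ adjB i j = true) ∧
    ∀ i j, i ≠ j → adjB i j = false → X.th (e i) (e j) = e (R j i) := by
  classical
  obtain ⟨ρ, hρ, hdd⟩ := X.exists_rep o
  let e : Fin 126 → V := fun k =>
    if k.1 = 0 then o else if h : k.1 < 46 then X.L o ⟨k.1 - 1, by omega⟩
    else X.tw o ρ ⟨(k.1 - 46) / 2, by omega⟩ (decide (k.1 % 2 = 1))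
  have e0 : e 0 = o := by simp [e]
  have eL : ∀ a, e (la a) = X.L o a := by
    intro a
    simp only [e, la]
    rw [if_neg (by omega), dif_pos (by omega)]
    exact congrArg (X.L o) (Fin.ext (by simp))
  have eF : ∀ i b, e (farPt i b) = X.tw o ρ i b := by
    intro i b
    simp only [e, farPt]
    rw [if_neg (by cases b <;> simp <;> omega), dif_neg (by cases b <;> simp <;> omega)]
    congr 1
    · exact Fin.ext (by cases b <;> simp; omega)
    · cases b <;> simp [Nat.add_mod]
  have hadj : ∀ i j, X.adj (e i) (e j) ↔ adjB i j = true := by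
    intro i j
    rcases cases126 i with rfl | ⟨a, rfl⟩ | ⟨s, b, rfl⟩ <;> rcases cases126 j with rfl | ⟨a', rfl⟩ | ⟨s', b', rfl⟩ <;>
      simp only [e0, eL, eF]
    · simp [X.irrefl, adj_irrefl]
    · simp [X.adj_L, adj_zero_la]
    · simp [(X.tw_spec o hρ s' b').1.2, adj_zero_far]
    · simp [X.symm _ _ (X.adj_L o a), adj_symm (la a) 0, adj_zero_la]
    · rw [X.adj_LL, adj_la]
    · rw [adj_la_far]
      have := X.fr_spec o (X.tw_spec o hρ s' b').1 a
      rw [(X.tw_spec o hρ s' b').2] at this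
      exact ⟨fun h => this.mp (X.symm _ _ h), fun h => X.symm _ _ (this.mpr h)⟩
    · simp only [adj_symm (farPt s b) 0, adj_zero_far, Bool.false_eq_true, iff_false]
      exact fun h => (X.tw_spec o hρ s b).1.2 (X.symm _ _ h)
    · rw [adj_symm, adj_la_far]
      have := X.fr_spec o (X.tw_spec o hρ s b).1 a'
      rw [(X.tw_spec o hρ s b).2] at this
      exact this
    · rw [far_adj]
      cases hc : compB s s'
      · simp [X.not_adj_tw o hρ hc b b']
      · rw [X.adj_tw o hρ hc, hdd s s' hc, md]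
        simp
  have hinj : Function.Injective e := by
    intro i j h
    rcases cases126 i with rfl | ⟨a, rfl⟩ | ⟨s, b, rfl⟩ <;> rcases cases126 j with rfl | ⟨a', rfl⟩ | ⟨s', b', rfl⟩ <;>
      simp only [e0, eL, eF] at h
    · rfl
    · exact absurd h (X.ne_of_adj (X.adj_L o a'))
    · exact absurd h.symm (X.tw_spec o hρ s' b').1.1
    · exact absurd h.symm (X.ne_of_adj (X.adj_L o a))
    · rw [X.L_inj o h]
    · exact absurd (h ▸ (X.tw_spec o hρ s' b').1) (X.L_not_far o a)
    · exact absurd h (X.tw_spec o hρ s b).1.1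
    · exact absurd (h.symm ▸ (X.tw_spec o hρ s b).1) (X.L_not_far o a')
    · have hs : s = s' := by rw [← (X.tw_spec o hρ s b).2, ← (X.tw_spec o hρ s' b').2, h]
      subst hs
      have hn : X.th o (ρ s) ≠ ρ s := (X.twin o (hρ s).1).2.1
      cases b <;> cases b'
      · rfl
      · exact absurd h.symm hn
      · exact absurd h hn
      · rfl
  have hsurj : Function.Surjective e := by
    intro v
    by_cases h1 : v = o
    · exact ⟨0, h1 ▸ e0⟩
    by_cases h2 : X.adj o v
    · obtain ⟨a, rfl⟩ := (X.adj_iff o v).mp h2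
      exact ⟨la a, eL a⟩
    · obtain ⟨b, hb⟩ := X.tw_cases o hρ (w := v) ⟨h1, h2⟩
      exact ⟨farPt (X.fr o v) b, by rw [eF, hb]⟩
  refine ⟨e, ⟨hinj, hsurj⟩, e0, hadj, fun i j hij hA => ?_⟩
  obtain ⟨p, hp1, hp2⟩ := exists_common hij hA
  have hne : e i ≠ e j := fun h => hij (hinj h)
  have hna : ¬ X.adj (e i) (e j) := fun h => by rw [(hadj i j).mp h] at hA; exact Bool.noConfusion hA
  obtain ⟨r1, r2, -, -, -, -, -⟩ := R_spec hij hA
  have hp1' : adjB p i = true := by rw [adj_symm]; exact hp1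
  have hp2' : adjB p j = true := by rw [adj_symm]; exact hp2
  rcases X.third_unique hne hna (p := e p) (x := e (R j i)) ((hadj p i).mpr hp1') ((hadj p j).mpr hp2')
      ((hadj _ _).mpr (R_common hij hA hp1' hp2')) fun c hc1 hc2 _ => by
        obtain ⟨c, rfl⟩ := hsurj c
        exact (hadj _ _).mpr (R_common hij hA ((hadj _ _).mp hc1) ((hadj _ _).mp hc2)) with h | h | h
  · exact absurd (hinj h) r1
  · exact absurd (hinj h) r2
  · exact h.symm

end Geo

end Cfsg.Agent.Lib.FischerQuad75
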