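import Mathlib
import Cfsg.Agent.Lib.SU32.Derived
import Cfsg.Agent.Lib.FischerQuad75.Model

/-!
The quadrangle as the isotropic points of the four-dimensional hermitian space over four elements.

Owner: helper75.
-/

set_option autoImplicit false
set_option maxRecDepth 100000
set_option maxHeartbeats 4000000
set_option Elab.async false

namespace Cfsg.Agent.Lib.FischerQuad75

open Cfsg.Agent.Lib.SU32.Derived (F4 e n')
open Cfsg.Agent.Lib.Computation (getW)

/-- a point as a vector -/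
def loc4 (a : Fin 45) : Fin 4 → F4 := fun i => e (getW 2 (locT.getD a.1 0) i.1)

/-- the hermitian product by hand -/
def dot4 (u v : Fin 4 → F4) : F4 := u 0 * (v 0 * v 0) + u 1 * (v 1 * v 1) + u 2 * (v 2 * v 2) + u 3 * (v 3 * v 3)

theorem dot4_eq (u v : Fin 4 → F4) : Cfsg.hermForm 4 F4 2 u v = dot4 u v := by
  simp [Cfsg.hermForm, dot4, Fin.sum_univ_four, sq]

theorem loc4_adj : ∀ a b : Fin 45, dot4 (loc4 a) (loc4 b) = 0 ↔ (a = b ∨ S45 a b = true) := by decide +kernel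

theorem loc4_ne : ∀ a : Fin 45, ∃ i : Fin 4, loc4 a i ≠ 0 := by decide +kernel

theorem loc4_inj : ∀ a b : Fin 45, ∀ c : F4, (∀ i : Fin 4, loc4 b i = c * loc4 a i) → a = b := by decide +kernel

theorem loc4_cover : ∀ x y s t : F4,
    x * (x * x) + y * (y * y) + s * (s * s) + t * (t * t) = 0 → (x ≠ 0 ∨ y ≠ 0 ∨ s ≠ 0 ∨ t ≠ 0) →
      ∃ a : Fin 45, ∃ c : F4, x = c * loc4 a 0 ∧ y = c * loc4 a 1 ∧ s = c * loc4 a 2 ∧ t = c * loc4 a 3 := by
  decide +kernel

/-- the points over any field with four elements -/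
theorem exists_reps (F : Type) [Field F] [Fintype F] (hF : Fintype.card F = 2 ^ 2) :
    ∃ r : Fin 45 → Fin 4 → F, (∀ a, r a ≠ 0) ∧
      (∀ a b, Cfsg.hermForm 4 F 2 (r a) (r b) = 0 ↔ (a = b ∨ S45 a b = true)) ∧
      (∀ a b (c : F), r b = c • r a → a = b) ∧
      ∀ w, Cfsg.hermForm 4 F 2 w w = 0 → w ≠ 0 → ∃ a, ∃ c : F, c ≠ 0 ∧ w = c • r a := by
  let φ : F4 ≃+* F := FiniteField.ringEquivOfCardEq (K := F4) (K' := F) (by rw [hF]; rfl)
  have hh : ∀ u v : Fin 4 → F4, Cfsg.hermForm 4 F 2 (fun i => φ (u i)) (fun i => φ (v i)) = φ (dot4 u v) := by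
    intro u v
    rw [← dot4_eq]
    simp [Cfsg.hermForm, map_sum]
  refine ⟨fun a i => φ (loc4 a i), fun a h => ?_, fun a b => ?_, fun a b c h => ?_, fun w hw hw0 => ?_⟩
  · obtain ⟨i, hi⟩ := loc4_ne a
    exact hi (φ.injective (by simpa using congrFun h i))
  · rw [hh, map_eq_zero_iff φ φ.injective]
    exact loc4_adj a b
  · refine loc4_inj a b (φ.symm c) fun i => φ.injective ?_
    have := congrFun h i
    simpa using this
  · obtain ⟨u, rfl⟩ : ∃ u : Fin 4 → F4, (fun i => φ (u i)) = w := ⟨fun i => φ.symm (w i), by simp⟩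
    rw [hh, map_eq_zero_iff φ φ.injective] at hw
    have hu : u 0 ≠ 0 ∨ u 1 ≠ 0 ∨ u 2 ≠ 0 ∨ u 3 ≠ 0 := by
      by_contra hc
      push Not at hc
      refine hw0 (funext fun i => ?_)
      fin_cases i <;> simp [hc.1, hc.2.1, hc.2.2.1, hc.2.2.2]
    obtain ⟨a, c, h0, h1, h2, h3⟩ := loc4_cover _ _ _ _ hw hu
    refine ⟨a, φ c, fun hc => ?_, funext fun i => ?_⟩
    · rw [map_eq_zero_iff φ φ.injective] at hc
      simp [hc] at h0 h1 h2 h3
      simp [h0, h1, h2, h3] at hu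
    · fin_cases i <;> simp [h0, h1, h2, h3]

end Cfsg.Agent.Lib.FischerQuad75
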