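import Mathlib
import Cfsg.Agent.Lib.FischerMTypes32.Trans24
import Cfsg.Agent.Lib.FischerMTypes.SameFactors

/-!
Type M(24): the four-tuples with a given product.  The transpositions commuting with the product
fall into these tetrads; two tetrads commute entirely or nowhere.

Owner: helper75.
-/

set_option autoImplicit false
set_option linter.style.haveILetI false
set_option linter.unusedSectionVars false

namespace Cfsg.Agent.Lib.FischerQuad75

open Cfsg.Agent.Lib.FischerMTypes Cfsg.Agent.Lib.FischerMTypes.Basic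
open Cfsg.Agent.Lib.FischerMTypes.Bases (com IsBase)
open Cfsg.Agent.Lib.FischerMTypes.Step (Tuple IsProd tuple_cons tuple_tail prod_map_conj)
open Cfsg.Agent.Lib.FischerMTypes.BaseDesign (Facts)
open Cfsg.Agent.Lib.FischerMTypes32 (Data24 cconj)
open scoped Classical

universe u

variable {G : Type u} [Group G] {D : Set G}

/-- four commuting transpositions with product `z`, as a finset -/
def IsTet (D : Set G) (z : G) (T : Finset G) : Prop :=
  ∃ l : List G, Tuple D l ∧ l.length = 4 ∧ l.prod = z ∧ l.toFinset = T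

/-- the tetrads -/
abbrev Tet (D : Set G) (z : G) := {T : Finset G // IsTet D z T}

/-- a transposition whose image under another commutes with it commutes with that one -/
theorem not_swap (hD : Cfsg.IsThreeTranspositionSet D) {x b : G} (hx : x ∈ D) (hb : b ∈ D)
    (h : Commute b (x * b * x)) : Commute b x := by
  by_contra hc
  rw [braid hD hx hb fun e => hc e.symm] at h
  have h' := (conj_comm_iff hD hb).mpr h
  rw [mul_self hD hb, one_mul, conj_self_inv hD hb] at h'
  exact hc h'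

section

variable {z : G}

theorem IsTet.card {T : Finset G} (h : IsTet D z T) : T.card = 4 := by
  obtain ⟨l, hl, h4, -, rfl⟩ := h
  rw [List.toFinset_card_of_nodup hl.1, h4]

theorem IsTet.mem_D {T : Finset G} (h : IsTet D z T) {a : G} (ha : a ∈ T) : a ∈ D := by
  obtain ⟨l, hl, -, -, rfl⟩ := h
  exact hl.2.1 a (List.mem_toFinset.mp ha)

theorem IsTet.comm {T : Finset G} (h : IsTet D z T) {a b : G} (ha : a ∈ T) (hb : b ∈ T) : Commute a b := by
  obtain ⟨l, hl, -, -, rfl⟩ := h
  exact hl.2.2 a (List.mem_toFinset.mp ha) b (List.mem_toFinset.mp hb)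

theorem IsTet.comm_z {T : Finset G} (h : IsTet D z T) {a : G} (ha : a ∈ T) : Commute a z := by
  obtain ⟨l, hl, -, rfl, rfl⟩ := h
  exact Commute.list_prod_right l a fun u hu => hl.2.2 a (List.mem_toFinset.mp ha) u hu

theorem IsTet.nonempty {T : Finset G} (h : IsTet D z T) : T.Nonempty :=
  Finset.card_pos.mp (by rw [h.card]; norm_num)

/-- a chosen member put first -/
theorem IsTet.cons {T : Finset G} (h : IsTet D z T) {e : G} (he : e ∈ T) :
    ∃ l : List G, Tuple D (e :: l) ∧ l.length = 3 ∧ e * l.prod = z ∧ (e :: l).toFinset = T := by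
  obtain ⟨l, hl, h4, hp, rfl⟩ := h
  have hel := List.mem_toFinset.mp he
  have hperm := List.perm_cons_erase hel
  refine ⟨l.erase e, ⟨hperm.nodup_iff.mp hl.1, fun y hy => hl.2.1 y (hperm.mem_iff.mpr hy),
    fun y hy w hw => hl.2.2 y (hperm.mem_iff.mpr hy) w (hperm.mem_iff.mpr hw)⟩, ?_, ?_, ?_⟩
  · rw [List.length_erase_of_mem hel, h4]
  · rw [List.prod_erase_of_comm hel fun x hx y hy => hl.2.2 x hx y hy, hp]
  · exact (List.toFinset_eq_of_perm _ _ hperm).symm

theorem IsTet.conj [Finite G] (hD : Cfsg.IsThreeTranspositionGroup D) {T : Finset G} (h : IsTet D z T) {g : G}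
    (hg : Commute g z) : IsTet D z (T.image fun a => g * a * g⁻¹) := by
  obtain ⟨l, hl, h4, hp, rfl⟩ := h
  refine ⟨l.map fun a => g * a * g⁻¹, ⟨hl.1.map fun p q e => by simpa using e, ?_, ?_⟩, by simpa using h4, ?_, ?_⟩
  · intro y hy
    obtain ⟨a, ha, rfl⟩ := List.mem_map.mp hy
    exact hD.2.1 g a (hl.2.1 a ha)
  · intro y hy w hw
    obtain ⟨a, ha, rfl⟩ := List.mem_map.mp hy
    obtain ⟨b, hb, rfl⟩ := List.mem_map.mp hw
    exact (cconj g a b).mpr (hl.2.2 a ha b hb)
  · rw [prod_map_conj, hp, hg.eq, mul_inv_cancel_right]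
  · ext y; simp

/-- a member -/
noncomputable def rep (u : Tet D z) : G := u.2.nonempty.choose

theorem rep_mem (u : Tet D z) : rep u ∈ u.1 := u.2.nonempty.choose_spec

/-- conjugation on tetrads -/
noncomputable def move [Finite G] (hD : Cfsg.IsThreeTranspositionGroup D) {g : G} (hg : Commute g z) (u : Tet D z) :
    Tet D z := ⟨u.1.image fun a => g * a * g⁻¹, u.2.conj hD hg⟩

/-- distinct tetrads commuting throughout -/
def TAdj (u v : Tet D z) : Prop := u ≠ v ∧ ∀ a ∈ u.1, ∀ x ∈ v.1, Commute a x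

theorem TAdj.symm {u v : Tet D z} (h : TAdj u v) : TAdj v u :=
  ⟨h.1.symm, fun a ha x hx => (h.2 x hx a ha).symm⟩

end

variable [Fintype G] {Q : Type u} [Group Q] [Finite Q] {E : Set Q} {Q₂ : Type u} [Group Q₂] [Finite Q₂]
variable {E₂ : Set Q₂} {F : Type} [Field F] [Fintype F] (K : Data24 D E E₂ F) {z : G}

include K in
/-- every transposition commuting with `z` is in a tetrad -/
theorem exists_tet (hz : IsProd D 4 z) {e : G} (he : e ∈ D) (hc : Commute e z) : ∃ T : Tet D z, e ∈ T.1 := by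
  obtain ⟨l, h1, h2, h3, h4, rfl⟩ := hz
  have hQ : ∀ q : Q, q * q = 1 → ∃ l : List Q, Tuple E l ∧ l.length ≤ 3 ∧ l.prod = q := fun q hq => by
    by_cases hq1 : q = 1
    · exact ⟨[], ⟨List.nodup_nil, by simp, by simp⟩, by simp, by simp [hq1]⟩
    obtain ⟨j, -, hj, l, h1, h2, h3, h4, h5⟩ :=
      (InvolutionsM23.three_classes K.S23.hD K.S23.hprim K.hM K.S22 K.S23).1 q
        (orderOf_eq_prime (by rw [sq]; exact hq) hq1)
    exact ⟨l, ⟨h1, h3, h4⟩, by omega, h5⟩
  obtain ⟨L, hT, hp, hlen, hL | hL⟩ := K.S.split K.pinned hQ he hc.symm (SmallRelations.tuple_sq K.hD ⟨h1, h3, h4⟩)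
  · have := InvolutionsM24.unique_length K.S22 K.S23 K.S K.hM (m := 4) (m' := L.length) le_rfl (by omega)
      ⟨l, h1, h2, h3, h4, rfl⟩ ⟨L, hT.1, rfl, hT.2.1, hT.2.2, hL.symm⟩
    omega
  · have hT' := tuple_cons he hT hp
    have := InvolutionsM24.unique_length K.S22 K.S23 K.S K.hM (m := 4) (m' := L.length + 1) le_rfl (by omega)
      ⟨l, h1, h2, h3, h4, rfl⟩ ⟨e :: L, hT'.1, rfl, hT'.2.1, hT'.2.2, hL.symm⟩
    exact ⟨⟨(e :: L).toFinset, e :: L, hT', by simp; omega, hL.symm, rfl⟩, by simp⟩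

include K in
/-- a transposition is in one tetrad only -/
theorem tet_unique {T T' : Finset G} (h : IsTet D z T) (h' : IsTet D z T') {e : G} (he : e ∈ T) (he' : e ∈ T') :
    T = T' := by
  obtain ⟨l, hl, hn, hp, rfl⟩ := h.cons he
  obtain ⟨l', hl', hn', hp', rfl⟩ := h'.cons he'
  have key : ∀ t ∈ l', t ∈ l := fun t ht =>
    SameFactors.mem_of_prod K.hD.1 (m := 2) (fun x a b => by
        have := InvolutionsM24.unique_length K.S22 K.S23 K.S K.hM (by norm_num) (by norm_num) a b
        omega)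
      (tuple_tail hl).1 (tuple_tail hl').1 hn hn' (mul_left_cancel (hp.trans hp'.symm))
      (fun y hy a => InvolutionsM24.comm_factors K.hD (tuple_tail hl).1 (by omega) hy a) ht
  refine (Finset.eq_of_subset_of_card_le (fun x hx => ?_) ?_).symm
  · simp only [List.mem_toFinset, List.mem_cons] at hx ⊢
    exact hx.imp id (key x)
  · rw [List.toFinset_card_of_nodup hl.1, List.toFinset_card_of_nodup hl'.1]
    simp [hn, hn']

include K in
theorem tet_eq {u v : Tet D z} {e : G} (he : e ∈ u.1) (he' : e ∈ v.1) : u = v :=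
  Subtype.ext (tet_unique K u.2 v.2 he he')

include K in
/-- a transposition commuting with `z` and one member commutes with the tetrad -/
theorem comm_tet {T : Tet D z} {a x : G} (ha : a ∈ T.1) (hx : x ∈ D) (hxz : Commute x z) (hax : Commute a x)
    {b : G} (hb : b ∈ T.1) : Commute b x := by
  have e : T = move K.hD hxz T := tet_eq K ha
    (Finset.mem_image.mpr ⟨a, ha, mul_inv_eq_iff_eq_mul.mpr hax.symm.eq⟩)
  have hm : x * b * x ∈ T.1 := by
    rw [e]
    exact Finset.mem_image.mpr ⟨b, hb, by rw [inv_eq K.hD.1 hx]⟩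
  exact not_swap K.hD.1 hx (T.2.mem_D hb) (T.2.comm hb hm)

include K in
/-- two tetrads commute entirely or nowhere -/
theorem comm_all {u v : Tet D z} {a x : G} (ha : a ∈ u.1) (hx : x ∈ v.1) (h : Commute a x) :
    ∀ b ∈ u.1, ∀ y ∈ v.1, Commute b y := fun b hb y hy =>
  have h1 : Commute b x := comm_tet K ha (v.2.mem_D hx) (v.2.comm_z hx) h hb
  (comm_tet K hx (u.2.mem_D hb) (u.2.comm_z hb) h1.symm hy).symm

include K in
theorem not_comm {u v : Tet D z} (hne : u ≠ v) (h : ¬ TAdj u v) {a x : G} (ha : a ∈ u.1) (hx : x ∈ v.1) :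
    ¬ Commute a x := fun h' => h ⟨hne, comm_all K ha hx h'⟩

include K in
theorem tadj_of_comm {u v : Tet D z} (hne : u ≠ v) {a x : G} (ha : a ∈ u.1) (hx : x ∈ v.1) (h : Commute a x) :
    TAdj u v := ⟨hne, comm_all K ha hx h⟩

/-- the third tetrad -/
noncomputable def thT (u v : Tet D z) : Tet D z := move K.hD (v.2.comm_z (rep_mem v)) u

include K in
/-- the third tetrad is the image under any member -/
theorem mem_thT {u v : Tet D z} (hne : u ≠ v) (h : ¬ TAdj u v) {a x : G} (ha : a ∈ u.1) (hx : x ∈ v.1) :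
    x * a * x ∈ (thT K u v).1 := by
  have key : ∀ {a x : G}, a ∈ u.1 → ∀ hx : x ∈ v.1,
      ∀ ha : a ∈ u.1, move K.hD (v.2.comm_z hx) u = move K.hD (u.2.comm_z ha) v := by
    intro a x _ hx ha
    refine tet_eq K (e := x * a * x) (Finset.mem_image.mpr ⟨a, ha, by rw [inv_eq K.hD.1 (v.2.mem_D hx)]⟩)
      (Finset.mem_image.mpr ⟨x, hx, ?_⟩)
    rw [inv_eq K.hD.1 (u.2.mem_D ha)]
    exact braid K.hD.1 (u.2.mem_D ha) (v.2.mem_D hx) (not_comm K hne h ha hx)
  have e : thT K u v = move K.hD (v.2.comm_z hx) u :=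
    (key ha (rep_mem v) ha).trans (key ha hx ha).symm
  rw [e]
  exact Finset.mem_image.mpr ⟨a, ha, by rw [inv_eq K.hD.1 (v.2.mem_D hx)]⟩

include K in
theorem thT_spec {u v : Tet D z} (hne : u ≠ v) (h : ¬ TAdj u v) :
    thT K u v ≠ u ∧ thT K u v ≠ v ∧ ¬ TAdj u (thT K u v) ∧ ¬ TAdj v (thT K u v) ∧
      ∀ w, TAdj w u → TAdj w v → TAdj w (thT K u v) := by
  set a := rep u
  set x := rep v
  have ha : a ∈ u.1 := rep_mem u
  have hx : x ∈ v.1 := rep_mem v
  have hn : ¬ Commute a x := not_comm K hne h ha hx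
  have hm := mem_thT K hne h ha hx
  have ha' := u.2.mem_D ha
  have hx' := v.2.mem_D hx
  have n1 : ¬ Commute a (x * a * x) := fun h' => hn (not_swap K.hD.1 hx' ha' h')
  have n2 : ¬ Commute x (x * a * x) := fun h' => hn (not_swap K.hD.1 ha' hx' (by
    rwa [braid K.hD.1 hx' ha' fun e => hn e.symm] at h')).symm
  refine ⟨fun e => n1 (u.2.comm ha (e ▸ hm)), fun e => n2 (v.2.comm hx (e ▸ hm)), fun e => n1 (e.2 a ha _ hm),
    fun e => n2 (e.2 x hx _ hm), fun w h1 h2 => ?_⟩
  have hw := rep_mem w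
  have hc : Commute (rep w) (x * a * x) :=
    ((h2.2 _ hw x hx).mul_right (h1.2 _ hw a ha)).mul_right (h2.2 _ hw x hx)
  refine tadj_of_comm K (fun e => ?_) hw hm hc
  exact n1 ((h1.symm).2 a ha _ (e ▸ hm))

include K in
/-- a seventh tetrad commutes with two of six pairwise commuting ones -/
theorem two_of_six (S : Finset (Tet D z)) (h6 : S.card = 6) (hcl : ∀ u ∈ S, ∀ v ∈ S, u ≠ v → TAdj u v)
    {w : Tet D z} (hw : w ∉ S) : ∃ p q, p ≠ q ∧ ∀ u, u ∈ S ∧ TAdj w u ↔ u = p ∨ u = q := by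
  have hdisj : ∀ S' : Finset (Tet D z), (S' : Set (Tet D z)).PairwiseDisjoint fun u => u.1 :=
    fun S' u _ v _ hne => Finset.disjoint_left.mpr fun a ha hb => hne (tet_eq K ha hb)
  set B : Finset G := S.biUnion fun u => u.1
  have hB : IsBase D B := by
    refine ⟨⟨fun a ha => ?_, fun a ha b hb => ?_⟩, ?_⟩
    · obtain ⟨u, -, ha⟩ := Finset.mem_biUnion.mp (Finset.mem_coe.mp ha)
      exact u.2.mem_D ha
    · obtain ⟨u, hu, ha⟩ := Finset.mem_biUnion.mp ha
      obtain ⟨v, hv, hb⟩ := Finset.mem_biUnion.mp hb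
      by_cases e : u = v
      · exact v.2.comm (e ▸ ha) hb
      · exact (hcl u hu v hv e).2 a ha b hb
    · rw [Finset.card_biUnion (hdisj S), Finset.sum_const_nat fun u _ => u.2.card, h6]
  have H := K.facts hB
  set x := rep w
  have hx : x ∈ w.1 := rep_mem w
  have hout : x ∈ Facts.out D B := Facts.mem_out.mpr ⟨w.2.mem_D hx, fun h => by
    obtain ⟨u, hu, h⟩ := Finset.mem_biUnion.mp h
    exact hw (tet_eq K hx h ▸ hu)⟩
  set A := S.filter fun u => TAdj w u
  have hsees : Facts.sees B x = A.biUnion fun u => u.1 := by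
    ext c
    simp only [Facts.sees, Finset.mem_filter, Finset.mem_biUnion, B, A]
    constructor
    · rintro ⟨⟨u, hu, hc⟩, hcx⟩
      exact ⟨u, ⟨hu, tadj_of_comm K (fun e => hw (e ▸ hu)) hx hc hcx.symm⟩, hc⟩
    · rintro ⟨u, ⟨hu, ha⟩, hc⟩
      exact ⟨⟨u, hu, hc⟩, (ha.2 x hx c hc).symm⟩
  have hc := congrArg Finset.card hsees
  rw [Finset.card_biUnion (hdisj A), Finset.sum_const_nat fun u _ => u.2.card] at hc
  have hA : A.card = 2 := by
    rcases H.sees_card hout with h | h <;> omega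
  obtain ⟨p, q, hpq, hA⟩ := Finset.card_eq_two.mp hA
  refine ⟨p, q, hpq, fun u => ?_⟩
  have := Finset.ext_iff.mp hA u
  simpa [A] using this

end Cfsg.Agent.Lib.FischerQuad75
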