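import Mathlib
import Cfsg.Agent.Lib.FischerMTypes32.Trans24
import Cfsg.Agent.Lib.FischerMTypes.LinePoints
import Cfsg.Agent.Lib.FischerQuad75.Tetrads
import Cfsg.Agent.Lib.FischerQuad75.Local4
import Cfsg.Agent.Lib.FischerQuad75.Geo

/-!
The tetrads commuting with a given one are the lines through a point of the unitary space, that is,
the points of the quadrangle.

Owner: helper75.
-/

set_option autoImplicit false
set_option linter.style.haveILetI false
set_option linter.unusedSectionVars false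

namespace Cfsg.Agent.Lib.FischerQuad75

open Cfsg.Agent.Lib.FischerMTypes Cfsg.Agent.Lib.FischerMTypes.Basic Cfsg.Agent.Lib.FischerMTypes.Primitive
open Cfsg.Agent.Lib.FischerMTypes.Bases (com)
open Cfsg.Agent.Lib.FischerMTypes.Step (Tuple IsProd tuple_cons tuple_tail)
open Cfsg.Agent.Lib.FischerMTypes.PointModel (Ctx)
open Cfsg.Agent.Lib.FischerMTypes32 (Data24)
open Cfsg.Agent.Lib.FischerMTypes32.Data24 (com_cons tuple_com)
open Cfsg.Agent.Lib.Unitary (Hyp herm_add_left herm_add_right herm_smul_left herm_smul_right herm_eq_zero_symm)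
open Cfsg.Agent.Lib.UnitaryFour.Stabilizer (Frame exists_Frame lin lin_smul)
open scoped Classical

universe u

variable {G : Type u} [Group G] [Fintype G] {D : Set G}
variable {Q : Type u} [Group Q] [Finite Q] {E : Set Q} {Q₂ : Type u} [Group Q₂] [Finite Q₂]
variable {E₂ : Set Q₂} {F : Type} [Field F] [Fintype F] (K : Data24 D E E₂ F) {z : G}

local notation "h⟪" u ", " v "⟫" => Cfsg.hermForm 6 F 2 u v

/-- a hyperbolic partner of a point -/
theorem exists_partner {G : Type*} [Group G] [Finite G] {D : Set G} {F : Type} [Field F] [Fintype F] {a : G}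
    (C : Ctx D a F) {p : G} (hp : p ∈ perp D a) : ∃ q ∈ perp D a, ¬ Commute p q := by
  by_contra h
  push Not at h
  have h1 := C.ncard_perp
  have h2 := C.ncard_edge hp
  have hsub : perp D a ⊆ insert p (perp₂ D a p) := fun q hq => by
    by_cases e : q = p
    · exact Or.inl e
    · exact Or.inr ⟨hq, hq.1, e, h q hq⟩
  have := (Set.ncard_le_ncard hsub (Set.toFinite _)).trans (Set.ncard_insert_le _ _)
  omega

/-- coordinates over a four-tuple: the transpositions beside it are the isotropic vectors `αe + w` -/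
structure Coord (D : Set G) (F : Type) [Field F] [Fintype F] (a b c d : G) where
  y : F → (Fin 4 → F) → G
  mem : ∀ α w, Cfsg.hermForm 4 F 2 w w = 0 → w ≠ 0 → y α w ∈ com D [a, b, c, d]
  surj : ∀ x ∈ com D [a, b, c, d], ∃ α w, Cfsg.hermForm 4 F 2 w w = 0 ∧ w ≠ 0 ∧ y α w = x
  comm : ∀ α w α' w', Cfsg.hermForm 4 F 2 w w = 0 → w ≠ 0 → Cfsg.hermForm 4 F 2 w' w' = 0 → w' ≠ 0 →
    (Commute (y α w) (y α' w') ↔ Cfsg.hermForm 4 F 2 w w' = 0)
  eq : ∀ α w α' w', Cfsg.hermForm 4 F 2 w w = 0 → w ≠ 0 → Cfsg.hermForm 4 F 2 w' w' = 0 → w' ≠ 0 →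
    (y α w = y α' w' ↔ ∃ k : F, k ≠ 0 ∧ α' = k * α ∧ w' = k • w)

include K in
theorem exists_coord {a b c d : G} (hl : Tuple D [a, b, c, d]) : Nonempty (Coord D F a b c d) := by
  obtain ⟨hl1, ha, hp⟩ := tuple_tail hl
  obtain ⟨hl2, -, hp'⟩ := tuple_tail hl1
  obtain ⟨-, -, hp''⟩ := tuple_tail hl2
  obtain ⟨M⟩ := InvolutionFix24.exists_model K.S23 K.S ha (hp b (by simp))
  have hc : c ∈ perp₂ D a b := ⟨hp c (by simp), hp' c (by simp)⟩
  have hd : d ∈ perp₂ D a b := ⟨hp d (by simp), hp' d (by simp)⟩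
  set C := K.S22.ctx _ (M.mem c hc) with hCdef
  have hpd : M.g d ∈ perp E₂ (M.g c) := (M.perp_iff hd hc).mpr ⟨(hp'' d (by simp)).2.1, (hp'' d (by simp)).2.2⟩
  obtain ⟨q, hq, hqd⟩ := exists_partner C hpd
  obtain ⟨e, f, hef, he0, hf0, hpe, -⟩ := C.exists_hyp_pt hpd hq hqd
  obtain ⟨gf, hfr⟩ := exists_Frame C.hF hef
  set vec : F → (Fin 4 → F) → (Fin 6 → F) := fun α w => α • e + lin gf w with hvec
  have hee : h⟪e, e⟫ = 0 := hef.1
  have horth : ∀ w, h⟪lin gf w, e⟫ = 0 ∧ h⟪e, lin gf w⟫ = 0 := fun w =>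
    ⟨(hfr.lin_orth w).1, herm_eq_zero_symm C.hF (hfr.lin_orth w).1⟩
  have hherm : ∀ α w α' w', h⟪vec α w, vec α' w'⟫ = Cfsg.hermForm 4 F 2 w w' := by
    intro α w α' w'
    simp only [hvec, herm_add_left, herm_add_right _ _ _ C.hF, herm_smul_left, herm_smul_right, hee,
      (horth w).1, (horth w').2, hfr.lin_herm C.hF, mul_zero, zero_add]
  have hperpe : ∀ α w, h⟪e, vec α w⟫ = 0 := by
    intro α w
    simp only [hvec, herm_add_right _ _ _ C.hF, herm_smul_right, hee, (horth w).2, mul_zero, add_zero]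
  have hsep : ∀ {α w α' w'}, vec α w = vec α' w' → α = α' ∧ w = w' := by
    intro α w α' w' h
    have h1 := congrArg (fun v => h⟪v, f⟫) h
    simp only [hvec, herm_add_left, herm_smul_left, (hfr.lin_orth _).2, hef.2.2, mul_one, add_zero] at h1
    refine ⟨h1, UnitaryFour.PointStab.lin_inj hfr ?_⟩
    simp only [hvec, h1] at h
    exact add_left_cancel h
  have hlin0 : lin gf (0 : Fin 4 → F) = 0 := UnitaryFour.PointStab.lin_zero
  have hne : ∀ α w, w ≠ 0 → vec α w ≠ 0 := fun α w hw h => hw (hsep (α' := 0) (w' := 0) (h.trans (by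
    simp [hvec, hlin0]))).2
  have hiso : ∀ α w, Cfsg.hermForm 4 F 2 w w = 0 → h⟪vec α w, vec α w⟫ = 0 := fun α w hw => by
    rw [hherm]; exact hw
  have hlift : ∀ α w, ∃ y, Cfsg.hermForm 4 F 2 w w = 0 → w ≠ 0 →
      y ∈ com D [a, b, c, d] ∧ M.g y = C.pt (vec α w) := by
    intro α w
    by_cases hh : Cfsg.hermForm 4 F 2 w w = 0 ∧ w ≠ 0
    · have hm := C.pt_mem (hiso α w hh.1) (hne α w hh.2)
      obtain ⟨y, hy, hgy⟩ := M.surj _ hm.1
      have hyc : y ≠ c ∧ Commute c y := (M.perp_iff hy hc).mp (hgy ▸ hm)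
      have hcd : Commute (M.g d) (M.g y) := by
        rw [hgy, ← hpe]
        exact (C.pt_comm hee he0 (hiso α w hh.1) (hne α w hh.2)).mpr (hperpe α w)
      have hyd : y ≠ d := by
        rintro rfl
        rw [← hpe] at hgy
        obtain ⟨k, -, hk⟩ := (C.pt_eq hee he0 (hiso α w hh.1) (hne α w hh.2)).mp hgy
        exact hh.2 (hsep (α' := k) (w' := 0) (hk.trans (by simp [hvec, hlin0]))).2
      refine ⟨y, fun _ _ => ⟨?_, hgy⟩⟩
      rw [Bases.com_cons₂]
      refine ⟨hy, ?_⟩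
      simp only [List.mem_cons, List.not_mem_nil, or_false, forall_eq_or_imp, forall_eq]
      exact ⟨hyc, hyd, (M.comm d hd y hy).mp hcd⟩
    · exact ⟨1, fun h1 h2 => absurd ⟨h1, h2⟩ hh⟩
  choose y hy using hlift
  have hyV : ∀ α w, Cfsg.hermForm 4 F 2 w w = 0 → w ≠ 0 → y α w ∈ perp₂ D a b := fun α w h h0 => by
    have := (hy α w h h0).1
    rw [Bases.com_cons₂] at this
    exact this.1
  refine ⟨⟨y, fun α w h h0 => (hy α w h h0).1, ?_, ?_, ?_⟩⟩
  · intro x hx
    rw [Bases.com_cons₂] at hx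
    obtain ⟨hxV, hx⟩ := hx
    obtain ⟨hxc, hxd⟩ := List.forall_mem_cons.mp hx
    obtain ⟨hxd, -⟩ := List.forall_mem_cons.mp hxd
    obtain ⟨v, hv, hv0, hvx⟩ := C.exists_pt ((M.perp_iff hxV hc).mpr hxc)
    have hev : h⟪v, e⟫ = 0 := herm_eq_zero_symm C.hF ((C.pt_comm hee he0 hv hv0).mp (by
      rw [hvx, hpe]; exact (M.comm d hd x hxV).mpr hxd.2))
    have hexp := hfr.expand C.hF v
    obtain ⟨α, w, hvw⟩ : ∃ α w, vec α w = v := by
      rw [hev, zero_smul, add_zero] at hexp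
      exact ⟨_, _, hexp.symm⟩
    have hw : Cfsg.hermForm 4 F 2 w w = 0 := by rw [← hherm α w α w, hvw]; exact hv
    have hw0 : w ≠ 0 := by
      rintro rfl
      have hve : v = α • e := by rw [← hvw]; simp [hvec, hlin0]
      refine hxd.1 (M.inj x hxV d hd ?_)
      rw [← hvx, ← hpe, hve, C.pt_smul hee he0 fun h => hv0 (by simp [hve, h])]
    exact ⟨α, w, hw, hw0, M.inj _ (hyV α w hw hw0) x hxV (by rw [(hy α w hw hw0).2, hvw, hvx])⟩
  · intro α w α' w' h h0 h' h0'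
    rw [← M.comm _ (hyV α w h h0) _ (hyV α' w' h' h0'), (hy α w h h0).2, (hy α' w' h' h0').2,
      C.pt_comm (hiso α w h) (hne α w h0) (hiso α' w' h') (hne α' w' h0'), hherm]
  · intro α w α' w' h h0 h' h0'
    have hsm : ∀ k : F, k • vec α w = vec (k * α) (k • w) := fun k => by
      simp only [hvec, smul_add, smul_smul, lin_smul]
    constructor
    · intro he
      have he' : C.pt (vec α w) = C.pt (vec α' w') := by rw [← (hy α w h h0).2, ← (hy α' w' h' h0').2, he]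
      obtain ⟨k, hk, hk'⟩ := (C.pt_eq (hiso α w h) (hne α w h0) (hiso α' w' h') (hne α' w' h0')).mp he'
      exact ⟨k, hk, (hsep (hk'.trans (hsm k))).1, (hsep (hk'.trans (hsm k))).2⟩
    · rintro ⟨k, hk, h1, h2⟩
      refine M.inj _ (hyV α w h h0) _ (hyV α' w' h' h0') ?_
      rw [(hy α w h h0).2, (hy α' w' h' h0').2, h1, h2, ← hsm, C.pt_smul (hiso α w h) (hne α w h0) hk]

variable (hz : IsProd D 4 z)

include K hz in
/-- a line through the point is the rest of a tetrad -/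
theorem line_tet {a b c d : G} (hl : Tuple D [a, b, c, d]) (hp : [a, b, c, d].prod = z)
    (C : Coord D F a b c d) {w : Fin 4 → F} (hw : Cfsg.hermForm 4 F 2 w w = 0) (hw0 : w ≠ 0) :
    ∃ U : Tet D z, ∀ x, x ∈ U.1 ↔ ∃ α, C.y α w = x := by
  have hcz : ∀ {x}, x ∈ com D [a, b, c, d] → Commute x z := fun {x} hx =>
    hp ▸ Commute.list_prod_right _ x fun u hu => (hx.2 u hu).2.symm
  set x := C.y 0 w
  have hx : x ∈ com D [a, b, c, d] := C.mem 0 w hw hw0
  obtain ⟨U, hxU⟩ := exists_tet K hz hx.1 (hcz hx)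
  let T : Tet D z := ⟨[a, b, c, d].toFinset, [a, b, c, d], hl, rfl, hp, rfl⟩
  have haT : a ∈ T.1 := List.mem_toFinset.mpr List.mem_cons_self
  have hTx : x ∉ T.1 := fun h => (hx.2 x (List.mem_toFinset.mp h)).1 rfl
  have hUT : U ≠ T := fun h => hTx (h ▸ hxU)
  have hUcom : ∀ v ∈ U.1, v ∈ com D [a, b, c, d] := by
    intro v hv
    have hadj : TAdj T U := tadj_of_comm K hUT.symm haT hxU (hx.2 a List.mem_cons_self).2
    exact ⟨U.2.mem_D hv, fun u hu => ⟨fun e => hUT (tet_eq K hv (e ▸ List.mem_toFinset.mpr hu)),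
      hadj.2 u (List.mem_toFinset.mpr hu) v hv⟩⟩
  obtain ⟨L, hL, hL3, -, hsplit⟩ := Bases.five_split K.S22 K.S23 K.S K.hM K.class_card (tuple_com hl hx)
  set V := com D [x, a, b, c, d]
  have hV : ∀ {v}, v ∈ V ↔ v ∈ com D [a, b, c, d] ∧ v ≠ x ∧ Commute x v := fun {v} => by
    show v ∈ com D (x :: [a, b, c, d]) ↔ _
    rw [com_cons]; rfl
  have hV51 : V.ncard = 51 := by simpa using K.ncard_com (tuple_com hl hx) (by simp)
  have univ : ∀ v ∈ V, (∀ u ∈ V, Commute v u) → v ∈ L := fun v hv h => by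
    by_contra hvL
    have h19 := (hsplit v hv hvL).1
    rw [show {u | u ∈ V ∧ Commute v u} = V from Set.ext fun u => ⟨fun hu => hu.1, fun hu => ⟨hu, h u hu⟩⟩,
      hV51] at h19
    omega
  have hUL : ((U.1.erase x : Finset G) : Set G) = L := by
    refine Set.eq_of_subset_of_ncard_le ?_ ?_ (Set.toFinite _)
    · intro v hv
      obtain ⟨hvx, hv⟩ := Finset.mem_erase.mp (Finset.mem_coe.mp hv)
      refine univ v (hV.mpr ⟨hUcom v hv, hvx, U.2.comm hxU hv⟩) fun u hu => ?_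
      obtain ⟨hu, -, hxu⟩ := hV.mp hu
      exact comm_tet K hxU hu.1 (hcz hu) hxu hv
    · rw [Set.ncard_coe_finset, Finset.card_erase_of_mem hxU, U.2.card, hL3]
  have hline : ∀ α, C.y α w ∈ U.1 := by
    intro α
    by_cases hα : C.y α w = x
    · exact hα ▸ hxU
    have hm : C.y α w ∈ L := by
      refine univ _ (hV.mpr ⟨C.mem α w hw hw0, hα, ?_⟩) fun u hu => ?_
      · exact (C.comm 0 w α w hw hw0 hw hw0).mpr hw
      · obtain ⟨hu, -, hxu⟩ := hV.mp hu
        obtain ⟨β, w', hw', hw0', rfl⟩ := C.surj u hu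
        exact (C.comm α w β w' hw hw0 hw' hw0').mpr ((C.comm 0 w β w' hw hw0 hw' hw0').mp hxu)
    rw [← hUL] at hm
    exact (Finset.mem_erase.mp (Finset.mem_coe.mp hm)).2
  have himg : Finset.univ.image (fun α => C.y α w) = U.1 := by
    refine Finset.eq_of_subset_of_card_le (fun v hv => ?_) ?_
    · obtain ⟨α, -, rfl⟩ := Finset.mem_image.mp hv
      exact hline α
    · rw [Finset.card_image_of_injective, Finset.card_univ, U.2.card]
      · have hF := (K.S22.ctx _ (Classical.choose_spec K.S22.refl).1).hF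
        omega
      · intro α α' h
        obtain ⟨k, -, h1, h2⟩ := (C.eq α w α' w hw hw0 hw hw0).mp h
        have hk1 : k = 1 := (smul_left_injective F hw0 (show k • w = (1 : F) • w by rw [one_smul]; exact h2.symm))
        rw [h1, hk1, one_mul]
  exact ⟨U, fun v => by rw [← himg]; simp⟩

include K hz in
/-- the tetrads commuting with one form the quadrangle -/
theorem tet_loc (T : Tet D z) : ∃ L : Fin 45 → Tet D z, (∀ i j, L i = L j → i = j) ∧
    (∀ U, TAdj T U ↔ ∃ i, L i = U) ∧ ∀ i j, TAdj (L i) (L j) ↔ S45 i j = true := by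
  obtain ⟨l, hl, h4, hp, hT⟩ := T.2
  obtain ⟨a, b, c, d, rfl⟩ : ∃ a b c d, l = [a, b, c, d] := by
    match l, h4 with
    | [a, b, c, d], _ => exact ⟨a, b, c, d, rfl⟩
  obtain ⟨C⟩ := exists_coord K hl
  obtain ⟨r, hr0, hradj, hrinj, hrcov⟩ := exists_reps F (K.S22.ctx _ (Classical.choose_spec K.S22.refl).1).hF
  have hiso : ∀ i, Cfsg.hermForm 4 F 2 (r i) (r i) = 0 := fun i => (hradj i i).mpr (Or.inl rfl)
  choose L hL using fun i => line_tet K hz hl hp C (hiso i) (hr0 i)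
  have hmem : ∀ i, C.y 0 (r i) ∈ (L i).1 := fun i => (hL i _).mpr ⟨0, rfl⟩
  have haT : a ∈ T.1 := hT ▸ List.mem_toFinset.mpr List.mem_cons_self
  have hinj : ∀ i j, L i = L j → i = j := by
    intro i j h
    obtain ⟨α, hα⟩ := (hL i _).mp (h ▸ hmem j)
    obtain ⟨k, -, -, hk⟩ := (C.eq α (r i) 0 (r j) (hiso i) (hr0 i) (hiso j) (hr0 j)).mp hα
    exact hrinj i j k hk
  refine ⟨L, hinj, fun U => ⟨fun h => ?_, ?_⟩, fun i j => ?_⟩
  · obtain ⟨x, hx⟩ := U.2.nonempty
    have hxc : x ∈ com D [a, b, c, d] := ⟨U.2.mem_D hx, fun u hu => by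
      have huT : u ∈ T.1 := hT ▸ List.mem_toFinset.mpr hu
      exact ⟨fun e => h.1 (tet_eq K huT (e ▸ hx)), h.2 u huT x hx⟩⟩
    obtain ⟨α, w, hw, hw0, rfl⟩ := C.surj x hxc
    obtain ⟨i, k, hk, rfl⟩ := hrcov w hw hw0
    refine ⟨i, tet_eq K ((hL i _).mpr ⟨k⁻¹ * α, ?_⟩) hx⟩
    exact (C.eq _ _ _ _ (hiso i) (hr0 i) hw hw0).mpr ⟨k, hk, by rw [mul_inv_cancel_left₀ hk], rfl⟩
  · rintro ⟨i, rfl⟩
    have hc := C.mem 0 (r i) (hiso i) (hr0 i)
    refine tadj_of_comm K (fun e => ?_) haT (hmem i) (hc.2 a List.mem_cons_self).2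
    have : C.y 0 (r i) ∈ [a, b, c, d].toFinset := hT ▸ e ▸ hmem i
    exact (hc.2 _ (List.mem_toFinset.mp this)).1 rfl
  · have hc := C.comm 0 (r i) 0 (r j) (hiso i) (hr0 i) (hiso j) (hr0 j)
    rw [hradj] at hc
    constructor
    · intro h
      exact (hc.mp (h.2 _ (hmem i) _ (hmem j))).resolve_left fun e => h.1 (e ▸ rfl)
    · intro h
      exact tadj_of_comm K (fun e => by rw [hinj i j e, S45_irrefl] at h; exact Bool.false_ne_true h)
        (hmem i) (hmem j) (hc.mpr (Or.inr h))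

/-- the graph on tetrads -/
noncomputable def geo : Geo (Tet D z) where
  adj := TAdj
  th := thT K
  symm _ _ h := h.symm
  irrefl _ h := h.1 rfl
  loc v := tet_loc K hz v
  th_spec _ _ hne h := thT_spec K hne h
  two S h6 hcl _ hw := two_of_six K S h6 hcl hw

end Cfsg.Agent.Lib.FischerQuad75
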