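import Mathlib
import Cfsg.Agent.Lib.FischerQuad75.Facts

/-!
The automorphism group of the model graph has order at most 13063680: a chain of base points, with
third points of fixed pairs fixed.

Owner: helper75.
-/

set_option autoImplicit false
set_option maxRecDepth 100000
set_option maxHeartbeats 4000000
set_option Elab.async false

namespace Cfsg.Agent.Lib.FischerQuad75

/-- base points (second entry 126) and forced third points -/
def chainT : List (Nat × Nat) :=
  [(0, 126), (10, 126), (11, 126), (10, 11), (7, 126), (10, 7), (11, 15), (32, 126), (10, 32),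
   (11, 27), (7, 27), (7, 33), (15, 33), (31, 126), (7, 31), (15, 31), (6, 31), (32, 31), (32, 35),
   (32, 43), (32, 34), (27, 31), (27, 35), (27, 43), (27, 34), (33, 31), (33, 35), (33, 43),
   (33, 34), (21, 31), (21, 35), (21, 43), (21, 34), (21, 2), (21, 29), (21, 19), (21, 9), (30, 31),
   (30, 35), (30, 43), (30, 34), (22, 31), (22, 35), (22, 43), (22, 34), (31, 25), (46, 126),
   (0, 46), (32, 46), (32, 47), (27, 46), (27, 47), (33, 46), (33, 47), (21, 46), (21, 47),
   (21, 103), (21, 102), (30, 46), (30, 47), (22, 46), (22, 47), (31, 46), (31, 47), (31, 115),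
   (31, 114), (31, 66), (31, 67), (31, 77), (31, 76), (31, 123), (31, 122), (35, 46), (35, 47),
   (35, 66), (35, 67), (35, 123), (35, 122), (43, 46), (43, 47), (43, 66), (43, 67), (34, 46),
   (34, 47), (34, 66), (34, 67), (3, 115), (3, 114), (3, 66), (3, 67), (3, 77), (3, 76), (3, 123),
   (3, 122), (3, 90), (3, 91), (3, 60), (3, 61), (3, 69), (3, 68), (3, 79), (3, 78), (8, 66),
   (8, 67), (8, 123), (8, 122), (8, 69), (8, 68), (8, 79), (8, 78), (20, 81), (20, 80), (20, 53),
   (20, 52), (20, 79), (20, 78), (20, 64), (20, 65), (20, 94), (20, 95), (28, 81), (28, 80),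
   (28, 64), (28, 65), (28, 94), (28, 95)]

/-- a point from its number -/
def pt126 (a : Nat) : Fin 126 := ⟨a % 126, Nat.mod_lt _ (by norm_num)⟩

/-- the points adjacent to all common neighbours of a pair -/
def inter126 (a b : Fin 126) : Nat :=
  Nat.rec (2 ^ 126 - 1) (fun c acc =>
    bif (row a &&& row b).testBit c then acc &&& row (pt126 c) else acc) 126

theorem testBit_inter126 {a b d : Fin 126} (h : ∀ c, adjB a c = true → adjB b c = true → adjB c d = true) :
    (inter126 a b).testBit d.1 = true := by
  have key : ∀ n : ℕ, n ≤ 126 →
      (Nat.rec (motive := fun _ => Nat) (2 ^ 126 - 1) (fun c acc =>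
        bif (row a &&& row b).testBit c then acc &&& row (pt126 c) else acc) n).testBit d.1 = true := by
    intro n
    induction n with
    | zero =>
      intro _
      show (2 ^ 126 - 1 : Nat).testBit d.1 = true
      rw [Nat.testBit_two_pow_sub_one]
      exact decide_eq_true d.2
    | succ n ih =>
      intro hn
      have ih' := ih (by omega)
      simp only
      cases hb : (row a &&& row b).testBit n
      · simpa [hb] using ih'
      · simp only [cond_true]
        rw [Nat.testBit_and, ih', Bool.true_and]
        have hc : pt126 n = ⟨n, by omega⟩ := Fin.ext (Nat.mod_eq_of_lt (by omega))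
        rw [Nat.testBit_and, Bool.and_eq_true] at hb
        rw [hc]
        exact h ⟨n, by omega⟩ hb.1 hb.2
  exact key 126 le_rfl

/-- the automorphisms of the model graph -/
def autM : Subgroup (Equiv.Perm (Fin 126)) where
  carrier := {σ | ∀ i j, adjB (σ i) (σ j) = adjB i j}
  mul_mem' {a b} ha hb i j := by rw [Equiv.Perm.mul_apply, Equiv.Perm.mul_apply, ha, hb]
  one_mem' := fun i j => rfl
  inv_mem' {a} ha i j := by
    conv_rhs => rw [← a.apply_symm_apply i, ← a.apply_symm_apply j, ha]
    rfl

theorem fix_third {σ : Equiv.Perm (Fin 126)} (hσ : σ ∈ autM) {a b : Fin 126} (ha : σ a = a) (hb : σ b = b)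
    (he : inter126 a b = 2 ^ a.1 ||| 2 ^ b.1 ||| 2 ^ (R b a).1) (n1 : R b a ≠ a) (n2 : R b a ≠ b) :
    σ (R b a) = R b a := by
  have hc : ∀ c, adjB a c = true → adjB b c = true → adjB c (R b a) = true := by
    intro c h1 h2
    have hh : ∀ n : ℕ, n ≤ 126 → c.1 < n → (Nat.rec (motive := fun _ => Nat) (2 ^ 126 - 1) (fun c acc =>
        bif (row a &&& row b).testBit c then acc &&& row (pt126 c) else acc) n).testBit (R b a).1 = true →
          adjB c (R b a) = true := by
      intro n
      induction n with
      | zero => intro _ h; omega
      | succ n ih =>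
        intro hn hlt ht
        simp only at ht
        cases hb : (row a &&& row b).testBit n
        · rw [hb, cond_false] at ht
          rcases Nat.lt_succ_iff_lt_or_eq.mp hlt with h | h
          · exact ih (by omega) h ht
          · subst h
            simp only [adjB] at h1 h2
            simp [h1, h2] at hb
        · rw [hb, cond_true, Nat.testBit_and, Bool.and_eq_true] at ht
          rcases Nat.lt_succ_iff_lt_or_eq.mp hlt with h | h
          · exact ih (by omega) h ht.1
          · subst h
            have : pt126 c.1 = c := Fin.ext (Nat.mod_eq_of_lt c.2)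
            rw [this] at ht
            exact ht.2
    refine hh 126 le_rfl c.2 ?_
    show (inter126 a b).testBit (R b a).1 = true
    rw [he]
    simp [Nat.testBit_or, Nat.testBit_two_pow]
  have ht : (inter126 a b).testBit (σ (R b a)).1 = true := testBit_inter126 fun c h1 h2 => by
    obtain ⟨c, rfl⟩ := σ.surjective c
    rw [← ha, hσ] at h1
    rw [← hb, hσ] at h2
    rw [hσ]
    exact hc c h1 h2
  rw [he] at ht
  simp only [Nat.testBit_or, Bool.or_eq_true, Nat.testBit_two_pow, decide_eq_true_eq] at ht
  rcases ht with (e | e) | e
  · exact absurd (σ.injective ((Fin.ext e.symm).trans ha.symm)) n1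
  · exact absurd (σ.injective ((Fin.ext e.symm).trans hb.symm)) n2
  · exact Fin.ext e.symm

/-- possible images of a point -/
def cand (done : List (Fin 126)) (x : Fin 126) : List (Fin 126) :=
  (List.finRange 126).filter fun y => done.all fun m => decide (y ≠ m) && (adjB y m == adjB x m)

/-- the forced point is justified -/
def forcedOK (done : List (Fin 126)) (a b : Fin 126) : Bool :=
  done.contains a && (done.contains b && (decide (R b a ≠ a ∧ R b a ≠ b) &&
    (inter126 a b == (2 ^ a.1 ||| 2 ^ b.1 ||| 2 ^ (R b a).1))))

/-- the bound of the chain; zero is never returned for a valid chain -/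
def chainCount : List (Nat × Nat) → List (Fin 126) → Option Nat
  | [], done => if (List.finRange 126).all (fun i => done.contains i) then some 1 else none
  | (a, b) :: l, done =>
    if b = 126 then
      if done.contains (pt126 a) then none
      else (chainCount l (pt126 a :: done)).map ((cand done (pt126 a)).length * ·)
    else if forcedOK done (pt126 a) (pt126 b) then chainCount l (R (pt126 b) (pt126 a) :: done) else none

theorem chain_ok : chainCount chainT [] = some 13063680 := by decide +kernel

theorem chain_sound : ∀ (l : List (Nat × Nat)) (done : List (Fin 126)) (N : ℕ) (H : Subgroup (Equiv.Perm (Fin 126))),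
    chainCount l done = some N → H ≤ autM → (∀ σ ∈ H, ∀ m ∈ done, σ m = m) → Nat.card H ≤ N := by
  intro l
  induction l with
  | nil =>
    intro done N H hN _ hfix
    simp only [chainCount] at hN
    split at hN
    · rename_i hall
      cases hN
      simp only [List.all_eq_true, List.mem_finRange, forall_const, List.contains_eq_mem, decide_eq_true_eq] at hall
      have : H = ⊥ := (Subgroup.eq_bot_iff_forall _).mpr fun σ hσ => Equiv.ext fun i => hfix σ hσ i (hall i)
      rw [this]; simp
    · exact absurd hN (by simp)
  | cons p l ih =>
    intro done N H hN hle hfix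
    obtain ⟨a, b⟩ := p
    simp only [chainCount] at hN
    split at hN
    · split at hN
      · exact absurd hN (by simp)
      rename_i hnew
      simp only [List.contains_eq_mem, decide_eq_true_eq] at hnew
      obtain ⟨M, hM, rfl⟩ := Option.map_eq_some_iff.mp hN
      set x := pt126 a
      classical
      let S : Subgroup (Equiv.Perm (Fin 126)) := H ⊓ MulAction.stabilizer (Equiv.Perm (Fin 126)) x
      have hS : Nat.card S ≤ M := ih (x :: done) M S hM (inf_le_left.trans hle) fun σ hσ m hm => by
        rcases List.mem_cons.mp hm with rfl | hm
        · exact hσ.2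
        · exact hfix σ hσ.1 m hm
      have horb : Nat.card (MulAction.orbit H x) ≤ (cand done x).length := by
        refine le_trans ?_ (List.toFinset_card_le _)
        rw [Nat.card_coe_set_eq, ← Set.ncard_coe_finset]
        refine Set.ncard_le_ncard ?_ (Set.toFinite _)
        rintro _ ⟨⟨σ, hσ⟩, rfl⟩
        simp only [List.coe_toFinset, Set.mem_ofPred_eq, cand, List.mem_filter, List.mem_finRange, true_and,
          List.all_eq_true, Bool.and_eq_true, decide_eq_true_eq, beq_iff_eq]
        intro m hm
        have hm' : σ m = m := hfix σ hσ m hm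
        refine ⟨fun e => hnew ?_, ?_⟩
        · have e' : σ x = σ m := e.trans hm'.symm
          rw [σ.injective e']; exact hm
        · show adjB (σ x) m = adjB x m
          conv_lhs => rw [← hm']
          exact hle hσ x m
      have hstab : Nat.card (MulAction.stabilizer H x) ≤ Nat.card S :=
        Nat.card_le_card_of_injective (fun g => (⟨g.1.1, g.1.2, g.2⟩ : S))
          fun g g' e => Subtype.ext (Subtype.ext (congrArg (fun t : S => (t : Equiv.Perm (Fin 126))) e))
      calc Nat.card H = Nat.card (MulAction.orbit H x) * Nat.card (MulAction.stabilizer H x) := by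
            rw [← Nat.card_prod]
            exact Nat.card_congr (MulAction.orbitProdStabilizerEquivGroup H x).symm
        _ ≤ (cand done x).length * M := Nat.mul_le_mul horb (hstab.trans hS)
    · split at hN
      · rename_i hok
        simp only [forcedOK, Bool.and_eq_true, List.contains_eq_mem, decide_eq_true_eq, beq_iff_eq] at hok
        obtain ⟨h1, h2, ⟨n1, n2⟩, he⟩ := hok
        refine ih _ N H hN hle fun σ hσ m hm => ?_
        rcases List.mem_cons.mp hm with rfl | hm
        · exact fix_third (hle hσ) (hfix σ hσ _ h1) (hfix σ hσ _ h2) he n1 n2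
        · exact hfix σ hσ m hm
      · exact absurd hN (by simp)

theorem card_autM_le : Nat.card autM ≤ 13063680 :=
  chain_sound chainT [] _ autM chain_ok le_rfl fun _ _ _ hm => by simp at hm

end Cfsg.Agent.Lib.FischerQuad75
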