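import Mathlib
import Cfsg.Prelude.Def_Classical
import Cfsg.Agent.Lib.FischerQuad75.Auto

/-!
Checked facts about the coordinates of the 126 points and two reflection matrices.

Owner: helper75.
-/

set_option autoImplicit false
set_option maxRecDepth 100000
set_option maxHeartbeats 4000000
set_option Elab.async false

namespace Cfsg.Agent.Lib.FischerQuad75

open Cfsg.Agent.Lib.Computation (getW)
open scoped Matrix

instance : Fact (Nat.Prime 3) := ⟨Nat.prime_three⟩

/-- the index set -/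
abbrev I6 := (Fin 2 ⊕ Fin 2) ⊕ Fin 2

/-- the position of a coordinate in the tables -/
def kk : I6 → Fin 6
  | .inl (.inl i) => ⟨i.1, by omega⟩
  | .inl (.inr i) => ⟨2 + i.1, by omega⟩
  | .inr i => ⟨4 + i.1, by omega⟩

/-- the form -/
abbrev QM : (I6 → ZMod 3) → ZMod 3 := Cfsg.quadFormMinus 2 (ZMod 3) 0 1

/-- the form by hand -/
def q6 (v : I6 → ZMod 3) : ZMod 3 :=
  v (.inl (.inl 0)) * v (.inl (.inr 0)) + v (.inl (.inl 1)) * v (.inl (.inr 1)) +
    (v (.inr 0) * v (.inr 0) + v (.inr 1) * v (.inr 1))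

theorem QM_eq (v : I6 → ZMod 3) : QM v = q6 v := by
  simp [QM, Cfsg.quadFormMinus, q6, Fin.sum_univ_two, sq]

/-- a vector from six coordinates -/
def mk6 (a b c d e f : ZMod 3) : I6 → ZMod 3 := Sum.elim (Sum.elim ![a, b] ![c, d]) ![e, f]

theorem eq_mk6 (v : I6 → ZMod 3) :
    v = mk6 (v (.inl (.inl 0))) (v (.inl (.inl 1))) (v (.inl (.inr 0))) (v (.inl (.inr 1))) (v (.inr 0)) (v (.inr 1)) := by
  funext i
  rcases i with (i | i) | i <;> fin_cases i <;> rfl

/-- the points -/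
def vec (i : Fin 126) : I6 → ZMod 3 := fun k => (getW 2 (vecT.getD i.1 0) (kk k).1 : ℕ)

theorem q_vec : ∀ i : Fin 126, q6 (vec i) = 1 := by decide +kernel

theorem vec_cover6 : ∀ a b c d e f : ZMod 3, q6 (mk6 a b c d e f) = 1 →
    ∃ i : Fin 126, (∀ k, vec i k = mk6 a b c d e f k) ∨ (∀ k, vec i k = - mk6 a b c d e f k) := by
  decide +kernel

theorem vec_sign : ∀ i j : Fin 126, ((∀ k, vec i k = vec j k) ∨ (∀ k, vec i k = - vec j k)) → i = j := by
  decide +kernel

theorem adj_vec : ∀ i j : Fin 126,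
    adjB i j = (decide (i ≠ j) && decide (q6 (fun k => vec i k + vec j k) = 2)) := by decide +kernel

theorem adj_vec_sub : ∀ i j : Fin 126,
    adjB i j = (decide (i ≠ j) && decide (q6 (fun k => vec i k - vec j k) = 2)) := by decide +kernel

theorem vec_cover (v : I6 → ZMod 3) (h : QM v = 1) : ∃ i, vec i = v ∨ vec i = -v := by
  rw [QM_eq, eq_mk6 v] at h
  obtain ⟨i, hi⟩ := vec_cover6 _ _ _ _ _ _ h
  rw [← eq_mk6 v] at hi
  exact ⟨i, hi.imp funext funext⟩

/-- a matrix from a table -/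
def matOf (l : List (List Nat)) : Matrix I6 I6 (ZMod 3) :=
  fun i k => (((l.getD (kk i).1 []).getD (kk k).1 0 : ℕ) : ZMod 3)

theorem matA_sq : ∀ i k : I6, (∑ j : I6, matOf matA i j * matOf matA j k) = if i = k then 1 else 0 := by
  decide +kernel
theorem matB_sq : ∀ i k : I6, (∑ j : I6, matOf matB i j * matOf matB j k) = if i = k then 1 else 0 := by
  decide +kernel

theorem matA_iso : ∀ a b c d e f : ZMod 3,
    q6 (matOf matA *ᵥ mk6 a b c d e f) = q6 (mk6 a b c d e f) := by decide +kernel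
theorem matB_iso : ∀ a b c d e f : ZMod 3,
    q6 (matOf matB *ᵥ mk6 a b c d e f) = q6 (mk6 a b c d e f) := by decide +kernel

theorem matA_img : ∀ i : Fin 126, (∀ k, vec (R 0 i) k = (matOf matA *ᵥ vec i) k) ∨
    (∀ k, vec (R 0 i) k = - (matOf matA *ᵥ vec i) k) := by decide +kernel
theorem matB_img : ∀ i : Fin 126, (∀ k, vec (R (pt126 ptB) i) k = (matOf matB *ᵥ vec i) k) ∨
    (∀ k, vec (R (pt126 ptB) i) k = - (matOf matB *ᵥ vec i) k) := by decide +kernel

theorem commRR : ∃ i : Fin 126, R 0 (R (pt126 ptB) (R 0 (R (pt126 ptB) i))) ≠ i := by decide +kernel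

theorem R_invol : ∀ j i : Fin 126, R j (R j i) = i := by decide +kernel

end Cfsg.Agent.Lib.FischerQuad75
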