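import Mathlib
import Cfsg.Prelude.Def_Classical
import Cfsg.Agent.Lib.OrthOmega.Simple
import Cfsg.Agent.Lib.FischerQuad75.VecFacts

/-!
The orthogonal group of minus type in six variables over three elements on the 126 points: the image
of its commutator subgroup is simple and lies in the group generated by the reflections.

Owner: helper75.
-/

set_option autoImplicit false
set_option linter.style.haveILetI false
set_option maxRecDepth 100000
set_option maxHeartbeats 4000000
set_option Elab.async false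

namespace Cfsg.Agent.Lib.FischerQuad75

open Cfsg.Agent.Lib.Computation (getW)
open scoped Matrix commutatorElement

/-- the isometry group -/
abbrev OM := Cfsg.isometryGroup (ZMod 3) QM

/-- the matrix of an isometry on a vector -/
abbrev app6 (g : OM) (v : I6 → ZMod 3) : I6 → ZMod 3 :=
  ((g : Matrix.GeneralLinearGroup I6 (ZMod 3)) : Matrix I6 I6 (ZMod 3)) *ᵥ v

theorem QM_app (g : OM) (v : I6 → ZMod 3) : QM (app6 g v) = QM v := g.2 v v

theorem exists_img (g : OM) (i : Fin 126) : ∃ j, vec j = app6 g (vec i) ∨ vec j = - app6 g (vec i) :=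
  vec_cover _ (by rw [QM_app, QM_eq, q_vec])

/-- the point map of an isometry -/
noncomputable def imgPt (g : OM) (i : Fin 126) : Fin 126 := (exists_img g i).choose

theorem imgPt_spec (g : OM) (i : Fin 126) :
    vec (imgPt g i) = app6 g (vec i) ∨ vec (imgPt g i) = - app6 g (vec i) := (exists_img g i).choose_spec

theorem imgPt_eq {g : OM} {i j : Fin 126} (h : vec j = app6 g (vec i) ∨ vec j = - app6 g (vec i)) :
    imgPt g i = j := by
  refine vec_sign _ _ ?_
  rcases imgPt_spec g i with e | e <;> rcases h with e' | e' <;>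
    [left; right; right; left] <;> intro k <;> simp [e, e']

theorem imgPt_one (i : Fin 126) : imgPt 1 i = i := imgPt_eq (Or.inl (by simp [app6]))

theorem imgPt_mul (g h : OM) (i : Fin 126) : imgPt (g * h) i = imgPt g (imgPt h i) := by
  apply imgPt_eq
  have hm : app6 (g * h) (vec i) = app6 g (app6 h (vec i)) := by simp [app6, Matrix.mulVec_mulVec]
  rw [hm]
  rcases imgPt_spec h i with e | e <;> rcases imgPt_spec g (imgPt h i) with e' | e' <;>
    rw [e] at e' <;> simp only [app6, Matrix.mulVec_neg, neg_neg] at e' ⊢ <;> simp [e']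

/-- the action on the points -/
noncomputable def rho : OM →* Equiv.Perm (Fin 126) where
  toFun g :=
    { toFun := imgPt g
      invFun := imgPt g⁻¹
      left_inv := fun i => by rw [← imgPt_mul, inv_mul_cancel, imgPt_one]
      right_inv := fun i => by rw [← imgPt_mul, mul_inv_cancel, imgPt_one] }
  map_one' := Equiv.ext imgPt_one
  map_mul' g h := Equiv.ext (imgPt_mul g h)

theorem rho_apply (g : OM) (i : Fin 126) : rho g i = imgPt g i := rfl

theorem rho_mem_autM (g : OM) : rho g ∈ autM := by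
  intro i j
  rw [rho_apply, rho_apply]
  by_cases hij : i = j
  · subst hij; simp [adj_irrefl]
  have hne : imgPt g i ≠ imgPt g j := fun e => hij ((rho g).injective e)
  have key : ∀ u v, QM (app6 g u + app6 g v) = QM (u + v) ∧ QM (app6 g u - app6 g v) = QM (u - v) := fun u v => by
    refine ⟨?_, ?_⟩
    · rw [show app6 g u + app6 g v = app6 g (u + v) from (Matrix.mulVec_add _ _ _).symm, QM_app]
    · rw [show app6 g u - app6 g v = app6 g (u - v) from (Matrix.mulVec_sub _ _ _).symm, QM_app]
  have hneg : ∀ v : I6 → ZMod 3, q6 (-v) = q6 v := fun v => by simp [q6]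
  rcases imgPt_spec g i with e | e <;> rcases imgPt_spec g j with e' | e'
  · rw [adj_vec (imgPt g i), adj_vec i]
    rw [show (fun k => vec (imgPt g i) k + vec (imgPt g j) k) = app6 g (vec i) + app6 g (vec j) by rw [e, e']; rfl,
      ← QM_eq, (key _ _).1, QM_eq]
    simp [hij, hne]; rfl
  · rw [adj_vec_sub (imgPt g i), adj_vec i]
    rw [show (fun k => vec (imgPt g i) k - vec (imgPt g j) k) = app6 g (vec i) + app6 g (vec j) by
      rw [e, e']; funext k; simp, ← QM_eq, (key _ _).1, QM_eq]
    simp [hij, hne]; rfl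
  · rw [adj_vec_sub (imgPt g i), adj_vec i]
    rw [show (fun k => vec (imgPt g i) k - vec (imgPt g j) k) = -(app6 g (vec i) + app6 g (vec j)) by
      rw [e, e']; funext k; simp; ring, hneg, ← QM_eq, (key _ _).1, QM_eq]
    simp [hij, hne]; rfl
  · rw [adj_vec (imgPt g i), adj_vec i]
    rw [show (fun k => vec (imgPt g i) k + vec (imgPt g j) k) = -(app6 g (vec i) + app6 g (vec j)) by
      rw [e, e']; funext k; simp; ring, hneg, ← QM_eq, (key _ _).1, QM_eq]
    simp [hij, hne]; rfl

/-- the reflection at a point as a permutation -/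
def Rp (j : Fin 126) : Equiv.Perm (Fin 126) :=
  { toFun := R j, invFun := R j
    left_inv := R_invol j
    right_inv := R_invol j }

theorem Rp_apply (j i : Fin 126) : Rp j i = R j i := rfl

theorem exists_refl (M : Matrix I6 I6 (ZMod 3)) (h2 : ∀ i k : I6, (∑ j : I6, M i j * M j k) = if i = k then 1 else 0)
    (hQ : ∀ a b c d e f : ZMod 3, q6 (M *ᵥ mk6 a b c d e f) = q6 (mk6 a b c d e f)) (j : Fin 126)
    (himg : ∀ i : Fin 126, (∀ k, vec (R j i) k = (M *ᵥ vec i) k) ∨ (∀ k, vec (R j i) k = - (M *ᵥ vec i) k)) :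
    ∃ g : OM, rho g = Rp j := by
  have hMM : M * M = 1 := by ext i k; rw [Matrix.mul_apply, h2 i k, Matrix.one_apply]
  refine ⟨⟨⟨M, M, hMM, hMM⟩, fun u v => ?_⟩, Equiv.ext fun i => imgPt_eq ((himg i).imp funext funext)⟩
  show QM (M *ᵥ u) = QM u
  rw [QM_eq, QM_eq, eq_mk6 u]
  exact hQ _ _ _ _ _ _

/-- the group generated by the reflections -/
def Rgp : Subgroup (Equiv.Perm (Fin 126)) := Subgroup.closure (Set.range Rp)

/-- the image of the commutator subgroup -/
noncomputable def PO : Subgroup (Equiv.Perm (Fin 126)) := (commutator OM).map rho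

theorem PO_le_autM : PO ≤ autM := by
  rintro _ ⟨g, -, rfl⟩
  exact rho_mem_autM g

theorem anis : ∀ z₁ z₂ : ZMod 3, z₁ ^ 2 + 0 * z₁ * z₂ + 1 * z₂ ^ 2 = 0 → z₁ = 0 ∧ z₂ = 0 := by decide +kernel

/-- the image is the simple group -/
theorem exists_PO_iso : Nonempty (Cfsg.POmega (ZMod 3) QM ≃* ↥PO) := by
  classical
  haveI hs : IsSimpleGroup (Cfsg.POmega (ZMod 3) QM) :=
    OrthOmega.isSimpleGroup_pOmega_minus 2 le_rfl anis
  set Z := Subgroup.center (Cfsg.Omega (ZMod 3) QM) with hZ
  set f : Cfsg.Omega (ZMod 3) QM →* Equiv.Perm (Fin 126) := rho.comp (Subgroup.subtype _) with hf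
  have hrange : f.range = PO := by
    rw [hf, MonoidHom.range_comp, Subgroup.range_subtype]
    rfl
  have hQ := Forms.qMinus_nondeg 2 anis
  have h5 : 5 ≤ Module.finrank (ZMod 3) (I6 → ZMod 3) := by simp
  have hap : ∀ v, QM v = Forms.qMinus 2 (0 : ZMod 3) 1 v := fun v => (Forms.qMinus_apply 2 0 1 v).symm
  have hZker : Z ≤ f.ker := by
    intro c hc
    let e := (OrthOmega.omegaEquiv (Forms.qMinus 2 (0 : ZMod 3) 1) hap).trans
      (MulEquiv.subgroupCongr (OrthOmega.commutator_eq_EG hQ h5))
    have hec : e c ∈ Subgroup.center _ := by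
      rw [← OrthOmega.map_center_mulEquiv e]
      exact Subgroup.mem_map_of_mem _ hc
    have hact : ∀ x, (e c).1.1 x = app6 c.1 x := fun x => rfl
    rw [MonoidHom.mem_ker]
    refine Equiv.ext fun i => imgPt_eq ?_
    rcases (OrthOmega.mem_center_EG_iff hQ h5 (e c)).mp hec with h | h
    · exact Or.inl ((h (vec i)).symm.trans (hact _))
    · refine Or.inr ?_
      show vec i = - app6 c.1 (vec i)
      rw [← hact, h, neg_neg]
  obtain ⟨A, hA⟩ := exists_refl _ matA_sq matA_iso 0 matA_img
  obtain ⟨B, hB⟩ := exists_refl _ matB_sq matB_iso _ matB_img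
  let k : Cfsg.Omega (ZMod 3) QM := ⟨⁅A, B⁆, Subgroup.commutator_mem_commutator (Subgroup.mem_top A) (Subgroup.mem_top B)⟩
  have hfk : f k ≠ 1 := by
    obtain ⟨i, hi⟩ := commRR
    intro h
    refine hi ?_
    have h1 : ∀ j, (Rp j)⁻¹ = Rp j := fun j => rfl
    have := congrArg (fun σ => σ i) h
    simpa [hf, k, commutatorElement_def, hA, hB, h1, Rp_apply] using this
  have hkerZ : f.ker ≤ Z := by
    have hn : (f.ker.map (QuotientGroup.mk' Z)).Normal :=
      Subgroup.Normal.map inferInstance _ (QuotientGroup.mk'_surjective Z)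
    rcases hn.eq_bot_or_eq_top with h | h
    · intro x hx
      have := Subgroup.mem_map_of_mem (QuotientGroup.mk' Z) hx
      rw [h] at this
      exact (QuotientGroup.eq_one_iff x).mp this
    · exfalso
      obtain ⟨x, hx, he⟩ := (h ▸ Subgroup.mem_top (QuotientGroup.mk' Z k) :
        QuotientGroup.mk' Z k ∈ f.ker.map (QuotientGroup.mk' Z))
      have hz : x⁻¹ * k ∈ Z := QuotientGroup.eq.mp he
      apply hfk
      have := hZker hz
      rw [MonoidHom.mem_ker, map_mul, map_inv, MonoidHom.mem_ker.mp hx, inv_one, one_mul] at this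
      exact this
  have hker : f.ker = Z := le_antisymm hkerZ hZker
  exact ⟨((QuotientGroup.quotientMulEquivOfEq hker.symm).trans (QuotientGroup.quotientKerEquivRange f)).trans
    (MulEquiv.subgroupCongr hrange)⟩

theorem PO_simple : IsSimpleGroup PO := by
  haveI := OrthOmega.isSimpleGroup_pOmega_minus (F := ZMod 3) 2 le_rfl anis
  obtain ⟨e⟩ := exists_PO_iso
  haveI : Nontrivial PO := e.symm.toEquiv.nontrivial
  exact IsSimpleGroup.isSimpleGroup_of_surjective e.toMonoidHom e.surjective

theorem card_PO : Nat.card PO = 3265920 := by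
  obtain ⟨e⟩ := exists_PO_iso
  rw [← Nat.card_congr e.toEquiv]
  have h := OrthOmega.card_pOmega_minus (F := ZMod 3) (q := 3) (ZMod.card 3) 3 le_rfl anis
  simp only [show (3 : ℕ) - 1 = 2 from rfl, Finset.prod_range_succ, Finset.prod_range_zero] at h
  norm_num at h
  rw [show Cfsg.quadFormMinus (3 - 1) (ZMod 3) (0 : ZMod 3) 1 = QM from rfl] at h
  omega

/-- with equivariant reflections the image lies in their group -/
theorem PO_le_Rgp (hconj : ∀ σ ∈ autM, ∀ j, σ * Rp j * σ⁻¹ = Rp (σ j)) : PO ≤ Rgp := by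
  haveI := PO_simple
  have hn : (Rgp.subgroupOf PO).Normal := by
    refine ⟨fun n hn g => ?_⟩
    rw [Subgroup.mem_subgroupOf] at hn ⊢
    have hmap : Rgp.map (MulAut.conj (g : Equiv.Perm (Fin 126))).toMonoidHom ≤ Rgp := by
      rw [Rgp, MonoidHom.map_closure, Subgroup.closure_le]
      rintro _ ⟨_, ⟨j, rfl⟩, rfl⟩
      refine Subgroup.subset_closure ⟨(g : Equiv.Perm (Fin 126)) j, ?_⟩
      exact (hconj g (PO_le_autM g.2) j).symm
    simpa using hmap (Subgroup.mem_map_of_mem _ hn)
  rcases hn.eq_bot_or_eq_top with h | h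
  · exfalso
    obtain ⟨A, hA⟩ := exists_refl _ matA_sq matA_iso 0 matA_img
    obtain ⟨B, hB⟩ := exists_refl _ matB_sq matB_iso _ matB_img
    have hm : rho ⁅A, B⁆ ∈ PO :=
      Subgroup.mem_map_of_mem _ (Subgroup.commutator_mem_commutator (Subgroup.mem_top A) (Subgroup.mem_top B))
    have hr : rho ⁅A, B⁆ ∈ Rgp := by
      rw [map_commutatorElement, hA, hB, commutatorElement_def]
      have m : ∀ j, Rp j ∈ Rgp := fun j => Subgroup.subset_closure ⟨j, rfl⟩
      exact mul_mem (mul_mem (mul_mem (m _) (m _)) (inv_mem (m _))) (inv_mem (m _))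
    have h1 : (⟨_, hm⟩ : PO) ∈ Rgp.subgroupOf PO := hr
    rw [h, Subgroup.mem_bot] at h1
    obtain ⟨i, hi⟩ := commRR
    refine hi ?_
    have h1' : ∀ j, (Rp j)⁻¹ = Rp j := fun j => rfl
    have := congrArg (fun σ : PO => (σ : Equiv.Perm (Fin 126)) i) h1
    simpa [commutatorElement_def, hA, hB, h1', Rp_apply] using this
  · exact Subgroup.subgroupOf_eq_top.mp h

end Cfsg.Agent.Lib.FischerQuad75
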