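import Mathlib
import Cfsg.Agent.Lib.FischerQuad75.Local
import Cfsg.Agent.Lib.FischerQuad75.Labelling
import Cfsg.Agent.Lib.FischerQuad75.Rho

/-!
The centraliser of a product of four commuting transpositions acting on the 126 points.

Owner: helper75.
-/

set_option autoImplicit false
set_option linter.style.haveILetI false
set_option linter.unusedSectionVars false

namespace Cfsg.Agent.Lib.FischerQuad75

open Cfsg.Agent.Lib.FischerMTypes Cfsg.Agent.Lib.FischerMTypes.Basic
open Cfsg.Agent.Lib.FischerMTypes.Step (IsProd)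
open Cfsg.Agent.Lib.FischerMTypes32 (Data24)
open scoped Classical

universe u

variable {G : Type u} [Group G] [Fintype G] {D : Set G}
variable {Q : Type u} [Group Q] [Finite Q] {E : Set Q} {Q₂ : Type u} [Group Q₂] [Finite Q₂]
variable {E₂ : Set Q₂} {F : Type} [Field F] [Fintype F] (K : Data24 D E E₂ F) {z : G}

/-- the tetrads labelled by the points -/
structure Lab (K : Data24 D E E₂ F) (z : G) where
  e : Fin 126 ≃ Tet D z
  adj : ∀ i j, TAdj (e i) (e j) ↔ adjB i j = true
  th : ∀ i j, i ≠ j → adjB i j = false → thT K (e i) (e j) = e (R j i)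

include K in
theorem exists_lab (hz : IsProd D 4 z) : Nonempty (Lab K z) := by
  obtain ⟨l, h1, h2, h3, h4, h5⟩ := hz
  let o : Tet D z := ⟨l.toFinset, l, ⟨h1, h3, h4⟩, h2, h5, rfl⟩
  obtain ⟨e, he, -, hadj, hth⟩ := (geo K ⟨l, h1, h2, h3, h4, h5⟩).exists_labelling o
  exact ⟨⟨Equiv.ofBijective e he, hadj, hth⟩⟩

namespace Lab

variable {K} (A : Lab K z)

/-- the members of the tetrad of a point -/
noncomputable def T (i : Fin 126) : Finset G := (A.e i).1

theorem isTet (i : Fin 126) : IsTet D z (A.T i) := (A.e i).2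

theorem mem_D {i : Fin 126} {x : G} (hx : x ∈ A.T i) : x ∈ D := (A.isTet i).mem_D hx

theorem comm_z {i : Fin 126} {x : G} (hx : x ∈ A.T i) : Commute x z := (A.isTet i).comm_z hx

include A in
theorem exists_mem (i : Fin 126) : ∃ x, x ∈ A.T i := (A.isTet i).nonempty

theorem eq_of_mem {i j : Fin 126} {x : G} (hi : x ∈ A.T i) (hj : x ∈ A.T j) : i = j :=
  A.e.injective (tet_eq K hi hj)

include A in
theorem exists_point (hz : IsProd D 4 z) {x : G} (hx : x ∈ D) (hc : Commute x z) : ∃ i, x ∈ A.T i := by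
  obtain ⟨U, hU⟩ := exists_tet K hz hx hc
  exact ⟨A.e.symm U, by rw [T, Equiv.apply_symm_apply]; exact hU⟩

theorem comm_adj {i j : Fin 126} (h : adjB i j = true ∨ i = j) {a x : G} (ha : a ∈ A.T i) (hx : x ∈ A.T j) :
    Commute a x := by
  rcases h with h | rfl
  · exact ((A.adj i j).mpr h).2 a ha x hx
  · exact (A.isTet i).comm ha hx

theorem not_comm {i j : Fin 126} (hne : i ≠ j) (h : adjB i j = false) {a x : G} (ha : a ∈ A.T i) (hx : x ∈ A.T j) :
    ¬ Commute a x :=
  FischerQuad75.not_comm K (fun e => hne (A.e.injective e))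
    (fun e => by rw [(A.adj i j).mp e] at h; exact Bool.noConfusion h) ha hx

/-- conjugating a member by another gives the member at the reflected point -/
theorem conj_mem {i j : Fin 126} {a x : G} (ha : a ∈ A.T i) (hx : x ∈ A.T j) : x * a * x ∈ A.T (R j i) := by
  by_cases h : i = j ∨ adjB i j = true
  · rw [R_fix h, (A.comm_adj h.symm ha hx).symm.eq, mul_assoc, mul_self K.hD.1 (A.mem_D hx), mul_one]
    exact ha
  · push Not at h
    have hf : adjB i j = false := by simpa using h.2
    rw [T, ← A.th i j h.1 hf]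
    exact mem_thT K (fun e => h.1 (A.e.injective e)) (fun e => h.2 ((A.adj i j).mp e)) ha hx

/-- the action of the centraliser -/
noncomputable def phi : ↥(Subgroup.centralizer ({z} : Set G)) →* Equiv.Perm (Fin 126) where
  toFun g := A.e.trans ((Equiv.ofBijective (move K.hD (Subgroup.mem_centralizer_singleton_iff.mp g.2))
    (Finite.injective_iff_bijective.mp fun u v h => Subtype.ext (Finset.image_injective
      (fun a b e => by simpa using e) (congrArg Subtype.val h)))).trans A.e.symm)
  map_one' := by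
    ext i
    simp [move]
  map_mul' g h := by
    ext i
    simp only [Equiv.trans_apply, Equiv.Perm.mul_apply, Equiv.ofBijective_apply, Equiv.apply_symm_apply]
    congr 2
    refine Subtype.ext ?_
    simp only [move, Finset.image_image]
    congr 1
    funext a
    simp [mul_assoc]

theorem phi_mem (g : ↥(Subgroup.centralizer ({z} : Set G))) {i : Fin 126} {x : G} (hx : x ∈ A.T i) :
    (g : G) * x * (g : G)⁻¹ ∈ A.T (A.phi g i) := by
  simp only [phi, MonoidHom.coe_mk, OneHom.coe_mk, Equiv.trans_apply, T, Equiv.apply_symm_apply,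
    Equiv.ofBijective_apply]
  exact Finset.mem_image.mpr ⟨x, hx, rfl⟩

theorem phi_eq (g : ↥(Subgroup.centralizer ({z} : Set G))) {i j : Fin 126} {x : G} (hx : x ∈ A.T i)
    (h : (g : G) * x * (g : G)⁻¹ ∈ A.T j) : A.phi g i = j :=
  A.eq_of_mem (A.phi_mem g hx) h

theorem phi_mem_autM (g : ↥(Subgroup.centralizer ({z} : Set G))) : A.phi g ∈ autM := by
  intro i j
  obtain ⟨a, ha⟩ := A.exists_mem i
  obtain ⟨x, hx⟩ := A.exists_mem j
  by_cases hij : i = j
  · subst hij; simp [adj_irrefl]
  have hne : A.phi g i ≠ A.phi g j := fun e => hij ((A.phi g).injective e)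
  have hc : Commute ((g : G) * a * (g : G)⁻¹) ((g : G) * x * (g : G)⁻¹) ↔ Commute a x :=
    FischerMTypes32.cconj (g : G) a x
  cases h : adjB i j
  · cases h' : adjB (A.phi g i) (A.phi g j)
    · rfl
    · exact absurd (hc.mp (A.comm_adj (Or.inl h') (A.phi_mem g ha) (A.phi_mem g hx))) (A.not_comm hij h ha hx)
  · cases h' : adjB (A.phi g i) (A.phi g j)
    · exact absurd (hc.mpr (A.comm_adj (Or.inl h) ha hx)) (A.not_comm hne h' (A.phi_mem g ha) (A.phi_mem g hx))
    · rfl

/-- a member acts as the reflection at its point -/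
theorem phi_member {j : Fin 126} {x : G} (hx : x ∈ A.T j) (hm : x ∈ Subgroup.centralizer ({z} : Set G)) :
    A.phi ⟨x, hm⟩ = Rp j := by
  ext i
  obtain ⟨a, ha⟩ := A.exists_mem i
  refine congrArg Fin.val (A.phi_eq _ ha ?_)
  show x * a * x⁻¹ ∈ _
  rw [inv_eq K.hD.1 (A.mem_D hx)]
  exact A.conj_mem ha hx

theorem mem_C {j : Fin 126} {x : G} (hx : x ∈ A.T j) : x ∈ Subgroup.centralizer ({z} : Set G) :=
  Subgroup.mem_centralizer_singleton_iff.mpr (A.comm_z hx).eq

theorem Rp_mem_range (j : Fin 126) : Rp j ∈ A.phi.range := by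
  obtain ⟨x, hx⟩ := A.exists_mem j
  exact ⟨⟨x, A.mem_C hx⟩, A.phi_member hx _⟩

theorem range_conj {σ : Equiv.Perm (Fin 126)} (hσ : σ ∈ A.phi.range) (j : Fin 126) :
    σ * Rp j * σ⁻¹ = Rp (σ j) := by
  obtain ⟨g, rfl⟩ := hσ
  obtain ⟨x, hx⟩ := A.exists_mem j
  rw [← A.phi_member hx (A.mem_C hx), ← A.phi_member (A.phi_mem g hx) (A.mem_C (A.phi_mem g hx)), ← map_inv,
    ← map_mul, ← map_mul]
  rfl

theorem PO_le_range (h : A.phi.range = autM) : PO ≤ A.phi.range := by
  refine (PO_le_Rgp fun σ hσ j => A.range_conj (h ▸ hσ) j).trans ((Subgroup.closure_le _).mpr ?_)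
  rintro _ ⟨j, rfl⟩
  exact A.Rp_mem_range j

end Lab

end Cfsg.Agent.Lib.FischerQuad75
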