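import Mathlib
import Cfsg.Agent.Lib.FischerQuad75.Auto

/-!
Six generators of the 126 points under reflections, the relations among them, and the triangular
family.

Owner: helper75.
-/

set_option autoImplicit false
set_option maxRecDepth 100000
set_option maxHeartbeats 4000000
set_option Elab.async false

namespace Cfsg.Agent.Lib.FischerQuad75

/-- the closure list is justified and covers all points -/
def cloOK : List (Nat × Nat × Nat) → List (Fin 126) → Bool
  | [], known => (List.finRange 126).all fun i => known.contains i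
  | (a, b, c) :: l, known => known.contains (pt126 a) && (known.contains (pt126 b) &&
      (decide (pt126 a ≠ pt126 b ∧ adjB (pt126 a) (pt126 b) = false ∧ R (pt126 b) (pt126 a) = pt126 c) &&
        cloOK l (pt126 c :: known)))

theorem clo_ok : cloOK genClosT (genT.map pt126) = true := by decide +kernel

theorem clo_induct {P : Fin 126 → Prop} : ∀ (l : List (Nat × Nat × Nat)) (known : List (Fin 126)),
    cloOK l known = true → (∀ i ∈ known, P i) →
    (∀ t ∈ l, pt126 t.1 ≠ pt126 t.2.1 → adjB (pt126 t.1) (pt126 t.2.1) = false →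
      R (pt126 t.2.1) (pt126 t.1) = pt126 t.2.2 → P (pt126 t.1) → P (pt126 t.2.1) → P (pt126 t.2.2)) →
    ∀ i, P i := by
  intro l
  induction l with
  | nil =>
    intro known hok hk _ i
    simp only [cloOK, List.all_eq_true, List.mem_finRange, forall_const, List.contains_eq_mem, decide_eq_true_eq] at hok
    exact hk i (hok i)
  | cons t l ih =>
    intro known hok hk hstep
    obtain ⟨a, b, c⟩ := t
    simp only [cloOK, Bool.and_eq_true, List.contains_eq_mem, decide_eq_true_eq] at hok
    obtain ⟨ha, hb, ⟨h1, h2, h3⟩, hrest⟩ := hok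
    refine ih _ hrest (fun i hi => ?_) fun t ht => hstep t (List.mem_cons_of_mem _ ht)
    rcases List.mem_cons.mp hi with rfl | hi
    · exact hstep (a, b, c) List.mem_cons_self h1 h2 h3 (hk _ ha) (hk _ hb)
    · exact hk i hi

/-- what holds at the six generators and passes to reflected points holds everywhere -/
theorem gen_induct {P : Fin 126 → Prop} (hgen : ∀ i ∈ genT.map pt126, P i)
    (hstep : ∀ a b, a ≠ b → adjB a b = false → P a → P b → P (R b a)) (i : Fin 126) : P i :=
  clo_induct genClosT _ clo_ok hgen (fun _ _ h1 h2 h3 pa pb => h3 ▸ hstep _ _ h1 h2 pa pb) i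

/-- six bits at each point: its expression in the generators -/
def valT : Nat :=
  143685276490496708888254720059495191195623147008770575946856700533903428932555773577585832241446663207754331767484300784302003549900499275299411851618140327917495964836942907656654601733608637383811862670383207725432795098241736

/-- the expression of a point -/
def val (i : Fin 126) : Nat := Cfsg.Agent.Lib.Computation.getW 6 valT i.1

/-- the expression of a relation -/
def relVal (p : Nat × Nat) : Nat :=
  val (pt126 p.1) ^^^ val (pt126 p.2) ^^^ val (R (pt126 p.2) (pt126 p.1))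

theorem val_step : ∀ t ∈ genClosT, val (pt126 t.2.2) = val (pt126 t.1) ^^^ val (pt126 t.2.1) := by decide +kernel

theorem val_gen : ∀ p ∈ genT.zipIdx, val (pt126 p.1) = 2 ^ p.2 := by decide +kernel

theorem rel_ok : ∀ p ∈ relT.zipIdx, (p.1.foldl (fun acc q => acc ^^^ relVal q) 0) = 2 ^ p.2 ∧
    ∀ q ∈ p.1, pt126 q.1 ≠ pt126 q.2 ∧ adjB (pt126 q.1) (pt126 q.2) = false := by decide +kernel

/-- a linear form on six bits -/
def ev (g : Nat → Bool) (x : Nat) : Bool :=
  xor (xor (xor (x.testBit 0 && g 0) (x.testBit 1 && g 1)) (xor (x.testBit 2 && g 2) (x.testBit 3 && g 3)))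
    (xor (x.testBit 4 && g 4) (x.testBit 5 && g 5))

theorem ev_xor (g : Nat → Bool) (x y : Nat) : ev g (x ^^^ y) = xor (ev g x) (ev g y) := by
  simp only [ev, Nat.testBit_xor, Bool.and_xor_distrib_right]
  cases x.testBit 0 && g 0 <;> cases y.testBit 0 && g 0 <;> cases x.testBit 1 && g 1 <;> cases y.testBit 1 && g 1 <;>
    cases x.testBit 2 && g 2 <;> cases y.testBit 2 && g 2 <;> cases x.testBit 3 && g 3 <;>
      cases y.testBit 3 && g 3 <;> cases x.testBit 4 && g 4 <;> cases y.testBit 4 && g 4 <;>
        cases x.testBit 5 && g 5 <;> cases y.testBit 5 && g 5 <;> rfl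

theorem pow_bits : ∀ k j : Fin 6, (2 ^ k.1).testBit j.1 = decide (k = j) := by decide +kernel

theorem ev_pow (g : Nat → Bool) {k : Nat} (hk : k < 6) : ev g (2 ^ k) = g k := by
  unfold ev
  rw [show Nat.testBit (2 ^ k) 0 = decide ((⟨k, hk⟩ : Fin 6) = 0) from pow_bits ⟨k, hk⟩ 0,
    show Nat.testBit (2 ^ k) 1 = decide ((⟨k, hk⟩ : Fin 6) = 1) from pow_bits ⟨k, hk⟩ 1,
    show Nat.testBit (2 ^ k) 2 = decide ((⟨k, hk⟩ : Fin 6) = 2) from pow_bits ⟨k, hk⟩ 2,
    show Nat.testBit (2 ^ k) 3 = decide ((⟨k, hk⟩ : Fin 6) = 3) from pow_bits ⟨k, hk⟩ 3,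
    show Nat.testBit (2 ^ k) 4 = decide ((⟨k, hk⟩ : Fin 6) = 4) from pow_bits ⟨k, hk⟩ 4,
    show Nat.testBit (2 ^ k) 5 = decide ((⟨k, hk⟩ : Fin 6) = 5) from pow_bits ⟨k, hk⟩ 5]
  have key : ∀ m : Fin 6, ∀ a b c d e f : Bool,
      xor (xor (xor (decide (m = 0) && a) (decide (m = 1) && b)) (xor (decide (m = 2) && c) (decide (m = 3) && d)))
        (xor (decide (m = 4) && e) (decide (m = 5) && f)) = [a, b, c, d, e, f].getD m.1 false := by decide +kernel
  rw [key ⟨k, hk⟩]
  rcases k with _ | _ | _ | _ | _ | _ | k <;> first | omega | rfl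

/-- an additive function on the points is zero -/
theorem additive_zero (χ : Fin 126 → Bool)
    (hadd : ∀ a b, a ≠ b → adjB a b = false → χ (R b a) = xor (χ a) (χ b)) : ∀ i, χ i = false := by
  set g : Nat → Bool := fun k => χ (pt126 (genT.getD k 0))
  have key : ∀ i, χ i = ev g (val i) := by
    refine clo_induct genClosT _ clo_ok (fun i hi => ?_) fun t ht n1 n2 n3 pa pb => ?_
    · simp only [genT, List.map_cons, List.map_nil, List.mem_cons, List.not_mem_nil, or_false] at hi
      rcases hi with rfl | rfl | rfl | rfl | rfl | rfl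
      · rw [val_gen (79, 0) (by simp [genT]), ev_pow g (by norm_num)]; rfl
      · rw [val_gen (56, 1) (by simp [genT]), ev_pow g (by norm_num)]; rfl
      · rw [val_gen (16, 2) (by simp [genT]), ev_pow g (by norm_num)]; rfl
      · rw [val_gen (0, 3) (by simp [genT]), ev_pow g (by norm_num)]; rfl
      · rw [val_gen (124, 4) (by simp [genT]), ev_pow g (by norm_num)]; rfl
      · rw [val_gen (111, 5) (by simp [genT]), ev_pow g (by norm_num)]; rfl
    · rw [val_step t ht, ev_xor, ← pa, ← pb, ← n3, hadd _ _ n1 n2]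
  have hzero : ∀ p ∈ relT.zipIdx, p.2 < 6 → g p.2 = false := by
    intro p hp hlt
    obtain ⟨h1, h2⟩ := rel_ok p hp
    rw [← ev_pow g hlt, ← h1]
    have : ∀ (l : List (Nat × Nat)) (acc : Nat), (∀ q ∈ l, pt126 q.1 ≠ pt126 q.2 ∧
        adjB (pt126 q.1) (pt126 q.2) = false) → ev g acc = false →
        ev g (l.foldl (fun acc q => acc ^^^ relVal q) acc) = false := by
      intro l
      induction l with
      | nil => exact fun acc _ h => h
      | cons q l ih =>
        intro acc hl h
        refine ih _ (fun r hr => hl r (List.mem_cons_of_mem _ hr)) ?_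
        obtain ⟨n1, n2⟩ := hl q List.mem_cons_self
        rw [ev_xor, h, relVal, ev_xor, ev_xor, ← key, ← key, ← key, hadd _ _ n1 n2]
        simp
    exact this _ _ h2 (by simp [ev])
  have hg : ∀ k < 6, g k = false := by
    intro k hk
    have hlen : k < relT.zipIdx.length := by simpa [relT] using hk
    have := hzero _ (List.getElem_mem hlen)
    simp only [List.getElem_zipIdx] at this
    simpa using this (by omega)
  intro i
  rw [key]
  simp [ev, hg 0 (by norm_num), hg 1 (by norm_num), hg 2 (by norm_num), hg 3 (by norm_num), hg 4 (by norm_num),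
    hg 5 (by norm_num)]

/-- a row of the triangular family -/
def rowP (j : Fin 6) : Fin 126 := pt126 (rowT.getD j.1 0)

/-- a column of the triangular family -/
def colP (j : Fin 6) : Fin 126 := pt126 (colT.getD j.1 0)

theorem tri_ok : (∀ j, rowP j ≠ colP j ∧ adjB (rowP j) (colP j) = false) ∧
    ∀ i j : Fin 6, i.1 < j.1 → adjB (rowP j) (colP i) = true ∨ rowP j = colP i := by decide +kernel

theorem exists_far : ∀ i : Fin 126, ∃ j, i ≠ j ∧ adjB i j = false := by decide +kernel

theorem exists_far_zero : ∀ i : Fin 126, ∃ k, (0 : Fin 126) ≠ k ∧ adjB 0 k = false ∧ i ≠ k ∧ adjB i k = false := by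
  decide +kernel

theorem Rp_inj_gen : ∀ i ∈ genT.map pt126, ∀ j : Fin 126, i = j ∨ ∃ k, R i k ≠ R j k := by decide +kernel

end Cfsg.Agent.Lib.FischerQuad75
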