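import Mathlib
import Cfsg.Agent.Lib.FischerMTypes.StabilizerM22
import Cfsg.Agent.Lib.FischerMTypes.M23Data
import Cfsg.Agent.Lib.FischerMTypes32.Trans24
import Cfsg.Agent.Lib.FischerMTypes.PointCounts
import Cfsg.Agent.Lib.UnitaryFour.PointStab

/-!
Type M(24): an element commuting with four commuting transpositions and everything commuting with
them lies in the group they generate.

Owner: helper75.
-/

set_option autoImplicit false
set_option linter.style.haveILetI false
set_option linter.unusedSectionVars false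

namespace Cfsg.Agent.Lib.FischerQuad75

open Cfsg.Agent.Lib.FischerMTypes Cfsg.Agent.Lib.FischerMTypes.Basic Cfsg.Agent.Lib.FischerMTypes.Primitive
  Cfsg.Agent.Lib.FischerMTypes.Levels Cfsg.Agent.Lib.FischerMTypes.Types
open Cfsg.Agent.Lib.FischerMTypes.Bases (com)
open Cfsg.Agent.Lib.FischerMTypes.Step (Tuple StepData Pinned tuple_cons tuple_tail)
open Cfsg.Agent.Lib.FischerMTypes32 (Data24)
open Cfsg.Agent.Lib.Unitary (herm_add_left herm_smul_left herm_smul_right herm_eq_zero_symm)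
open Cfsg.Agent.Lib.UnitaryFour.Transvection
open Cfsg.Agent.Lib.UnitaryFour.Stabilizer (exists_Frame lin)
open Cfsg.Agent.Lib.UnitaryFour.PointStab
open Cfsg.Agent.Lib.AutPSU (PS RS)

universe u

variable {G : Type u} [Group G] [Finite G] {D : Set G}

local notation "h⟪" u ", " v "⟫" => Cfsg.hermForm 6 _ 2 u v

/-- the scalar of a four-element field in the special unitary group -/
theorem exists_scalar {F : Type} [Field F] [Fintype F] (hF : Fintype.card F = 2 ^ 2) {k : F} (hk : k ≠ 0) :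
    ∃ s : Cfsg.SU 6 F 2, ∀ v, act s v = k • v := by
  let M : Matrix (Fin 6) (Fin 6) F := k • (1 : Matrix (Fin 6) (Fin 6) F)
  have hdet : M.det = 1 := by
    simp only [M, Matrix.det_smul, Matrix.det_one, Fintype.card_fin, mul_one]
    linear_combination (k ^ 3 + 1) * UnitaryFour.Transvection.cube_eq_one hF hk
  refine ⟨⟨⟨M, hdet⟩, fun u v => ?_⟩, fun v => ?_⟩
  · show Cfsg.hermForm 6 F 2 (M.mulVec u) (M.mulVec v) = _
    simp only [M, Matrix.smul_mulVec, Matrix.one_mulVec, herm_smul_left, herm_smul_right]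
    linear_combination Cfsg.hermForm 6 F 2 u v * UnitaryFour.Transvection.cube_eq_one hF hk
  · show M.mulVec v = k • v
    simp [M, Matrix.smul_mulVec]

section M22

variable {F : Type} [Field F] [Fintype F]

/-- type M(22): commuting with a pair and its common neighbours -/
theorem fixer_M22 (S : TraceCounts.Sys D F) {c p : G} (hl : Tuple D [c, p]) {g : G} (hgc : Commute g c)
    (hgp : Commute g p) (hg : ∀ y ∈ com D [c, p], Commute g y) :
    g ∈ Subgroup.closure ({x | x ∈ [c, p]} : Set G) := by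
  obtain ⟨-, hc, hp'⟩ := tuple_tail hl
  have hp := hp' p (by simp)
  set C := S.ctx c hc
  set H := Subgroup.closure (perp D c) with hH
  have hgH : g ∈ H := by
    rw [hH, StabilizerM22.centralizer_eq S hc, Subgroup.mem_centralizer_singleton_iff]
    exact hgc.eq
  obtain ⟨q, hq, hqp⟩ : ∃ q ∈ perp D c, ¬ Commute p q := by
    by_contra h
    push Not at h
    have hsub : perp D c ⊆ insert p (perp₂ D c p) := fun q hq => by
      by_cases e : q = p
      · exact Or.inl e
      · exact Or.inr ⟨hq, hq.1, e, h q hq⟩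
    have := (Set.ncard_le_ncard hsub (Set.toFinite _)).trans (Set.ncard_insert_le _ _)
    rw [C.ncard_perp, C.ncard_edge hp] at this
    omega
  obtain ⟨e, f, hef, he0, hf0, hpe, -⟩ := C.exists_hyp_pt hp hq hqp
  obtain ⟨gf, hfr⟩ := exists_Frame C.hF hef
  obtain ⟨s, hs⟩ := C.surj (QuotientGroup.mk ⟨g, hgH⟩)
  have hfix : ∀ v : Fin 6 → F, h⟪v, v⟫ = 0 → v ≠ 0 → h⟪v, e⟫ = 0 → ∃ k : F, k ≠ 0 ∧ act s v = k • v := by
    intro v hv hv0 hve
    have hy := C.pt_mem hv hv0
    have hcom : Commute g (C.pt v) := by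
      by_cases he : C.pt v = p
      · rw [he]; exact hgp
      refine hg _ ⟨hy.1, fun u hu => ?_⟩
      simp only [List.mem_cons, List.not_mem_nil, or_false] at hu
      rcases hu with rfl | rfl
      · exact ⟨hy.2.1, hy.2.2⟩
      · refine ⟨he, ?_⟩
        rw [← hpe]
        exact (C.pt_comm hef.1 he0 hv hv0).mpr (herm_eq_zero_symm C.hF hve)
    have h1 := C.pt_conj hv hv0 s (k := ⟨g, hgH⟩) hs.symm
    simp only at h1
    rw [hcom.eq, mul_inv_cancel_right] at h1
    have hw : h⟪act s v, act s v⟫ = 0 := by rw [act_herm]; exact hv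
    have hw0 : act s v ≠ 0 := fun h => hv0 (by rw [← act_inv_self s v, h]; simp [act_def])
    obtain ⟨k, hk, hk'⟩ := (C.pt_eq hv hv0 hw hw0).mp h1
    exact ⟨k, hk, hk'⟩
  obtain ⟨k, hk, hke⟩ := hfix e hef.1 he0 hef.1
  obtain ⟨σ, hσ⟩ := exists_scalar (F := F) C.hF (inv_ne_zero hk)
  have hactσ : ∀ v, act (σ * s) v = k⁻¹ • act s v := fun v => by rw [act_mul, hσ]
  have hPS : σ * s ∈ PS (q := 2) e := mem_PS.mpr (by rw [hactσ, hke, inv_smul_smul₀ hk])
  have hRS : σ * s ∈ RS e := by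
    refine mem_RS_of_fix_points C.hF hfr hPS fun x hx hx0 a => ?_
    set v := lin gf x + a • e with hv'
    have horth : h⟪lin gf x, e⟫ = 0 := (hfr.lin_orth x).1
    have hve : h⟪v, e⟫ = 0 := by
      simp only [hv', herm_add_left, herm_smul_left, horth, hef.1, mul_zero, add_zero]
    have hv : h⟪v, v⟫ = 0 := by
      have := herm_orth C.hF hfr x x a a
      rw [hv', this, hx]
    have hv0 : v ≠ 0 := fun h0 => hx0 (lin_inj hfr (by
      have h1 := congrArg (fun w => h⟪w, f⟫) h0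
      simp only [hv', herm_add_left, herm_smul_left, (hfr.lin_orth x).2, hef.2.2, mul_one, zero_add,
        Cfsg.Agent.Lib.Unitary.herm_zero_left] at h1
      have h2 : lin gf x = 0 := by simpa [hv', h1] using h0
      rw [h2, lin_zero]))
    obtain ⟨l, -, hl'⟩ := hfix v hv hv0 hve
    exact ⟨k⁻¹ * l, by rw [hactσ, hl', smul_smul]⟩
  have hσ1 : C.φ σ = 1 := by
    obtain ⟨⟨y, hy⟩, hy'⟩ := QuotientGroup.mk_surjective (C.φ σ)
    rw [← hy', QuotientGroup.eq_one_iff, Subgroup.mem_center_iff]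
    rintro ⟨w, hw⟩
    refine Subtype.ext (commute_closure (u := y) (fun u hu => ?_) w hw).eq.symm
    obtain ⟨v, hv, hv0, rfl⟩ := C.exists_pt hu
    have h1 := C.pt_conj hv hv0 σ (k := ⟨y, hy⟩) hy'
    rw [hσ, C.pt_smul hv hv0 (inv_ne_zero hk)] at h1
    exact mul_inv_eq_iff_eq_mul.mp h1
  have hφ : C.φ (σ * s) = QuotientGroup.mk ⟨g, hgH⟩ := by rw [map_mul, hσ1, one_mul, hs]
  have hcenter : ∀ {y : G} (hy : y ∈ H), (⟨y, hy⟩ : ↥H) ∈ Subgroup.center ↥H →
      y ∈ Subgroup.closure ({x | x ∈ [c, p]} : Set G) := by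
    intro y hy h
    rw [StabilizerM22.center_eq S hc, Subgroup.mem_subgroupOf] at h
    exact Subgroup.zpowers_le.mpr (Subgroup.subset_closure (by simp)) h
  rcases (RS_eq C.hF hfr).mp hRS with h | h <;> rw [h] at hφ
  · rw [map_one] at hφ
    exact hcenter hgH ((QuotientGroup.eq_one_iff _).mp hφ.symm)
  · have hpm : C.pt e ∈ H := Subgroup.subset_closure (C.pt_mem hef.1 he0)
    have he : C.φ (tv C.hF e hfr.hyp.1) = QuotientGroup.mk (⟨C.pt e, hpm⟩ : ↥H) := (C.pt_im hef.1 he0).symm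
    rw [he] at hφ
    have h2 := hcenter (mul_mem (inv_mem hpm) hgH) (QuotientGroup.eq.mp hφ)
    have h3 := mul_mem (Subgroup.subset_closure (k := ({x | x ∈ [c, p]} : Set G)) (show p ∈ {x | x ∈ [c, p]} by simp)) h2
    rwa [hpe, mul_inv_cancel_left] at h3

end M22

variable {Q : Type u} [Group Q] [Finite Q] {E : Set Q} {N A k n T n₁ : ℕ}

/-- one step up -/
theorem fixer_step (S : StepData D E N A k n T) (P : Pinned D N A k n n₁) {a : G} {l : List G}
    (hl : Tuple D (a :: l))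
    (hQ : ∀ q : Q, ∀ l' : List Q, Tuple E l' → l'.length = l.length → (∀ u ∈ l', Commute q u) →
      (∀ y ∈ com E l', Commute q y) → q ∈ Subgroup.closure ({x | x ∈ l'} : Set Q))
    {g : G} (hga : Commute g a) (hgl : ∀ u ∈ l, Commute g u) (hg : ∀ y ∈ com D (a :: l), Commute g y) :
    g ∈ Subgroup.closure ({x | x ∈ a :: l} : Set G) := by
  obtain ⟨hl', ha, hp⟩ := tuple_tail hl
  have hcl : ∀ {y : G}, y ∈ perp D a → y ∈ Subgroup.closure (perp D a) := fun h => Subgroup.subset_closure h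
  have hgH : g ∈ Subgroup.closure (perp D a) := by
    rw [S.centralizer_eq P ha, Subgroup.mem_centralizer_singleton_iff]
    exact hga.eq
  have hcomm : ∀ {y : G}, y ∈ perp D a → Commute g y → Commute (S.f ha g) (S.f ha y) := fun {y} hy h => by
    show S.f ha g * S.f ha y = S.f ha y * S.f ha g
    rw [← S.f_mul ha hgH (hcl hy), ← S.f_mul ha (hcl hy) hgH, h.eq]
  have hq := hQ (S.f ha g) (l.map (S.f ha)) (S.tuple_map ha hl' hp) (by simp)
    (fun u hu => by
      obtain ⟨y, hy, rfl⟩ := List.mem_map.mp hu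
      exact hcomm (hp y hy) (hgl y hy))
    (fun q hq => by
      obtain ⟨y, hy, rfl⟩ := S.exists_f ha hq.1
      refine hcomm hy (hg y ⟨hy.1, fun u hu => ?_⟩)
      rcases List.mem_cons.mp hu with rfl | hu
      · exact ⟨hy.2.1, hy.2.2⟩
      · obtain ⟨h1, h2⟩ := hq.2 _ (List.mem_map_of_mem hu)
        exact ⟨fun e => h1 (by rw [e]), (S.commute_iff ha (hp u hu) hy).mp h2⟩)
  have hlift : ∀ q ∈ Subgroup.closure ({x | x ∈ l.map (S.f ha)} : Set Q),
      ∃ h ∈ Subgroup.closure ({x | x ∈ l} : Set G), h ∈ Subgroup.closure (perp D a) ∧ S.f ha h = q := by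
    intro q hq
    induction hq using Subgroup.closure_induction with
    | mem x hx =>
      obtain ⟨y, hy, rfl⟩ := List.mem_map.mp hx
      exact ⟨y, Subgroup.subset_closure hy, hcl (hp y hy), rfl⟩
    | one => exact ⟨1, one_mem _, one_mem _, S.f_one ha⟩
    | mul x y _ _ hx hy =>
      obtain ⟨h1, a1, b1, rfl⟩ := hx
      obtain ⟨h2, a2, b2, rfl⟩ := hy
      exact ⟨h1 * h2, mul_mem a1 a2, mul_mem b1 b2, S.f_mul ha b1 b2⟩
    | inv x _ hx =>
      obtain ⟨h1, a1, b1, rfl⟩ := hx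
      exact ⟨h1⁻¹, inv_mem a1, inv_mem b1, S.f_inv ha b1⟩
  obtain ⟨h, hh, hhH, hfh⟩ := hlift _ hq
  have hsub : Subgroup.closure ({x | x ∈ l} : Set G) ≤ Subgroup.closure ({x | x ∈ a :: l} : Set G) :=
    Subgroup.closure_mono fun x hx => List.mem_cons_of_mem _ hx
  have h1 := (S.f_eq_iff ha hhH hgH).mp hfh
  rcases S.center_perp P.small ha (mul_mem (inv_mem hhH) hgH) h1 with e | e
  · rw [inv_mul_eq_one] at e
    exact e ▸ hsub hh
  · rw [inv_mul_eq_iff_eq_mul.mp e]
    exact mul_mem (hsub hh) (Subgroup.subset_closure (by simp))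

variable {Q₂ : Type u} [Group Q₂] [Finite Q₂] {E₂ : Set Q₂} {F : Type} [Field F] [Fintype F]

/-- the fixer of the star of four -/
theorem fixer_four (K : Data24 D E E₂ F) {a b c d : G} (hl : Tuple D [a, b, c, d]) {g : G}
    (hgl : ∀ u ∈ [a, b, c, d], Commute g u) (hg : ∀ y ∈ com D [a, b, c, d], Commute g y) :
    g ∈ Subgroup.closure ({x | x ∈ [a, b, c, d]} : Set G) := by
  refine fixer_step K.S K.pinned hl (fun q l hlt hlen hql hq => ?_) (hgl a (by simp))
    (fun u hu => hgl u (List.mem_cons_of_mem _ hu)) hg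
  obtain ⟨x, y, w, rfl⟩ : ∃ x y w, l = [x, y, w] := by
    match l, hlen with
    | [x, y, w], _ => exact ⟨x, y, w, rfl⟩
  refine fixer_step K.S23 (M23Data.pinned K.S23.hD K.S23.hprim K.hM K.S22 K.S23) hlt
    (fun r l hlt hlen hrl hr => ?_) (hql x (by simp)) (fun u hu => hql u (List.mem_cons_of_mem _ hu)) hq
  obtain ⟨u, v, rfl⟩ : ∃ u v, l = [u, v] := by
    match l, hlen with
    | [u, v], _ => exact ⟨u, v, rfl⟩
  exact fixer_M22 K.S22 hlt (hrl u (by simp)) (hrl v (by simp)) hr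

end Cfsg.Agent.Lib.FischerQuad75
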