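import Mathlib
import Cfsg.Agent.Lib.FischerQuad75.Action

/-!
Products of two members of a tetrad: modulo `z` a four-group for each point; two points that do not
commute pair their four-groups perfectly.

Owner: helper75.
-/

set_option autoImplicit false
set_option linter.style.haveILetI false
set_option linter.unusedSectionVars false

namespace Cfsg.Agent.Lib.FischerQuad75

open Cfsg.Agent.Lib.FischerMTypes Cfsg.Agent.Lib.FischerMTypes.Basic
open Cfsg.Agent.Lib.FischerMTypes.Step (IsProd Tuple)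
open Cfsg.Agent.Lib.FischerMTypes32 (Data24)
open scoped Classical

universe u

variable {G : Type u} [Group G] [Fintype G] {D : Set G}
variable {Q : Type u} [Group Q] [Finite Q] {E : Set Q} {Q₂ : Type u} [Group Q₂] [Finite Q₂]
variable {E₂ : Set Q₂} {F : Type} [Field F] [Fintype F] {K : Data24 D E E₂ F} {z : G}

/-- a product of two members -/
def IsPair (T : Finset G) (u : G) : Prop := ∃ a ∈ T, ∃ b ∈ T, a ≠ b ∧ u = a * b

/-- equal up to `z` -/
def Cls (z u v : G) : Prop := v = u ∨ v = u * z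

theorem IsTet.two {T : Finset G} (h : IsTet D z T) {a b : G} (ha : a ∈ T) (hb : b ∈ T) (hne : a ≠ b) :
    ∃ c d, c ∈ T ∧ d ∈ T ∧ c ≠ d ∧ c ≠ a ∧ c ≠ b ∧ d ≠ a ∧ d ≠ b ∧ a * b * (c * d) = z ∧
      ∀ x ∈ T, x = a ∨ x = b ∨ x = c ∨ x = d := by
  obtain ⟨l, hl, hn, hp, he⟩ := h.cons ha
  have hmem : ∀ x, x ∈ T ↔ x = a ∨ x ∈ l := fun x => by rw [← he]; simp
  have hbl : b ∈ l := ((hmem b).mp hb).resolve_left hne.symm
  obtain ⟨c, d, hcd⟩ : ∃ c d, l.erase b = [c, d] := by
    have h2 : (l.erase b).length = 2 := by rw [List.length_erase_of_mem hbl, hn]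
    match l.erase b, h2 with
    | [c, d], _ => exact ⟨c, d, rfl⟩
  have hperm : l.Perm (b :: [c, d]) := hcd ▸ List.perm_cons_erase hbl
  have hnd : (a :: b :: [c, d]).Nodup := (List.Perm.cons a hperm).nodup_iff.mp hl.1
  simp only [List.nodup_cons, List.mem_cons, List.not_mem_nil, or_false, not_or, List.nodup_nil, and_true,
    not_false_eq_true] at hnd
  have hm : ∀ x, x ∈ T ↔ x = a ∨ x = b ∨ x = c ∨ x = d := fun x => by
    rw [hmem, hperm.mem_iff]; simp
  refine ⟨c, d, (hm c).mpr (by simp), (hm d).mpr (by simp), hnd.2.2, Ne.symm hnd.1.2.1, Ne.symm hnd.2.1.1,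
    Ne.symm hnd.1.2.2, Ne.symm hnd.2.1.2, ?_, fun x hx => (hm x).mp hx⟩
  rw [← hp, hperm.prod_eq' (List.pairwise_iff_forall_sublist.mpr fun hs =>
    hl.2.2 _ (List.mem_cons_of_mem _ (hs.subset (by simp))) _ (List.mem_cons_of_mem _ (hs.subset (by simp))))]
  simp [mul_assoc]

namespace Lab

variable (A : Lab K z)

include A in
theorem z_mul_z (hz : IsProd D 4 z) : z * z = 1 := by
  obtain ⟨l, h1, -, h3, h4, rfl⟩ := hz
  exact SmallRelations.tuple_sq K.hD ⟨h1, h3, h4⟩

theorem comm {i : Fin 126} {a b : G} (ha : a ∈ A.T i) (hb : b ∈ A.T i) : Commute a b := (A.isTet i).comm ha hb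

theorem pair_sq {i : Fin 126} {u : G} (h : IsPair (A.T i) u) : u * u = 1 := by
  obtain ⟨a, ha, b, hb, -, rfl⟩ := h
  rw [show a * b * (a * b) = a * (b * a) * b by group, ← (A.comm ha hb).eq,
    show a * (a * b) * b = (a * a) * (b * b) by group, mul_self K.hD.1 (A.mem_D ha), mul_self K.hD.1 (A.mem_D hb),
    one_mul]

theorem pair_inv {i : Fin 126} {u : G} (h : IsPair (A.T i) u) : u⁻¹ = u :=
  inv_eq_of_mul_eq_one_right (A.pair_sq h)

theorem pair_comm_z {i : Fin 126} {u : G} (h : IsPair (A.T i) u) : Commute u z := by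
  obtain ⟨a, ha, b, hb, -, rfl⟩ := h
  exact (A.comm_z ha).mul_left (A.comm_z hb)

theorem pair_mem_C {i : Fin 126} {u : G} (h : IsPair (A.T i) u) : u ∈ Subgroup.centralizer ({z} : Set G) :=
  Subgroup.mem_centralizer_singleton_iff.mpr (A.pair_comm_z h).eq

theorem pair_mul_z {i : Fin 126} {u : G} (h : IsPair (A.T i) u) : IsPair (A.T i) (u * z) := by
  have hsq := A.pair_sq h
  obtain ⟨a, ha, b, hb, hne, rfl⟩ := h
  obtain ⟨c, d, hc, hd, hcd, -, -, -, -, hp, -⟩ := (A.isTet i).two ha hb hne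
  exact ⟨c, hc, d, hd, hcd, by rw [← hp, ← mul_assoc, hsq, one_mul]⟩

theorem pair_ne {i : Fin 126} {u : G} (hz : IsProd D 4 z) (h : IsPair (A.T i) u) : u ≠ 1 ∧ u ≠ z := by
  obtain ⟨a, ha, b, hb, hne, rfl⟩ := h
  have h2 : IsProd D 2 (a * b) := ⟨[a, b], by simpa using hne, rfl, by simp [A.mem_D ha, A.mem_D hb],
    by simp [A.comm ha hb, (A.comm ha hb).symm], by simp⟩
  refine ⟨fun e => ?_, fun e => ?_⟩
  · have := InvolutionsM24.unique_length K.S22 K.S23 K.S K.hM (m := 2) (m' := 0) (by norm_num) (by norm_num) h2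
      ⟨[], by simp, rfl, by simp, by simp, by simp [e]⟩
    omega
  · have := InvolutionsM24.unique_length K.S22 K.S23 K.S K.hM (m := 2) (m' := 4) (by norm_num) le_rfl h2 (e ▸ hz)
    omega

theorem pair_eq {i j : Fin 126} {a b c d : G} (ha : a ∈ A.T i) (hb : b ∈ A.T i) (hne : a ≠ b) (hc : c ∈ A.T j)
    (hd : d ∈ A.T j) (hcd : c ≠ d) (h : a * b = c * d) : (c = a ∨ c = b) ∧ (d = a ∨ d = b) := by
  have hl := SameFactors.pair_tuple (A.mem_D ha) (A.mem_D hb) hne (A.comm ha hb)
  have hl' := SameFactors.pair_tuple (A.mem_D hc) (A.mem_D hd) hcd (A.comm hc hd)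
  have key : ∀ {t : G}, t ∈ [c, d] → t ∈ [a, b] := fun ht =>
    SameFactors.mem_of_prod K.hD.1 (m := 1) (fun x p q => by
        have := InvolutionsM24.unique_length K.S22 K.S23 K.S K.hM (by norm_num) (by norm_num) p q
        omega)
      hl hl' rfl rfl (by simpa using h) (fun y hy e => InvolutionsM24.comm_factors K.hD hl (by simp) hy e) ht
  exact ⟨by simpa using key (List.mem_cons_self (a := c)), by simpa using key (show d ∈ [c, d] by simp)⟩

/-- every pair through a given member, up to `z` -/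
theorem pair_first (hz : IsProd D 4 z) {i : Fin 126} {u a : G} (h : IsPair (A.T i) u) (ha : a ∈ A.T i) :
    ∃ b ∈ A.T i, b ≠ a ∧ Cls z (a * b) u := by
  obtain ⟨p, hp, q, hq, hne, rfl⟩ := h
  by_cases h1 : a = p
  · subst h1; exact ⟨q, hq, hne.symm, Or.inl rfl⟩
  by_cases h2 : a = q
  · subst h2; exact ⟨p, hp, hne, Or.inl (A.comm hp hq).eq⟩
  obtain ⟨c, d, hc, hd, hcd, -, -, -, -, he, hall⟩ := (A.isTet i).two hp hq hne
  have hz2 := A.z_mul_z hz
  have hval : p * q = c * d * z := by
    have hsq := A.pair_sq ⟨c, hc, d, hd, hcd, rfl⟩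
    have hcz := A.pair_comm_z ⟨c, hc, d, hd, hcd, rfl⟩
    rw [hcz.eq, ← he, mul_assoc, hsq, mul_one]
  rcases (hall a ha).resolve_left h1 |>.resolve_left h2 with rfl | rfl
  · exact ⟨d, hd, hcd.symm, Or.inr hval⟩
  · exact ⟨c, hc, hcd, Or.inr (by rw [hval, (A.comm hc ha).eq])⟩

include A in
theorem cls_symm (hz : IsProd D 4 z) {u v : G} (h : Cls z u v) : Cls z v u := by
  rcases h with h | h
  · exact Or.inl h.symm
  · exact Or.inr (by rw [h, mul_assoc, A.z_mul_z hz, mul_one])

include A in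
theorem cls_trans (hz : IsProd D 4 z) {u v w : G} (h : Cls z u v) (h' : Cls z v w) : Cls z u w := by
  rcases h with rfl | rfl
  · exact h'
  · rcases h' with rfl | rfl
    · exact Or.inr rfl
    · exact Or.inl (by rw [mul_assoc, A.z_mul_z hz, mul_one])

theorem cls_pair {i : Fin 126} {u v : G} (h : IsPair (A.T i) u) (hc : Cls z u v) : IsPair (A.T i) v := by
  rcases hc with rfl | rfl
  · exact h
  · exact A.pair_mul_z h

theorem cls_comm {i : Fin 126} {u v w : G} (hu : IsPair (A.T i) u) (hw : Commute w z) (hc : Cls z u v)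
    (h : Commute w u) : Commute w v := by
  rcases hc with rfl | rfl
  · exact h
  · exact h.mul_right hw

/-- the product of two pairs of one tetrad -/
theorem pair_mul (hz : IsProd D 4 z) {i : Fin 126} {u v : G} (hu : IsPair (A.T i) u) (hv : IsPair (A.T i) v) :
    u * v = 1 ∨ u * v = z ∨ IsPair (A.T i) (u * v) := by
  obtain ⟨a, ha⟩ := A.exists_mem i
  obtain ⟨b, hb, hba, hbu⟩ := A.pair_first hz hu ha
  obtain ⟨c, hc, hca, hcv⟩ := A.pair_first hz hv ha
  have hab : a * b * (a * c) = b * c := by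
    rw [(A.comm ha hb).eq, show b * a * (a * c) = b * (a * a) * c by group, mul_self K.hD.1 (A.mem_D ha), mul_one]
  have hcz : Commute z (a * c) := (A.pair_comm_z ⟨a, ha, c, hc, hca.symm, rfl⟩).symm
  have hcases : u * v = b * c ∨ u * v = b * c * z := by
    rcases hbu with e1 | e1 <;> rcases hcv with e2 | e2 <;> rw [e1, e2]
    · exact Or.inl hab
    · exact Or.inr (by rw [← mul_assoc, hab])
    · exact Or.inr (by rw [mul_assoc (a * b) z, hcz.eq, ← mul_assoc, hab])
    · exact Or.inl (by rw [mul_assoc (a * b) z, ← mul_assoc z, hcz.eq, mul_assoc (a * c) z z,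
        A.z_mul_z hz, mul_one, hab])
  by_cases hbc : b = c
  · subst hbc
    rw [mul_self K.hD.1 (A.mem_D hb), one_mul] at hcases
    rcases hcases with h | h
    · exact Or.inl h
    · exact Or.inr (Or.inl h)
  · refine Or.inr (Or.inr ?_)
    rcases hcases with h | h <;> rw [h]
    · exact ⟨b, hb, c, hc, hbc, rfl⟩
    · exact A.pair_mul_z ⟨b, hb, c, hc, hbc, rfl⟩

/-! ### two points that do not commute -/

theorem conj_inj {i j : Fin 126} (hne : i ≠ j) (hA : adjB i j = false) {a b x : G} (ha : a ∈ A.T i)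
    (hb : b ∈ A.T i) (hx : x ∈ A.T j) (h : a * x * a = b * x * b) : a = b := by
  rw [braid K.hD.1 (A.mem_D ha) (A.mem_D hx) (A.not_comm hne hA ha hx),
    braid K.hD.1 (A.mem_D hb) (A.mem_D hx) (A.not_comm hne hA hb hx)] at h
  exact mul_left_cancel (mul_right_cancel h)

/-- a member moved by a pair stays in its tetrad -/
theorem pair_move_mem {i j : Fin 126} {u x : G} (hu : IsPair (A.T i) u) (hx : x ∈ A.T j) :
    u * x * u ∈ A.T j := by
  have hinv := A.pair_inv hu
  obtain ⟨a, ha, b, hb, -, rfl⟩ := hu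
  have h := A.conj_mem (A.conj_mem hx hb) ha
  rw [show R i (R i j) = j from R_invol i j] at h
  convert h using 1
  conv_lhs => arg 2; rw [(A.comm ha hb).eq]
  group

theorem pair_move_ne {i j : Fin 126} (hne : i ≠ j) (hA : adjB i j = false) {u x : G} (hu : IsPair (A.T i) u)
    (hx : x ∈ A.T j) : u * x * u ≠ x := by
  obtain ⟨a, ha, b, hb, hab, rfl⟩ := hu
  intro h
  refine hab (A.conj_inj hne hA ha hb hx ?_)
  have h' : a * (b * x * b) * a = x := by
    refine Eq.trans ?_ h
    calc a * (b * x * b) * a = a * b * x * (b * a) := by group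
      _ = a * b * x * (a * b) := by rw [← (A.comm ha hb).eq]
  have := congrArg (fun t => a * t * a) h'
  simp only [conj_self_inv K.hD.1 (A.mem_D ha)] at this
  exact this.symm

/-- commuting partner of a pair at the other point -/
theorem comm_move {i j : Fin 126} {u x : G} (hu : IsPair (A.T i) u) (hx : x ∈ A.T j) :
    Commute u (x * (u * x * u)) := by
  have hy := A.pair_move_mem hu hx
  have hsq := A.pair_sq hu
  show u * (x * (u * x * u)) = x * (u * x * u) * u
  rw [(A.comm hx hy).eq]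
  calc u * (u * x * u * x) = (u * u) * (x * u * x) := by group
    _ = x * (u * x) * (u * u) := by rw [hsq]; group
    _ = x * (u * x * u) * u := by group
    _ = u * x * u * x * u := by rw [(A.comm hx hy).eq]

theorem pair_of_move {i j : Fin 126} (hne : i ≠ j) (hA : adjB i j = false) {u x : G} (hu : IsPair (A.T i) u)
    (hx : x ∈ A.T j) : IsPair (A.T j) (x * (u * x * u)) :=
  ⟨x, hx, _, A.pair_move_mem hu hx, (A.pair_move_ne hne hA hu hx).symm, rfl⟩

/-- any other pair is moved to its `z` multiple -/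
theorem conj_other {i j : Fin 126} (hne : i ≠ j) (hA : adjB i j = false) {u x y : G} (hu : IsPair (A.T i) u)
    (hx : x ∈ A.T j) (hy : y ∈ A.T j) (hxy : x ≠ y) (hy' : y ≠ u * x * u) :
    u * (x * y) * u = x * y * z := by
  obtain ⟨c, d, hc, hd, hcd, -, -, -, -, hp, hall⟩ := (A.isTet j).two hx hy hxy
  set σ := fun t => u * t * u
  have hsq := A.pair_sq hu
  have hσσ : ∀ t, σ (σ t) = t := fun t => by
    show u * (u * t * u) * u = t
    calc u * (u * t * u) * u = (u * u) * t * (u * u) := by group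
      _ = t := by rw [hsq, one_mul, mul_one]
  have hval : x * y * z = c * d := by
    rw [← hp, ← mul_assoc, A.pair_sq ⟨x, hx, y, hy, hxy, rfl⟩, one_mul]
  have hx1 : σ x ≠ x := A.pair_move_ne hne hA hu hx
  have hy1 : σ y ≠ y := A.pair_move_ne hne hA hu hy
  have hy2 : σ y ≠ x := fun e => hy' (by
    have := congrArg σ e
    rwa [hσσ] at this)
  have hprod : u * (x * y) * u = σ x * σ y := by
    show _ = u * x * u * (u * y * u)
    calc u * (x * y) * u = u * x * (u * u) * y * u := by rw [hsq]; group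
      _ = _ := by group
  rw [hprod, hval]
  have hxy' : σ x ≠ σ y := fun e => hxy (by have := congrArg σ e; rwa [hσσ, hσσ] at this)
  rcases ((hall _ (A.pair_move_mem hu hx)).resolve_left hx1).resolve_left (Ne.symm hy') with e1 | e1 <;>
    rcases ((hall _ (A.pair_move_mem hu hy)).resolve_left hy2).resolve_left hy1 with e2 | e2
  · exact absurd (e1.trans e2.symm) hxy'
  · show u * x * u * (u * y * u) = c * d
    rw [e1, e2]
  · show u * x * u * (u * y * u) = c * d
    rw [e1, e2, (A.comm hc hd).eq]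
  · exact absurd (e1.trans e2.symm) hxy'

theorem comm_iff (hz : IsProd D 4 z) {i j : Fin 126} (hne : i ≠ j) (hA : adjB i j = false) {u v x : G}
    (hu : IsPair (A.T i) u) (hv : IsPair (A.T j) v) (hx : x ∈ A.T j) :
    Commute u v ↔ Cls z (x * (u * x * u)) v := by
  refine ⟨fun h => ?_, fun h => A.cls_comm (A.pair_of_move hne hA hu hx) (A.pair_comm_z hu) h (A.comm_move hu hx)⟩
  obtain ⟨y, hy, hyx, hc⟩ := A.pair_first hz hv hx
  by_cases e : y = u * x * u
  · exact e ▸ hc
  exfalso
  have h2 := A.cls_comm hv (A.pair_comm_z hu) (A.cls_symm hz hc) h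
  have h1 := A.conj_other hne hA hu hx hy hyx.symm e
  rw [h2.eq, mul_assoc (x * y) u u, A.pair_sq hu, mul_one] at h1
  obtain ⟨hz1, -⟩ : z ≠ 1 ∧ True := ⟨fun h => by
    obtain ⟨l, a, b, c, d, rfl⟩ := hz
    exact SmallRelations.ne_one_M24 K.S22 K.S23 K.S K.hM (l := l) ⟨a, c, d⟩ (by omega) (by omega) h, trivial⟩
  exact hz1 (mul_eq_left.mp h1.symm)

/-- conjugation moves a pair at most by `z` -/
theorem conj_pair (hz : IsProd D 4 z) {i j : Fin 126} {u v : G} (hu : IsPair (A.T i) u) (hv : IsPair (A.T j) v) :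
    Cls z v (u * v * u) := by
  by_cases h : Commute u v
  · exact Or.inl (by rw [h.eq, mul_assoc, A.pair_sq hu, mul_one])
  have hij : i ≠ j ∧ adjB i j = false := by
    by_contra hc
    refine h ?_
    obtain ⟨a, ha, b, hb, -, rfl⟩ := hu
    obtain ⟨c, hc', d, hd, -, rfl⟩ := hv
    have hor : adjB i j = true ∨ i = j := by
      by_cases e : i = j
      · exact Or.inr e
      · exact Or.inl (by simpa [e] using hc)
    exact ((A.comm_adj hor ha hc').mul_right (A.comm_adj hor ha hd)).mul_left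
      ((A.comm_adj hor hb hc').mul_right (A.comm_adj hor hb hd))
  obtain ⟨x, hx⟩ := A.exists_mem j
  obtain ⟨y, hy, hyx, hc⟩ := A.pair_first hz hv hx
  have e : y ≠ u * x * u := fun e => h ((A.comm_iff hz hij.1 hij.2 hu hv hx).mpr (e ▸ hc))
  have h1 := A.conj_other hij.1 hij.2 hu hx hy hyx.symm e
  rcases hc with hc | hc
  · exact Or.inr (by rw [hc, h1])
  · refine Or.inr ?_
    have huz : Commute z u := (A.pair_comm_z hu).symm
    rw [hc, show u * (x * y * z) * u = u * (x * y) * (z * u) by group, huz.eq, ← mul_assoc, h1]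

theorem exists_not_comm (hz : IsProd D 4 z) {i j : Fin 126} (hne : i ≠ j) (hA : adjB i j = false) {u : G}
    (hu : IsPair (A.T i) u) : ∃ v, IsPair (A.T j) v ∧ ¬ Commute u v := by
  obtain ⟨x, hx⟩ := A.exists_mem j
  have hy := A.pair_move_mem hu hx
  have hyx := A.pair_move_ne hne hA hu hx
  obtain ⟨c, d, hc, -, -, hcx, hcy, -, -, -, -⟩ := (A.isTet j).two hx hy hyx.symm
  refine ⟨x * c, ⟨x, hx, c, hc, hcx.symm, rfl⟩, fun h => ?_⟩
  rcases (A.comm_iff hz hne hA hu ⟨x, hx, c, hc, hcx.symm, rfl⟩ hx).mp h with e | e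
  · exact hcy (mul_left_cancel e)
  · obtain ⟨p, q, hp, hq, hpq, hpx, -, hqx, -, hpr, -⟩ := (A.isTet j).two hx hy hyx.symm
    have hval : x * (u * x * u) * z = p * q := by
      rw [← hpr, ← mul_assoc, A.pair_sq (A.pair_of_move hne hA hu hx), one_mul]
    rw [hval] at e
    rcases (A.pair_eq hp hq hpq hx hc hcx.symm e.symm).1 with h' | h'
    · exact hpx h'.symm
    · exact hqx h'.symm

end Lab

end Cfsg.Agent.Lib.FischerQuad75
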