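import Mathlib
import Cfsg.Agent.Lib.FischerQuad75.Pairs
import Cfsg.Agent.Lib.FischerQuad75.Fixer
import Cfsg.Agent.Lib.FischerQuad75.Clo

/-!
The kernel of the action on the points: the group of pair products has order 2^13 and index at most
three in it.

Owner: helper75.
-/

set_option autoImplicit false
set_option linter.style.haveILetI false
set_option linter.unusedSectionVars false

namespace Cfsg.Agent.Lib.FischerQuad75

open Cfsg.Agent.Lib.FischerMTypes Cfsg.Agent.Lib.FischerMTypes.Basic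
open Cfsg.Agent.Lib.FischerMTypes.Step (IsProd Tuple)
open Cfsg.Agent.Lib.FischerMTypes.Bases (com)
open Cfsg.Agent.Lib.FischerMTypes32 (Data24)
open scoped Classical

universe u

variable {G : Type u} [Group G] [Fintype G] {D : Set G}
variable {Q : Type u} [Group Q] [Finite Q] {E : Set Q} {Q₂ : Type u} [Group Q₂] [Finite Q₂]
variable {E₂ : Set Q₂} {F : Type} [Field F] [Fintype F] {K : Data24 D E E₂ F} {z : G}

theorem two_mul_le_card {H H' : Subgroup G} (hle : H ≤ H') {g : G} (hg : g ∈ H') (hg' : g ∉ H) :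
    2 * Nat.card H ≤ Nat.card H' := by
  obtain ⟨k, hk⟩ := Subgroup.card_dvd_of_le hle
  have hne : k ≠ 1 := fun h => hg' (by
    rw [h, mul_one] at hk
    rw [Subgroup.eq_of_le_of_card_ge hle hk.le]
    exact hg)
  have hpos : 0 < Nat.card H' := Nat.card_pos
  have hk0 : k ≠ 0 := fun h => by rw [h, mul_zero] at hk; omega
  rw [hk, mul_comm]
  exact Nat.mul_le_mul_left _ (by omega)

theorem conj_cls {k : G} (hk : Commute k z) {u v : G} (h : Cls z u v) : Cls z (k * u * k⁻¹) (k * v * k⁻¹) := by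
  rcases h with rfl | rfl
  · exact Or.inl rfl
  · refine Or.inr ?_
    calc k * (u * z) * k⁻¹ = k * u * k⁻¹ * (k * z * k⁻¹) := by group
      _ = _ := by rw [hk.eq, mul_inv_cancel_right]

namespace Lab

variable (A : Lab K z)

/-- the elements fixing every tetrad -/
noncomputable def Kf : Subgroup G := A.phi.ker.map (Subgroup.centralizer ({z} : Set G)).subtype

theorem mem_Kf {k : G} : k ∈ A.Kf ↔ Commute k z ∧ ∀ i, ∀ x ∈ A.T i, k * x * k⁻¹ ∈ A.T i := by
  constructor
  · rintro ⟨g, hg, rfl⟩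
    refine ⟨Subgroup.mem_centralizer_singleton_iff.mp g.2, fun i x hx => ?_⟩
    have h := A.phi_mem g hx
    rw [show A.phi g = 1 from MonoidHom.mem_ker.mp hg] at h
    simpa using h
  · rintro ⟨hc, h⟩
    refine ⟨⟨k, Subgroup.mem_centralizer_singleton_iff.mpr hc.eq⟩, MonoidHom.mem_ker.mpr (Equiv.ext fun i => ?_), rfl⟩
    obtain ⟨x, hx⟩ := A.exists_mem i
    exact A.phi_eq _ hx (h i x hx)

theorem Kf_comm_z {k : G} (hk : k ∈ A.Kf) : Commute k z := (A.mem_Kf.mp hk).1

theorem conj_pair_at (g : ↥(Subgroup.centralizer ({z} : Set G))) {i : Fin 126} {u : G} (hu : IsPair (A.T i) u) :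
    IsPair (A.T (A.phi g i)) ((g : G) * u * (g : G)⁻¹) := by
  obtain ⟨a, ha, b, hb, hne, rfl⟩ := hu
  exact ⟨_, A.phi_mem g ha, _, A.phi_mem g hb, fun e => hne (by simpa using e), by group⟩

theorem Kf_conj_pair {k u : G} (hk : k ∈ A.Kf) {i : Fin 126} (hu : IsPair (A.T i) u) :
    IsPair (A.T i) (k * u * k⁻¹) := by
  obtain ⟨a, ha, b, hb, hne, rfl⟩ := hu
  exact ⟨_, (A.mem_Kf.mp hk).2 i a ha, _, (A.mem_Kf.mp hk).2 i b hb, fun e => hne (by simpa using e), by group⟩

/-- fixes the pairs of a point up to `z` -/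
def AllFix (k : G) (i : Fin 126) : Prop := ∀ u, IsPair (A.T i) u → Cls z u (k * u * k⁻¹)

/-- the elements fixing every pair up to `z` -/
noncomputable def K1 (hz : IsProd D 4 z) : Subgroup G where
  carrier := {k | k ∈ A.Kf ∧ ∀ i, A.AllFix k i}
  one_mem' := ⟨one_mem _, fun i u _ => Or.inl (by simp)⟩
  mul_mem' {a b} ha hb := ⟨mul_mem ha.1 hb.1, fun i u hu => by
    have h := A.cls_trans hz (ha.2 i u hu) (conj_cls (A.Kf_comm_z ha.1) (hb.2 i u hu))
    convert h using 1
    group⟩
  inv_mem' {a} ha := ⟨inv_mem ha.1, fun i u hu => by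
    have h := conj_cls (A.Kf_comm_z (inv_mem ha.1)) (ha.2 i u hu)
    simp only [inv_inv] at h ⊢
    rw [show a⁻¹ * (a * u * a⁻¹) * a = u by group] at h
    exact A.cls_symm hz h⟩

theorem mem_K1 {hz : IsProd D 4 z} {k : G} : k ∈ A.K1 hz ↔ k ∈ A.Kf ∧ ∀ i, A.AllFix k i := Iff.rfl

/-- the group of pair products -/
noncomputable def Q0 : Subgroup G := Subgroup.closure {u | ∃ i, IsPair (A.T i) u}

theorem pair_mem_Q0 {i : Fin 126} {u : G} (h : IsPair (A.T i) u) : u ∈ A.Q0 := Subgroup.subset_closure ⟨i, h⟩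

theorem pair_mem_Kf {i : Fin 126} {u : G} (h : IsPair (A.T i) u) : u ∈ A.Kf :=
  A.mem_Kf.mpr ⟨A.pair_comm_z h, fun j x hx => by rw [A.pair_inv h]; exact A.pair_move_mem h hx⟩

theorem Q0_le_K1 (hz : IsProd D 4 z) : A.Q0 ≤ A.K1 hz :=
  (Subgroup.closure_le _).mpr fun u ⟨_, hu⟩ => ⟨A.pair_mem_Kf hu, fun j v hv => by
    rw [A.pair_inv hu]; exact A.conj_pair hz hu hv⟩

include A in
theorem exists_pair (i : Fin 126) : ∃ u, IsPair (A.T i) u := by
  obtain ⟨a, ha⟩ := A.exists_mem i
  obtain ⟨b, hb, hne⟩ := Finset.exists_mem_ne (s := A.T i) (by rw [(A.isTet i).card]; norm_num) a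
  exact ⟨a * b, a, ha, b, hb, hne.symm, rfl⟩

theorem z_mem_Q0 : z ∈ A.Q0 := by
  obtain ⟨u, hu⟩ := A.exists_pair 0
  have h := mul_mem (A.pair_mem_Q0 hu) (A.pair_mem_Q0 (A.pair_mul_z hu))
  rwa [← mul_assoc, A.pair_sq hu, one_mul] at h

theorem Kf_le_C : A.Kf ≤ Subgroup.centralizer ({z} : Set G) := Subgroup.map_subtype_le _

/-- conjugation by the centraliser keeps the pair group -/
theorem Q0_conj (g : ↥(Subgroup.centralizer ({z} : Set G))) {h : G} (hh : h ∈ A.Q0) :
    (g : G) * h * (g : G)⁻¹ ∈ A.Q0 := by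
  have : A.Q0.map (MulAut.conj (g : G)).toMonoidHom ≤ A.Q0 := by
    rw [Q0, MonoidHom.map_closure, Subgroup.closure_le]
    rintro _ ⟨u, ⟨i, hu⟩, rfl⟩
    exact Subgroup.subset_closure ⟨_, A.conj_pair_at g hu⟩
  exact this (Subgroup.mem_map_of_mem _ hh)

/-! ### fixing all members -/

include A in
theorem z_ne_one (hz : IsProd D 4 z) : z ≠ 1 := fun h => by
  obtain ⟨l, a, b, c, d, rfl⟩ := hz
  exact SmallRelations.ne_one_M24 K.S22 K.S23 K.S K.hM (l := l) ⟨a, c, d⟩ (by omega) (by omega) h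

theorem closure_tet {i : Fin 126} (hz : IsProd D 4 z) {x : G}
    (hx : x ∈ Subgroup.closure (A.T i : Set G)) :
    x = 1 ∨ x = z ∨ IsPair (A.T i) x ∨ ∃ e ∈ A.T i, x = e ∨ x = e * z := by
  have hz2 := A.z_mul_z hz
  have step : ∀ e ∈ A.T i, ∀ x, (x = 1 ∨ x = z ∨ IsPair (A.T i) x ∨ ∃ e ∈ A.T i, x = e ∨ x = e * z) →
      (e * x = 1 ∨ e * x = z ∨ IsPair (A.T i) (e * x) ∨ ∃ f ∈ A.T i, e * x = f ∨ e * x = f * z) := by
    intro e he x hx
    have hee := mul_self K.hD.1 (A.mem_D he)
    rcases hx with rfl | rfl | hp | ⟨f, hf, hfx⟩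
    · exact Or.inr (Or.inr (Or.inr ⟨e, he, Or.inl (mul_one e)⟩))
    · exact Or.inr (Or.inr (Or.inr ⟨e, he, Or.inr rfl⟩))
    · obtain ⟨b, hb, -, hc⟩ := A.pair_first hz hp he
      refine Or.inr (Or.inr (Or.inr ⟨b, hb, ?_⟩))
      rcases hc with rfl | rfl
      · exact Or.inl (by rw [← mul_assoc, hee, one_mul])
      · exact Or.inr (by rw [← mul_assoc, ← mul_assoc, hee, one_mul])
    · by_cases hef : e = f
      · subst hef
        rcases hfx with rfl | rfl
        · exact Or.inl hee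
        · exact Or.inr (Or.inl (by rw [← mul_assoc, hee, one_mul]))
      · refine Or.inr (Or.inr (Or.inl ?_))
        rcases hfx with rfl | rfl
        · exact ⟨e, he, _, hf, hef, rfl⟩
        · rw [← mul_assoc]; exact A.pair_mul_z ⟨e, he, f, hf, hef, rfl⟩
  induction hx using Subgroup.closure_induction_left with
  | one => exact Or.inl rfl
  | mul_left e he y _ ih => exact step e he y ih
  | inv_mul_cancel e he y _ ih => rw [inv_eq K.hD.1 (A.mem_D he)]; exact step e he y ih

/-- only `1` and `z` fix all members -/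
theorem fix_all (hz : IsProd D 4 z) {k : G} (hk : Commute k z) (h : ∀ i, ∀ x ∈ A.T i, Commute k x) :
    k = 1 ∨ k = z := by
  obtain ⟨l, hl, h4, hp, hT⟩ := A.isTet 0
  obtain ⟨a, b, c, d, rfl⟩ : ∃ a b c d, l = [a, b, c, d] := by
    match l, h4 with
    | [a, b, c, d], _ => exact ⟨a, b, c, d, rfl⟩
  have hmem := fixer_four K hl (g := k) (fun u hu => h 0 u (hT ▸ List.mem_toFinset.mpr hu)) fun y hy => by
    have hyz : Commute y z := hp ▸ Commute.list_prod_right _ y fun u hu => (hy.2 u hu).2.symm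
    obtain ⟨i, hi⟩ := A.exists_point hz hy.1 hyz
    exact h i y hi
  rw [show ({x | x ∈ [a, b, c, d]} : Set G) = (A.T 0 : Set G) by rw [← hT]; ext; simp] at hmem
  obtain ⟨j, hne, hA⟩ := exists_far 0
  obtain ⟨y, hy⟩ := A.exists_mem j
  rcases A.closure_tet hz hmem with e | e | e | ⟨f, hf, e⟩
  · exact Or.inl e
  · exact Or.inr e
  · exfalso
    refine A.pair_move_ne hne hA e hy ?_
    rw [(h j y hy).eq, mul_assoc, A.pair_sq e, mul_one]
  · exfalso
    refine A.not_comm hne hA hf hy ?_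
    rcases e with e | e
    · exact e ▸ h j y hy
    · have h1 : Commute (k * z) y := (h j y hy).mul_left (A.comm_z hy).symm
      rwa [e, mul_assoc, A.z_mul_z hz, mul_one] at h1

theorem conj_surj {i j : Fin 126} {x w : G} (hx : x ∈ A.T j) (hw : w ∈ A.T (R j i)) :
    ∃ a ∈ A.T i, w = x * a * x := by
  have hinj : Function.Injective fun a : G => x * a * x := fun a b h => mul_left_cancel (mul_right_cancel h)
  have himg : (A.T i).image (fun a => x * a * x) = A.T (R j i) := by
    refine Finset.eq_of_subset_of_card_le (fun y hy => ?_) ?_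
    · obtain ⟨a, ha, rfl⟩ := Finset.mem_image.mp hy
      exact A.conj_mem ha hx
    · rw [Finset.card_image_of_injective _ hinj, (A.isTet _).card, (A.isTet _).card]
  rw [← himg, Finset.mem_image] at hw
  obtain ⟨a, ha, rfl⟩ := hw
  exact ⟨a, ha, rfl⟩

theorem fix_all_of_gens (hz : IsProd D 4 z) {k : G} (hk : Commute k z)
    (h : ∀ i ∈ genT.map pt126, ∀ x ∈ A.T i, Commute k x) : k = 1 ∨ k = z := by
  refine A.fix_all hz hk fun i => gen_induct (P := fun i => ∀ x ∈ A.T i, Commute k x) h ?_ i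
  intro a b _ _ ha hb w hw
  obtain ⟨x, hx⟩ := A.exists_mem b
  obtain ⟨y, hy, rfl⟩ := A.conj_surj hx hw
  exact ((hb x hx).mul_right (ha y hy)).mul_right (hb x hx)

theorem exists_three (i : Fin 126) :
    ∃ a b c, a ∈ A.T i ∧ b ∈ A.T i ∧ c ∈ A.T i ∧ a ≠ b ∧ a ≠ c ∧ b ≠ c := by
  obtain ⟨a, ha⟩ := A.exists_mem i
  obtain ⟨b, hb, hne⟩ := Finset.exists_mem_ne (s := A.T i) (by rw [(A.isTet i).card]; norm_num) a
  obtain ⟨c, -, hc, -, -, hca, hcb, -⟩ := (A.isTet i).two ha hb hne.symm
  exact ⟨a, b, c, ha, hb, hc, hne.symm, hca.symm, hcb.symm⟩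

theorem fix_members {k : G} (hk : k ∈ A.Kf) {i : Fin 126} {a b c : G} (ha : a ∈ A.T i) (hb : b ∈ A.T i)
    (hc : c ∈ A.T i) (hab : a ≠ b) (hac : a ≠ c) (hbc : b ≠ c) (h1 : Commute k (a * b)) (h2 : Commute k (a * c)) :
    ∀ x ∈ A.T i, Commute k x := by
  set σ := fun t => k * t * k⁻¹ with hσ
  have hm : ∀ t ∈ A.T i, σ t ∈ A.T i := (A.mem_Kf.mp hk).2 i
  have hinj : Function.Injective σ := fun p q h => by simpa [hσ] using h
  have hp : ∀ p q, Commute k (p * q) → p * q = σ p * σ q := fun p q h => by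
    have e := h.eq
    simp only [hσ]
    calc p * q = k * (p * q) * k⁻¹ := by rw [e, mul_inv_cancel_right]
      _ = _ := by group
  have hab' := A.pair_eq ha hb hab (hm a ha) (hm b hb) (fun e => hab (hinj e)) (hp a b h1)
  have hac' := A.pair_eq ha hc hac (hm a ha) (hm c hc) (fun e => hac (hinj e)) (hp a c h2)
  have e1 : σ a = a := hab'.1.resolve_right fun e => by
    rcases hac'.1 with e' | e'
    · exact hab (e'.symm.trans e)
    · exact hbc (e.symm.trans e')
  have e2 : σ b = b := hab'.2.resolve_left fun e => hab (hinj (e1.trans e.symm))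
  have e3 : σ c = c := hac'.2.resolve_left fun e => hac (hinj (e1.trans e.symm))
  intro x hx
  have key : σ x = x := by
    obtain ⟨p, q, hp', hq, hpq, hpa, hpb, hqa, hqb, -, hall⟩ := (A.isTet i).two ha hb hab
    by_cases x1 : x = a
    · exact x1 ▸ e1
    by_cases x2 : x = b
    · exact x2 ▸ e2
    by_cases x3 : x = c
    · exact x3 ▸ e3
    have n1 : σ x ≠ a := fun e => x1 (hinj (e.trans e1.symm))
    have n2 : σ x ≠ b := fun e => x2 (hinj (e.trans e2.symm))
    have n3 : σ x ≠ c := fun e => x3 (hinj (e.trans e3.symm))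
    have h4 : ∀ y ∈ A.T i, y ≠ a → y ≠ b → y ≠ c → y = p ∧ c = q ∨ y = q ∧ c = p := by
      intro y hy y1 y2 y3
      rcases ((hall y hy).resolve_left y1).resolve_left y2 with e | e <;>
        rcases ((hall c hc).resolve_left hac.symm).resolve_left hbc.symm with e' | e'
      · exact absurd (e.trans e'.symm) y3
      · exact Or.inl ⟨e, e'⟩
      · exact Or.inr ⟨e, e'⟩
      · exact absurd (e.trans e'.symm) y3
    rcases h4 x hx x1 x2 x3 with ⟨e, e'⟩ | ⟨e, e'⟩ <;> rcases h4 (σ x) (hm x hx) n1 n2 n3 with ⟨f, f'⟩ | ⟨f, f'⟩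
    · exact f.trans e.symm
    · exact absurd (f'.symm.trans e') hpq
    · exact absurd (f'.symm.trans e') hpq.symm
    · exact f.trans e.symm
  exact mul_inv_eq_iff_eq_mul.mp key

theorem comm_eq_of_cls {hz : IsProd D 4 z} {k k' u : G} (hk : Cls z u (k * u * k⁻¹))
    (hk' : Cls z u (k' * u * k'⁻¹)) (h : Commute k u ↔ Commute k' u) : k * u * k⁻¹ = k' * u * k'⁻¹ := by
  have hiff : ∀ {g : G}, Commute g u ↔ g * u * g⁻¹ = u := fun {g} =>
    ⟨fun h => mul_inv_eq_iff_eq_mul.mpr h.eq, fun h => mul_inv_eq_iff_eq_mul.mp h⟩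
  by_cases hc : Commute k u
  · rw [hiff.mp hc, hiff.mp (h.mp hc)]
  · rw [hk.resolve_left fun e => hc (hiff.mpr e), hk'.resolve_left fun e => hc (h.mpr (hiff.mpr e))]

theorem card_K1_le (hz : IsProd D 4 z) : Nat.card (A.K1 hz) ≤ 2 ^ 13 := by
  have hg6 : ∀ n : Fin 6, pt126 (genT.getD n.1 0) ∈ genT.map pt126 := by decide
  choose a b c ha hb hc hab hac hbc using fun n : Fin 6 => A.exists_three (pt126 (genT.getD n.1 0))
  let f : A.K1 hz → Fin 6 → Bool × Bool := fun k n =>
    (decide (Commute (k : G) (a n * b n)), decide (Commute (k : G) (a n * c n)))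
  have hfib : ∀ k k' : A.K1 hz, f k = f k' → (k : G)⁻¹ * k' = 1 ∨ (k : G)⁻¹ * k' = z := by
    intro k k' he
    have hkk : (k : G)⁻¹ * k' ∈ A.Kf := mul_mem (inv_mem k.2.1) k'.2.1
    refine A.fix_all_of_gens hz (A.Kf_comm_z hkk) fun i hi => ?_
    obtain ⟨n, rfl⟩ : ∃ n : Fin 6, pt126 (genT.getD n.1 0) = i := by
      simp only [genT, List.map_cons, List.map_nil, List.mem_cons, List.not_mem_nil, or_false] at hi
      rcases hi with rfl | rfl | rfl | rfl | rfl | rfl
      exacts [⟨0, rfl⟩, ⟨1, rfl⟩, ⟨2, rfl⟩, ⟨3, rfl⟩, ⟨4, rfl⟩, ⟨5, rfl⟩]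
    have hn := congrFun he n
    simp only [f, Prod.mk.injEq, decide_eq_decide] at hn
    have key : ∀ {u}, IsPair (A.T (pt126 (genT.getD n.1 0))) u → (Commute (k : G) u ↔ Commute (k' : G) u) →
        Commute ((k : G)⁻¹ * k') u := fun {u} hu h => by
      have := comm_eq_of_cls (hz := hz) (k.2.2 _ u hu) (k'.2.2 _ u hu) h
      show (k : G)⁻¹ * k' * u = u * ((k : G)⁻¹ * k')
      calc (k : G)⁻¹ * k' * u = (k : G)⁻¹ * ((k' : G) * u * (k' : G)⁻¹) * k' := by group
        _ = (k : G)⁻¹ * ((k : G) * u * (k : G)⁻¹) * k' := by rw [this]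
        _ = _ := by group
    exact A.fix_members hkk (ha n) (hb n) (hc n) (hab n) (hac n) (hbc n)
      (key ⟨_, ha n, _, hb n, hab n, rfl⟩ hn.1) (key ⟨_, ha n, _, hc n, hac n, rfl⟩ hn.2)
  let g : A.K1 hz → (Fin 6 → Bool × Bool) × Bool := fun k => (f k, decide (k = Function.invFun f (f k)))
  have hginj : Function.Injective g := by
    intro k k' he
    obtain ⟨h1, h2⟩ := Prod.mk.inj he
    rw [← h1, decide_eq_decide] at h2
    set r := Function.invFun f (f k)
    by_cases hkr : k = r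
    · exact hkr.trans (h2.mp hkr).symm
    have hr : f r = f k := Function.invFun_eq ⟨k, rfl⟩
    have e1 := (hfib r k hr).resolve_left fun e => hkr (Subtype.ext (inv_mul_eq_one.mp e).symm)
    have e2 := (hfib r k' (hr.trans h1)).resolve_left fun e => hkr (h2.mpr (Subtype.ext (inv_mul_eq_one.mp e).symm))
    exact Subtype.ext (mul_left_cancel (e1.trans e2.symm))
  refine (Nat.card_le_card_of_injective g hginj).trans (le_of_eq ?_)
  simp

/-! ### the lower bound -/

include A in
theorem card_Q0_ge (hz : IsProd D 4 z) : 2 ^ 13 ≤ Nat.card A.Q0 := by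
  have key : ∀ m, m ≤ 6 → ∃ H : Subgroup G, H ≤ A.Q0 ∧ 2 ^ (1 + 2 * m) ≤ Nat.card H ∧
      ∀ i : Fin 6, i.1 + m < 6 → ∀ v, IsPair (A.T (colP i)) v → H ≤ Subgroup.centralizer {v} := by
    intro m
    induction m with
    | zero =>
      refine fun _ => ⟨Subgroup.zpowers z, Subgroup.zpowers_le.mpr A.z_mem_Q0, ?_, fun i _ v hv => ?_⟩
      · rw [Nat.card_zpowers, orderOf_eq_prime (by rw [sq]; exact A.z_mul_z hz) (A.z_ne_one hz)]
        norm_num
      · exact Subgroup.zpowers_le.mpr (Subgroup.mem_centralizer_singleton_iff.mpr (A.pair_comm_z hv).symm.eq)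
    | succ m ih =>
      intro hm
      obtain ⟨H, hH, hcard, hcent⟩ := ih (by omega)
      set i : Fin 6 := ⟨6 - (m + 1), by omega⟩ with hi
      obtain ⟨hne, hA⟩ := tri_ok.1 i
      have hA' : adjB (colP i) (rowP i) = false := by rw [adj_symm]; exact hA
      have hcl : ∀ v, IsPair (A.T (colP i)) v → H ≤ Subgroup.centralizer {v} :=
        hcent i (by simp [hi]; omega)
      obtain ⟨r1, hr1⟩ := A.exists_pair (rowP i)
      obtain ⟨c1, hc1, hn1⟩ := A.exists_not_comm hz hne hA hr1
      set H1 := H ⊔ Subgroup.zpowers r1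
      have hH1 : 2 * Nat.card H ≤ Nat.card H1 :=
        two_mul_le_card le_sup_left (Subgroup.mem_sup_right (Subgroup.mem_zpowers r1)) fun h =>
          hn1 (Subgroup.mem_centralizer_singleton_iff.mp (hcl c1 hc1 h))
      obtain ⟨x, hx⟩ := A.exists_mem (colP i)
      have hc2 := A.pair_of_move hne hA hr1 hx
      obtain ⟨r2, hr2, hn2⟩ := A.exists_not_comm hz hne.symm hA' hc2
      set H2 := H1 ⊔ Subgroup.zpowers r2
      have hH1c : H1 ≤ Subgroup.centralizer {x * (r1 * x * r1)} := sup_le (hcl _ hc2)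
        (Subgroup.zpowers_le.mpr (Subgroup.mem_centralizer_singleton_iff.mpr (A.comm_move hr1 hx).eq))
      have hH2 : 2 * Nat.card H1 ≤ Nat.card H2 :=
        two_mul_le_card le_sup_left (Subgroup.mem_sup_right (Subgroup.mem_zpowers r2)) fun h =>
          hn2 ((Subgroup.mem_centralizer_singleton_iff.mp (hH1c h) : Commute _ _).symm)
      refine ⟨H2, sup_le (sup_le hH (Subgroup.zpowers_le.mpr (A.pair_mem_Q0 hr1)))
        (Subgroup.zpowers_le.mpr (A.pair_mem_Q0 hr2)), ?_, fun j hj v hv => ?_⟩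
      · rw [show 1 + 2 * (m + 1) = (1 + 2 * m) + 2 by ring, pow_add]
        omega
      · have hji : j.1 < i.1 := by simp [hi]; omega
        have hrow : ∀ {r}, IsPair (A.T (rowP i)) r → Commute r v := by
          rintro _ ⟨p, hp, q, hq, -, rfl⟩
          obtain ⟨s, hs, t, ht, -, rfl⟩ := hv
          have hor := tri_ok.2 j i hji
          exact ((A.comm_adj hor hp hs).mul_right (A.comm_adj hor hp ht)).mul_left
            ((A.comm_adj hor hq hs).mul_right (A.comm_adj hor hq ht))
        refine sup_le (sup_le (hcent j (by omega) v hv) ?_) ?_ <;>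
          refine Subgroup.zpowers_le.mpr (Subgroup.mem_centralizer_singleton_iff.mpr ?_)
        · exact (hrow hr1).eq
        · exact (hrow hr2).eq
  obtain ⟨H, hH, hc, -⟩ := key 6 le_rfl
  exact hc.trans (Subgroup.card_le_of_le hH)

theorem K1_eq_Q0 (hz : IsProd D 4 z) : A.K1 hz = A.Q0 :=
  (Subgroup.eq_of_le_of_card_ge (A.Q0_le_K1 hz) ((A.card_K1_le hz).trans (A.card_Q0_ge hz))).symm

theorem card_Q0 (hz : IsProd D 4 z) : Nat.card A.Q0 = 2 ^ 13 :=
  le_antisymm (A.K1_eq_Q0 hz ▸ A.card_K1_le hz) (A.card_Q0_ge hz)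

/-- conjugation inside the pair group moves by at most `z` -/
theorem Q0_cls (hz : IsProd D 4 z) {g h : G} (hg : g ∈ A.Q0) (hh : h ∈ A.Q0) : Cls z h (g * h * g⁻¹) := by
  have hg1 := A.Q0_le_K1 hz hg
  induction hh using Subgroup.closure_induction with
  | mem u hu => exact hg1.2 _ u hu.choose_spec
  | one => exact Or.inl (by simp)
  | mul x y _ hy' hx hy =>
    have hyz : Commute y z := A.Kf_comm_z (A.Q0_le_K1 hz hy').1
    rw [show g * (x * y) * g⁻¹ = g * x * g⁻¹ * (g * y * g⁻¹) by group]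
    rcases hx with hx | hx <;> rcases hy with hy | hy <;> rw [hx, hy]
    · exact Or.inl rfl
    · exact Or.inr (mul_assoc _ _ _).symm
    · exact Or.inr (by rw [mul_assoc x z y, ← hyz.eq, ← mul_assoc])
    · refine Or.inl ?_
      rw [mul_assoc x z (y * z), ← mul_assoc z y z, ← hyz.eq, mul_assoc y z z, A.z_mul_z hz, mul_one]
  | inv x hx' hx =>
    have hxz : Commute x z := A.Kf_comm_z (A.Q0_le_K1 hz hx').1
    rw [show g * x⁻¹ * g⁻¹ = (g * x * g⁻¹)⁻¹ by group]
    rcases hx with hx | hx <;> rw [hx]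
    · exact Or.inl rfl
    · refine Or.inr ?_
      rw [mul_inv_rev, inv_eq_of_mul_eq_one_right (A.z_mul_z hz), hxz.symm.inv_right.eq]

/-- the centre of the pair group -/
theorem Q0_center (hz : IsProd D 4 z) {h : G} (hh : h ∈ A.Q0)
    (hc : ∀ i u, IsPair (A.T i) u → Commute h u) : h = 1 ∨ h = z := by
  have hf := (A.Q0_le_K1 hz hh).1
  refine A.fix_all hz (A.Kf_comm_z hf) fun i => ?_
  obtain ⟨a, b, c, ha, hb, hc', hab, hac, hbc⟩ := A.exists_three i
  exact A.fix_members hf ha hb hc' hab hac hbc (hc i _ ⟨a, ha, b, hb, hab, rfl⟩) (hc i _ ⟨a, ha, c, hc', hac, rfl⟩)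

/-! ### index three -/

theorem pair_tri (hz : IsProd D 4 z) {i : Fin 126} {u v w : G} (hu : IsPair (A.T i) u) (hv : IsPair (A.T i) v)
    (huv : ¬ Cls z u v) (hw : IsPair (A.T i) w) : Cls z u w ∨ Cls z v w ∨ Cls z (u * v) w := by
  obtain ⟨a, ha⟩ := A.exists_mem i
  obtain ⟨b, hb, hba, hbu⟩ := A.pair_first hz hu ha
  obtain ⟨c, hc, hca, hcv⟩ := A.pair_first hz hv ha
  obtain ⟨d, hd, hda, hdw⟩ := A.pair_first hz hw ha
  by_cases h1 : d = b
  · exact Or.inl (A.cls_trans hz (A.cls_symm hz (h1 ▸ hbu)) hdw)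
  by_cases h2 : d = c
  · exact Or.inr (Or.inl (A.cls_trans hz (A.cls_symm hz (h2 ▸ hcv)) hdw))
  refine Or.inr (Or.inr (A.cls_trans hz ?_ hdw))
  have hbc : b ≠ c := fun e => huv (A.cls_trans hz (A.cls_symm hz hbu) (e ▸ hcv))
  obtain ⟨p, q, hp, hq, hpq, hpa, hpb, hqa, hqb, hprod, hall⟩ := (A.isTet i).two ha hb hba.symm
  have hcd : c * d = p * q := by
    rcases ((hall c hc).resolve_left hca).resolve_left hbc.symm with e | e <;>
      rcases ((hall d hd).resolve_left hda).resolve_left h1 with e' | e'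
    · exact absurd (e'.trans e.symm) h2
    · rw [e, e']
    · rw [e, e', (A.comm hq hp).eq]
    · exact absurd (e'.trans e.symm) h2
  have hP : IsPair (A.T i) (a * d) := ⟨a, ha, d, hd, hda.symm, rfl⟩
  have hcz : Commute (a * c) z := A.pair_comm_z ⟨a, ha, c, hc, hca.symm, rfl⟩
  have huv' : Cls z (a * b * (a * c)) (u * v) := by
    rcases hbu with e | e <;> rcases hcv with e' | e' <;> rw [e, e']
    · exact Or.inl rfl
    · exact Or.inr (mul_assoc _ _ _).symm
    · exact Or.inr (by rw [mul_assoc (a * b) z, ← hcz.eq, ← mul_assoc])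
    · exact Or.inl (by rw [mul_assoc (a * b) z, ← mul_assoc z, ← hcz.eq, mul_assoc (a * c) z z, A.z_mul_z hz, mul_one])
  refine A.cls_trans hz (A.cls_symm hz huv') (Or.inr ?_)
  have hz' : z = a * b * (c * d) := by rw [hcd]; exact hprod.symm
  have e1 : a * b * (a * c) = b * c := by
    rw [(A.comm ha hb).eq, show b * a * (a * c) = b * (a * a) * c by group, mul_self K.hD.1 (A.mem_D ha), mul_one]
  rw [e1]
  conv_rhs => rw [hz']
  have hs := A.pair_sq ⟨b, hb, c, hc, hbc, rfl⟩
  calc a * d = a * (b * c * (b * c)) * d := by rw [hs, mul_one]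
    _ = (a * (b * c)) * b * (c * d) := by group
    _ = ((b * c) * a) * b * (c * d) := by rw [((A.comm ha hb).mul_right (A.comm ha hc)).eq]
    _ = b * c * (a * b * (c * d)) := by group

theorem fix_perp (hz : IsProd D 4 z) {k : G} (hk : k ∈ A.Kf) {i j : Fin 126} (hne : i ≠ j)
    (hA : adjB i j = false) {u v : G} (hu : IsPair (A.T i) u) (hv : IsPair (A.T j) v) (huv : Commute u v)
    (hf : Cls z u (k * u * k⁻¹)) : Cls z v (k * v * k⁻¹) := by
  have hv' := A.Kf_conj_pair hk hv
  have h1 : Commute (k * v * k⁻¹) (k * u * k⁻¹) := (FischerMTypes32.cconj k v u).mpr huv.symm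
  have h2 : Commute (k * v * k⁻¹) u :=
    A.cls_comm (A.Kf_conj_pair hk hu) (A.pair_comm_z hv') (A.cls_symm hz hf) h1
  obtain ⟨x, hx⟩ := A.exists_mem j
  exact A.cls_trans hz (A.cls_symm hz ((A.comm_iff hz hne hA hu hv hx).mp huv))
    ((A.comm_iff hz hne hA hu hv' hx).mp h2.symm)

theorem fix_all_transfer (hz : IsProd D 4 z) {k : G} (hk : k ∈ A.Kf) {i j : Fin 126} (hne : i ≠ j)
    (hA : adjB i j = false) (h : A.AllFix k i) : A.AllFix k j := by
  intro v hv
  obtain ⟨y, hy⟩ := A.exists_mem i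
  have hA' : adjB j i = false := by rw [adj_symm]; exact hA
  have hu := A.pair_of_move hne.symm hA' hv hy
  exact A.fix_perp hz hk hne hA hu hv (A.comm_move hv hy).symm (h _ hu)

theorem allFix_all (hz : IsProd D 4 z) {k : G} (hk : k ∈ A.Kf) {i : Fin 126} (h : A.AllFix k i) :
    k ∈ A.K1 hz := by
  have h0 : A.AllFix k 0 := by
    obtain ⟨w, w1, w2, w3, w4⟩ := exists_far_zero i
    exact A.fix_all_transfer hz hk w1.symm (by rw [adj_symm]; exact w2) (A.fix_all_transfer hz hk w3 w4 h)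
  refine ⟨hk, fun j => ?_⟩
  obtain ⟨w, w1, w2, w3, w4⟩ := exists_far_zero j
  exact A.fix_all_transfer hz hk w3.symm (by rw [adj_symm]; exact w4) (A.fix_all_transfer hz hk w1 w2 h0)

theorem allFix_of_two (hz : IsProd D 4 z) {k : G} (hk : k ∈ A.Kf) {i : Fin 126} {u v : G}
    (hu : IsPair (A.T i) u) (hv : IsPair (A.T i) v) (huv : ¬ Cls z u v) (fu : Cls z u (k * u * k⁻¹))
    (fv : Cls z v (k * v * k⁻¹)) : A.AllFix k i := by
  intro w hw
  have base : ∀ {t}, Cls z t (k * t * k⁻¹) → Cls z t w → Cls z w (k * w * k⁻¹) := fun {t} ft htw =>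
    A.cls_trans hz (A.cls_symm hz htw) (A.cls_trans hz ft (conj_cls (A.Kf_comm_z hk) htw))
  rcases A.pair_tri hz hu hv huv hw with h | h | h
  · exact base fu h
  · exact base fv h
  · refine base ?_ h
    rw [show k * (u * v) * k⁻¹ = k * u * k⁻¹ * (k * v * k⁻¹) by group]
    have hvz := A.pair_comm_z hv
    rcases fu with e | e <;> rcases fv with e' | e' <;> rw [e, e']
    · exact Or.inl rfl
    · exact Or.inr (mul_assoc _ _ _).symm
    · exact Or.inr (by rw [mul_assoc u z, ← hvz.eq, ← mul_assoc])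
    · exact Or.inl (by rw [mul_assoc u z, ← mul_assoc z, ← hvz.eq, mul_assoc v z z, A.z_mul_z hz, mul_one])

theorem comm_iff_cls (hz : IsProd D 4 z) {i : Fin 126} {u : G} (hu : IsPair (A.T i) u) {p q : G}
    (h : Cls z p q) : Commute u p ↔ Commute u q := by
  have huz := A.pair_comm_z hu
  rcases h with rfl | rfl
  · exact Iff.rfl
  · refine ⟨fun h => h.mul_right huz, fun h => ?_⟩
    have := h.mul_right huz
    rwa [mul_assoc, A.z_mul_z hz, mul_one] at this

/-- one fixed class is enough -/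
theorem allFix_of_one (hz : IsProd D 4 z) {k : G} (hk : k ∈ A.Kf) {u₀ : G} (hu₀ : IsPair (A.T 0) u₀)
    (h₀ : Cls z u₀ (k * u₀ * k⁻¹)) : k ∈ A.K1 hz := by
  by_contra hcon
  have hex : ∀ j, ∃ u, IsPair (A.T j) u ∧ Cls z u (k * u * k⁻¹) := by
    intro j
    obtain ⟨w, w1, w2, w3, w4⟩ := exists_far_zero j
    obtain ⟨x, hx⟩ := A.exists_mem w
    obtain ⟨y, hy⟩ := A.exists_mem j
    have h1 := A.pair_of_move w1 w2 hu₀ hx
    have f1 := A.fix_perp hz hk w1 w2 hu₀ h1 (A.comm_move hu₀ hx) h₀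
    have w4' : adjB w j = false := by rw [adj_symm]; exact w4
    exact ⟨_, A.pair_of_move w3.symm w4' h1 hy,
      A.fix_perp hz hk w3.symm w4' h1 (A.pair_of_move w3.symm w4' h1 hy) (A.comm_move h1 hy) f1⟩
  choose f hf hff using hex
  have huniq : ∀ {j v}, IsPair (A.T j) v → Cls z v (k * v * k⁻¹) → Cls z (f j) v := fun {j v} hv hvf => by
    by_contra h
    exact hcon (A.allFix_all hz hk (A.allFix_of_two hz hk (hf j) hv h (hff j) hvf))
  have hrel : ∀ a b, a ≠ b → adjB a b = false → Cls z (f a * f b) (f (R b a)) := by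
    intro a b hne hA
    obtain ⟨x, hx⟩ := A.exists_mem b
    have hu := hf a
    set u := f a
    have hxx := mul_self K.hD.1 (A.mem_D hx)
    have hw : IsPair (A.T (R b a)) (x * u * x) := by
      obtain ⟨p, hp, q, hq, hpq, e⟩ := hu
      refine ⟨_, A.conj_mem hp hx, _, A.conj_mem hq hx, fun h => hpq (mul_left_cancel (mul_right_cancel h)), ?_⟩
      rw [e, show x * p * x * (x * q * x) = x * p * (x * x) * q * x by group, hxx]
      group
    have heq : x * (u * x * u) = u * (x * u * x) := by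
      rw [(A.comm hx (A.pair_move_mem hu hx)).eq]; group
    have hq := A.pair_of_move hne hA hu hx
    have fq := A.fix_perp hz hk hne hA hu hq (A.comm_move hu hx) (hff a)
    rw [heq] at hq fq
    have hqz := A.pair_comm_z hq
    have fw : Cls z (x * u * x) (k * (x * u * x) * k⁻¹) := by
      have hsplit : x * u * x = u * (u * (x * u * x)) := by rw [← mul_assoc, A.pair_sq hu, one_mul]
      have hk' : k * (x * u * x) * k⁻¹ = k * u * k⁻¹ * (k * (u * (x * u * x)) * k⁻¹) := by
        conv_lhs => rw [hsplit]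
        group
      rw [hk']
      have hff' := hff a
      generalize x * u * x = w at hsplit fq hqz ⊢
      rcases hff' with e | e <;> rcases fq with e' | e' <;> rw [e, e']
      · exact Or.inl hsplit.symm
      · exact Or.inr (by rw [← mul_assoc, ← hsplit])
      · exact Or.inr (by rw [mul_assoc u z, ← hqz.eq, ← mul_assoc, ← hsplit])
      · refine Or.inl ?_
        rw [mul_assoc u z, ← mul_assoc z, ← hqz.eq, mul_assoc (u * w) z z, A.z_mul_z hz, mul_one]
        exact hsplit.symm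
    have hb := huniq hq fq
    have hR := huniq hw fw
    refine A.cls_trans hz ?_ (A.cls_symm hz hR)
    have hsplit : x * u * x = u * (u * (x * u * x)) := by rw [← mul_assoc, A.pair_sq hu, one_mul]
    rw [hsplit]
    rcases hb with e | e
    · rw [e]; exact Or.inl rfl
    · rw [e]; exact Or.inr (mul_assoc _ _ _).symm
  obtain ⟨j, hne, hA⟩ := exists_far 0
  obtain ⟨v, hv, hnc⟩ := A.exists_not_comm hz hne hA (hf 0)
  refine hnc ?_
  have hall : ∀ i, decide (¬ Commute v (f i)) = false := additive_zero _ fun a b hne' hA' => by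
    have hiff := A.comm_iff_cls hz hv (hrel a b hne' hA')
    have conv : ∀ i, v * f i * v = if Commute v (f i) then f i else f i * z := by
      intro i
      split_ifs with h
      · rw [h.eq, mul_assoc, A.pair_sq hv, mul_one]
      · refine (A.conj_pair hz hv (hf i)).resolve_left fun e => h ?_
        show v * f i = f i * v
        calc v * f i = v * f i * (v * v) := by rw [A.pair_sq hv, mul_one]
          _ = (v * f i * v) * v := by group
          _ = _ := by rw [e]
    have hprod : v * (f a * f b) * v = (v * f a * v) * (v * f b * v) := by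
      calc v * (f a * f b) * v = v * f a * 1 * f b * v := by group
        _ = v * f a * (v * v) * f b * v := by rw [A.pair_sq hv]
        _ = _ := by group
    have hcomm : Commute v (f a * f b) ↔ v * (f a * f b) * v = f a * f b :=
      ⟨fun h => by rw [h.eq, mul_assoc, A.pair_sq hv, mul_one], fun h => by
        show v * (f a * f b) = f a * f b * v
        calc v * (f a * f b) = v * (f a * f b) * (v * v) := by rw [A.pair_sq hv, mul_one]
          _ = (v * (f a * f b) * v) * v := by group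
          _ = _ := by rw [h]⟩
    rw [hcomm, hprod, conv, conv] at hiff
    have hbz := A.pair_comm_z (hf b)
    have hz1 := A.z_ne_one hz
    by_cases h1 : Commute v (f a) <;> by_cases h2 : Commute v (f b)
    · rw [if_pos h1, if_pos h2] at hiff
      simp [h1, h2, hiff.mp rfl]
    · rw [if_pos h1, if_neg h2] at hiff
      have hR : ¬ Commute v (f (R b a)) := fun h => by
        have := hiff.mpr h
        rw [← mul_assoc] at this
        exact hz1 (mul_eq_left.mp this)
      simp [h1, h2, hR]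
    · rw [if_neg h1, if_pos h2] at hiff
      have hR : ¬ Commute v (f (R b a)) := fun h => by
        have := hiff.mpr h
        rw [mul_assoc (f a) z, ← hbz.eq, ← mul_assoc] at this
        exact hz1 (mul_eq_left.mp this)
      simp [h1, h2, hR]
    · rw [if_neg h1, if_neg h2] at hiff
      have h : f a * z * (f b * z) = f a * f b := by
        rw [mul_assoc (f a) z, ← mul_assoc z, ← hbz.eq, mul_assoc (f b) z z, A.z_mul_z hz, mul_one]
      simp [h1, h2, hiff.mp h]
  exact (by simpa using hall 0 : Commute v (f 0)).symm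

theorem card_Kf_le (hz : IsProd D 4 z) : Nat.card A.Kf ≤ 3 * 2 ^ 13 := by
  obtain ⟨a, b, c, ha, hb, hc, hab, hac, hbc⟩ := A.exists_three 0
  have hu : IsPair (A.T 0) (a * b) := ⟨a, ha, b, hb, hab, rfl⟩
  have hv : IsPair (A.T 0) (a * c) := ⟨a, ha, c, hc, hac, rfl⟩
  have huv : ¬ Cls z (a * b) (a * c) := by
    rintro (e | e)
    · exact hbc (mul_left_cancel e).symm
    · obtain ⟨p, q, hp, hq, hpq, hpa, -, hqa, -, hprod, -⟩ := (A.isTet 0).two ha hb hab
      have : a * c = p * q := by rw [e, ← hprod, ← mul_assoc, A.pair_sq hu, one_mul]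
      rcases (A.pair_eq hp hq hpq ha hc hac this.symm).1 with h | h
      · exact hpa h.symm
      · exact hqa h.symm
  set u := a * b
  set v := a * c
  let cl : A.Kf → Fin 3 := fun k =>
    if Cls z u ((k : G) * u * (k : G)⁻¹) then 0 else if Cls z v ((k : G) * u * (k : G)⁻¹) then 1 else 2
  have hsame : ∀ k k' : A.Kf, cl k = cl k' → (k : G)⁻¹ * k' ∈ A.K1 hz := by
    intro k k' he
    have hkk : (k : G)⁻¹ * k' ∈ A.Kf := mul_mem (inv_mem k.2) k'.2
    refine A.allFix_of_one hz hkk hu ?_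
    have hc : Cls z ((k : G) * u * (k : G)⁻¹) ((k' : G) * u * (k' : G)⁻¹) := by
      have t := A.pair_tri hz hu hv huv (A.Kf_conj_pair k.2 hu)
      have t' := A.pair_tri hz hu hv huv (A.Kf_conj_pair k'.2 hu)
      simp only [cl] at he
      by_cases p1 : Cls z u ((k : G) * u * (k : G)⁻¹) <;> by_cases p1' : Cls z u ((k' : G) * u * (k' : G)⁻¹)
      · exact A.cls_trans hz (A.cls_symm hz p1) p1'
      · by_cases q : Cls z v ((k' : G) * u * (k' : G)⁻¹) <;> simp [p1, p1', q] at he
      · by_cases q : Cls z v ((k : G) * u * (k : G)⁻¹) <;> simp [p1, p1', q] at he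
      · by_cases q : Cls z v ((k : G) * u * (k : G)⁻¹) <;> by_cases q' : Cls z v ((k' : G) * u * (k' : G)⁻¹) <;>
          simp [p1, p1', q, q'] at he
        · exact A.cls_trans hz (A.cls_symm hz q) q'
        · exact A.cls_trans hz (A.cls_symm hz ((t.resolve_left p1).resolve_left q))
            ((t'.resolve_left p1').resolve_left q')
    have := conj_cls (A.Kf_comm_z (inv_mem k.2)) hc
    simp only [inv_inv] at this
    convert this using 1 <;> group
  let g : A.Kf → Fin 3 × A.K1 hz := fun k =>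
    (cl k, ⟨_, hsame (Function.invFun cl (cl k)) k (Function.invFun_eq ⟨k, rfl⟩)⟩)
  have hg : Function.Injective g := by
    intro k k' he
    obtain ⟨h1, h2⟩ := Prod.mk.inj he
    have h2' := congrArg Subtype.val h2
    simp only [← h1] at h2'
    exact Subtype.ext (mul_left_cancel h2')
  refine (Nat.card_le_card_of_injective g hg).trans ?_
  rw [Nat.card_prod, Nat.card_eq_fintype_card (α := Fin 3), Fintype.card_fin]
  exact Nat.mul_le_mul_left 3 (A.card_K1_le hz)

end Lab

end Cfsg.Agent.Lib.FischerQuad75
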