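import Mathlib
import Cfsg.Agent.Lib.FischerQuad75.Kernel
import Cfsg.Agent.Lib.FischerQuad75.Action
import Cfsg.Agent.Lib.FischerMTypes.InvolutionsM24

/-!
The order of the centraliser of a product of four commuting transpositions: the action on the points
is the whole automorphism group and the kernel has order three times 2^13.

Owner: helper75.
-/

set_option autoImplicit false
set_option linter.style.haveILetI false
set_option linter.unusedSectionVars false

namespace Cfsg.Agent.Lib.FischerQuad75

open Cfsg.Agent.Lib.FischerMTypes Cfsg.Agent.Lib.FischerMTypes.Basic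
open Cfsg.Agent.Lib.FischerMTypes.Step (IsProd Tuple tuple_tail prod_map_conj)
open Cfsg.Agent.Lib.FischerMTypes.Bases (com)
open Cfsg.Agent.Lib.FischerMTypes32 (Data24)
open scoped Classical

universe u

variable {G : Type u} [Group G] [Fintype G] {D : Set G}
variable {Q : Type u} [Group Q] [Finite Q] {E : Set Q} {Q₂ : Type u} [Group Q₂] [Finite Q₂]
variable {E₂ : Set Q₂} {F : Type} [Field F] [Fintype F] {K : Data24 D E E₂ F} {z : G}

/-- the tuples of length `n` -/
noncomputable def tups (D : Set G) : ℕ → Finset (List G)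
  | 0 => {[]}
  | n + 1 => (tups D n).biUnion fun l => (com D l).toFinset.image fun u => u :: l

theorem mem_tups : ∀ {n : ℕ} {l : List G}, l ∈ tups D n ↔ Tuple D l ∧ l.length = n
  | 0, l => by
    simp only [tups, Finset.mem_singleton, List.length_eq_zero_iff]
    exact ⟨fun h => ⟨by subst h; simp [Tuple], h⟩, fun h => h.2⟩
  | n + 1, l => by
    simp only [tups, Finset.mem_biUnion, Finset.mem_image, Set.mem_toFinset]
    constructor
    · rintro ⟨t, ht, u, hu, rfl⟩
      rw [mem_tups] at ht
      exact ⟨FischerMTypes32.Data24.tuple_com ht.1 hu, by simp [ht.2]⟩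
    · rintro ⟨hl, hn⟩
      obtain ⟨u, t, rfl⟩ := List.exists_cons_of_length_eq_add_one hn
      obtain ⟨ht, hu, hp⟩ := tuple_tail hl
      exact ⟨t, mem_tups.mpr ⟨ht, by simpa using hn⟩, u,
        ⟨hu, fun y hy => ⟨(hp y hy).2.1.symm, (hp y hy).2.2.symm⟩⟩, rfl⟩

theorem card_tups_succ_le {n v : ℕ} (h : ∀ l, Tuple D l → l.length = n → (com D l).ncard ≤ v) :
    (tups D (n + 1)).card ≤ (tups D n).card * v := by
  refine Finset.card_biUnion_le_card_mul _ _ _ fun l hl => Finset.card_image_le.trans ?_
  rw [← Set.ncard_eq_toFinset_card']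
  exact h l (mem_tups.mp hl).1 (mem_tups.mp hl).2

include K in
theorem card_tups_four : (tups D 4).card ≤ 306936 * 31671 * 3510 * 693 := by
  have h : ∀ n v, n ≤ 5 → (if n = 0 then 306936 else if n = 1 then 31671
      else if n = 2 then 3510 else if n = 3 then 693 else if n = 4 then 180 else 51) = v →
      ∀ l, Tuple D l → l.length = n → (com D l).ncard ≤ v := fun n v hn hv l hl e => by
    rw [K.ncard_com hl (e ▸ hn), e, hv]
  refine (card_tups_succ_le (h 3 693 (by norm_num) rfl)).trans (Nat.mul_le_mul_right _ ?_)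
  refine (card_tups_succ_le (h 2 3510 (by norm_num) rfl)).trans (Nat.mul_le_mul_right _ ?_)
  refine (card_tups_succ_le (h 1 31671 (by norm_num) rfl)).trans (Nat.mul_le_mul_right _ ?_)
  refine (card_tups_succ_le (h 0 306936 (by norm_num) rfl)).trans ?_
  simp [tups]

/-- the elements fixing a list -/
noncomputable def fixer (l : List G) : Subgroup G := Subgroup.centralizer {x | x ∈ l}

theorem map_conj_eq {l : List G} {g h : G}
    (e : l.map (fun y => g * y * g⁻¹) = l.map fun y => h * y * h⁻¹) : g⁻¹ * h ∈ fixer l := by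
  refine Subgroup.mem_centralizer_iff.mpr fun x hx => ?_
  have := List.map_inj_left.mp e x hx
  calc x * (g⁻¹ * h) = g⁻¹ * (g * x * g⁻¹) * h := by group
    _ = g⁻¹ * (h * x * h⁻¹) * h := by rw [this]
    _ = g⁻¹ * h * x := by group

theorem card_G_le {l : List G} (hD : Cfsg.IsThreeTranspositionGroup D) (hl : Tuple D l) (h4 : l.length = 4) :
    Nat.card G ≤ Nat.card (fixer l) * (tups D 4).card := by
  rw [Nat.card_eq_fintype_card (α := G), ← Finset.card_univ]
  refine (Finset.card_le_mul_card_image (f := fun g : G => l.map fun y => g * y * g⁻¹) _ (Nat.card (fixer l))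
    fun t ht => ?_).trans (Nat.mul_le_mul_left _ (Finset.card_le_card fun t ht => ?_))
  · obtain ⟨g, -, rfl⟩ := Finset.mem_image.mp ht
    rw [← Nat.card_eq_finsetCard]
    refine Nat.card_le_card_of_injective (fun h => (⟨g⁻¹ * h.1, map_conj_eq (Finset.mem_filter.mp h.2).2.symm⟩ : fixer l))
      fun a b e => Subtype.ext ?_
    simpa using congrArg Subtype.val e
  · obtain ⟨g, -, rfl⟩ := Finset.mem_image.mp ht
    refine mem_tups.mpr ⟨⟨hl.1.map fun a b e => by simpa using e, fun a ha => ?_, fun a ha b hb => ?_⟩, by simpa using h4⟩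
    · obtain ⟨c, hc, rfl⟩ := List.mem_map.mp ha
      exact hD.2.1 g c (hl.2.1 c hc)
    · obtain ⟨c, hc, rfl⟩ := List.mem_map.mp ha
      obtain ⟨d, hd, rfl⟩ := List.mem_map.mp hb
      exact (FischerMTypes32.cconj g c d).mpr (hl.2.2 c hc d hd)

theorem fixer_le {l : List G} (hp : l.prod = z) : fixer l ≤ Subgroup.centralizer {z} := by
  intro h hh
  refine Subgroup.mem_centralizer_singleton_iff.mpr ?_
  have : Commute h l.prod := Commute.list_prod_right _ h fun x hx => (Subgroup.mem_centralizer_iff.mp hh x hx).symm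
  exact hp ▸ this.eq

namespace Lab

variable (A : Lab K z)

include A in
theorem card_C_ge {l : List G} (hl : Tuple D l) (h4 : l.length = 4) (hp : l.prod = z) :
    3024 * Nat.card (fixer l) ≤ Nat.card (Subgroup.centralizer ({z} : Set G)) := by
  choose L hL h4L hpL hTL using A.isTet
  obtain ⟨W, hW⟩ : ∃ W, W = Finset.univ.biUnion fun i => (L i).permutations.toFinset := ⟨_, rfl⟩
  have hcard : W.card = 3024 := by
    rw [hW, Finset.card_biUnion]
    · have : ∀ i, (L i).permutations.toFinset.card = 24 := fun i => by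
        rw [List.toFinset_card_of_nodup (List.nodup_permutations _ (hL i).1), List.length_permutations, h4L i]; rfl
      simp [this]
    · intro i _ j _ hij
      refine Finset.disjoint_left.mpr fun t ht ht' => hij ?_
      rw [List.mem_toFinset, List.mem_permutations] at ht ht'
      obtain ⟨x, hx⟩ := A.exists_mem i
      refine A.eq_of_mem hx ?_
      rw [← hTL j, List.mem_toFinset, ← ht'.mem_iff, ht.mem_iff, ← List.mem_toFinset, hTL i]
      exact hx
  have hgood : ∀ t : W, ∃ g : G, l.map (fun y => g * y * g⁻¹) = t.1 ∧ Commute g z := by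
    rintro ⟨t, ht⟩
    rw [hW, Finset.mem_biUnion] at ht
    obtain ⟨i, -, hi⟩ := ht
    rw [List.mem_toFinset, List.mem_permutations] at hi
    have ht' : Tuple D t := ⟨hi.nodup_iff.mpr (hL i).1, fun a ha => (hL i).2.1 a (hi.mem_iff.mp ha),
      fun a ha b hb => (hL i).2.2 a (hi.mem_iff.mp ha) b (hi.mem_iff.mp hb)⟩
    obtain ⟨g, hg⟩ := InvolutionsM24.trans_M24 K.S22 K.S23 K.S (m := 3) le_rfl l t hl ht' h4
      (by rw [hi.length_eq, h4L i])
    refine ⟨g, hg, ?_⟩
    have hprod : t.prod = z := by
      rw [hi.prod_eq' (List.pairwise_iff_getElem.mpr fun a b ha hb _ => ht'.2.2 _ (List.getElem_mem ha) _ (List.getElem_mem hb)), hpL i]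
    have := prod_map_conj g l
    rw [hg, hprod, hp] at this
    show g * z = z * g
    calc g * z = g * z * g⁻¹ * g := by group
      _ = z * g := by rw [← this]
  choose g hg hgz using hgood
  let f : W × fixer l → Subgroup.centralizer ({z} : Set G) := fun p =>
    ⟨g p.1 * p.2.1, mul_mem (Subgroup.mem_centralizer_singleton_iff.mpr (hgz p.1).eq) (fixer_le hp p.2.2)⟩
  have hfix : ∀ (h : fixer l) (c : G), l.map (fun y => (c * h.1) * y * (c * h.1)⁻¹) = l.map fun y => c * y * c⁻¹ :=
    fun h c => List.map_congr_left fun y hy => by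
      calc c * h.1 * y * (c * h.1)⁻¹ = c * (h.1 * y) * h.1⁻¹ * c⁻¹ := by group
        _ = c * (y * h.1) * h.1⁻¹ * c⁻¹ := by rw [Subgroup.mem_centralizer_iff.mp h.2 y hy]
        _ = _ := by group
  have hf : Function.Injective f := by
    rintro ⟨t, a⟩ ⟨t', b⟩ e
    have e' : g t * a.1 = g t' * b.1 := congrArg Subtype.val e
    have : t = t' := Subtype.ext (by rw [← hg t, ← hfix a (g t), e', hfix b (g t'), hg t'])
    subst this
    exact Prod.ext rfl (Subtype.ext (mul_left_cancel e'))
  have := Nat.card_le_card_of_injective f hf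
  rwa [Nat.card_prod, Nat.card_eq_finsetCard, hcard] at this

include K in
theorem card_G : Nat.card G = 306936 * (2 * (31671 * (2 * (2 ^ 17 * 3 ^ 9 * 5 ^ 2 * 7 * 11 * 13)))) := by
  rw [K.S.card_group K.pinned, K.class_card,
    K.S23.card_group (M23Data.pinned K.S23.hD K.S23.hprim K.hM K.S22 K.S23),
    (M23Data.rankData K.S23.hD K.S23.hprim K.hM K.S22 K.S23).class_card, OrderWidth.card_group K.S22]

include A in
/-- the centraliser is big -/
theorem card_C (hz : IsProd D 4 z) :
    3 * 2 ^ 13 * 13063680 ≤ Nat.card (Subgroup.centralizer ({z} : Set G)) := by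
  obtain ⟨l, h1, h2, h3, h4, h5⟩ := hz
  have hb : Nat.card (fixer l) * (306936 * 31671 * 3510 * 693) ≥ Nat.card G :=
    (card_G_le K.hD ⟨h1, h3, h4⟩ h2).trans (Nat.mul_le_mul_left _ (card_tups_four (K := K)))
  rw [card_G (K := K)] at hb
  refine le_trans ?_ (A.card_C_ge ⟨h1, h3, h4⟩ h2 h5)
  nlinarith

/-- the image is everything and the kernel has order three times 2^13 -/
theorem range_and_kernel (hz : IsProd D 4 z) : A.phi.range = autM ∧ Nat.card A.Kf = 3 * 2 ^ 13 := by
  have hKf : Nat.card A.Kf = Nat.card A.phi.ker :=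
    (Nat.card_congr (A.phi.ker.equivMapOfInjective _ (Subgroup.subtype_injective _)).toEquiv).symm
  have hmul : Nat.card (Subgroup.centralizer ({z} : Set G)) = Nat.card A.phi.range * Nat.card A.Kf := by
    rw [hKf, Subgroup.card_eq_card_quotient_mul_card_subgroup A.phi.ker,
      Nat.card_congr (QuotientGroup.quotientKerEquivRange A.phi).toEquiv]
  have hle : A.phi.range ≤ autM := by
    rintro _ ⟨g, rfl⟩
    exact A.phi_mem_autM g
  have h1 := A.card_C hz
  have h2 := A.card_Kf_le hz
  have h3 : Nat.card A.phi.range ≤ 13063680 := (Subgroup.card_le_of_le hle).trans card_autM_le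
  have hk : Nat.card A.Kf = 3 * 2 ^ 13 := by
    have := Nat.mul_le_mul_right (Nat.card A.Kf) h3
    omega
  refine ⟨Subgroup.eq_of_le_of_card_ge hle (card_autM_le.trans ?_), hk⟩
  rw [hmul, hk] at h1
  omega

theorem card_range (hz : IsProd D 4 z) : Nat.card A.phi.range = 13063680 := by
  have h1 := A.card_C hz
  have hKf : Nat.card A.Kf = Nat.card A.phi.ker :=
    (Nat.card_congr (A.phi.ker.equivMapOfInjective _ (Subgroup.subtype_injective _)).toEquiv).symm
  rw [Subgroup.card_eq_card_quotient_mul_card_subgroup A.phi.ker,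
    Nat.card_congr (QuotientGroup.quotientKerEquivRange A.phi).toEquiv, ← hKf, (A.range_and_kernel hz).2] at h1
  have : Nat.card A.phi.range ≤ 13063680 :=
    (Subgroup.card_le_of_le (A.range_and_kernel hz).1.le).trans card_autM_le
  omega

end Lab

end Cfsg.Agent.Lib.FischerQuad75
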