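import Mathlib
import Cfsg.Agent.Lib.FischerQuad75.Count
import Cfsg.Agent.Lib.FischerMTypes.ParityM24
import Cfsg.Agent.Lib.FischerMTypes.IndexTwoLayer
import Cfsg.Agent.Lib.FStarTools.Basic
import Cfsg.Agent.Lib.PGroups.Frattini
import Cfsg.Prelude.Def_MonsterType
import Cfsg.Agent.S0303

/-!
The centraliser in the derived group of a product of four commuting transpositions: its generalised
Fitting subgroup is extraspecial of order 2^13, with Z₃ and U₄(3) and Z₂ above it.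

Owner: helper75.
-/

set_option autoImplicit false
set_option linter.style.haveILetI false
set_option linter.unusedSectionVars false

namespace Cfsg.Agent.Lib.FischerQuad75

open Cfsg.Agent.Lib.FischerMTypes Cfsg.Agent.Lib.FischerMTypes.Basic
open Cfsg.Agent.Lib.FischerMTypes.Step (IsProd)
open Cfsg.Agent.Lib.FischerMTypes32 (Data24)
open scoped Classical commutatorElement

universe u

/-- a two-group with centre of order two containing all commutators and squares is extraspecial -/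
theorem extraspecial_of {P : Type*} [Group P] [Finite P] (hp : IsPGroup 2 P) {z₀ : P} (hz : z₀ ≠ 1)
    (hz2 : z₀ * z₀ = 1) (hcen : ∀ h, (∀ g, g * h = h * g) ↔ h = 1 ∨ h = z₀)
    (hcomm : ∀ g h : P, ⁅g, h⁆ = 1 ∨ ⁅g, h⁆ = z₀) (hne : ∃ g h : P, ⁅g, h⁆ ≠ 1)
    (hsq : ∀ g : P, g * g = 1 ∨ g * g = z₀) : Cfsg.IsExtraspecial 2 P := by
  haveI : Fact (Nat.Prime 2) := ⟨Nat.prime_two⟩
  have hmem : ∀ h, h ∈ Subgroup.center P ↔ h = 1 ∨ h = z₀ := fun h =>
    (Subgroup.mem_center_iff).trans (hcen h)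
  have hcom : commutator P = Subgroup.center P := by
    refine le_antisymm ((commutator_def P).le.trans (Subgroup.commutator_le.mpr fun g _ h _ => (hmem _).mpr (hcomm g h))) fun h hh => ?_
    rcases (hmem h).mp hh with rfl | rfl
    · exact one_mem _
    · obtain ⟨g, k, hgk⟩ := hne
      rw [← (hcomm g k).resolve_left hgk]
      exact Subgroup.commutator_mem_commutator (Subgroup.mem_top g) (Subgroup.mem_top k)
  refine ⟨⟨hp, ?_, hcom⟩, ?_⟩
  · rw [PGroups.frattini_eq_sup hp, hcom, sup_eq_left, Subgroup.closure_le]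
    rintro _ ⟨g, rfl⟩
    refine (hmem _).mpr ?_
    show g ^ 2 = 1 ∨ g ^ 2 = z₀
    rw [sq]
    exact hsq g
  · have : Subgroup.center P = Subgroup.zpowers z₀ := by
      refine le_antisymm (fun h hh => ?_) (Subgroup.zpowers_le.mpr ((hmem _).mpr (Or.inr rfl)))
      rcases (hmem h).mp hh with rfl | rfl
      · exact one_mem _
      · exact Subgroup.mem_zpowers _
    rw [this, Nat.card_zpowers, orderOf_eq_prime (by rw [sq]; exact hz2) hz]

variable {G : Type u} [Group G] [Fintype G] {D : Set G}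
variable {Q : Type u} [Group Q] [Finite Q] {E : Set Q} {Q₂ : Type u} [Group Q₂] [Finite Q₂]
variable {E₂ : Set Q₂} {F : Type} [Field F] [Fintype F] {K : Data24 D E E₂ F} {z : G}

include K in
theorem index_commutator : (commutator G).index = 2 := by
  obtain ⟨a, ha, -⟩ := K.hprim.2.1
  exact IndexTwoLayer.index_two K.hD K.hprim ha
    (ParityM24.parity K.S22 K.S23 K.S K.hM K.pinned ha)

include K in
theorem pair_mem_L {x y : G} (hx : x ∈ D) (hy : y ∈ D) : x * y ∈ commutator G :=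
  IndexTwoLayer.mul_mem_commutator K.hD K.hprim hx hy

namespace Lab

variable (A : Lab K z)

/-- the centraliser in the derived group -/
abbrev CL (z : G) : Subgroup G := commutator G ⊓ Subgroup.centralizer ({z} : Set G)

/-- the action of the centraliser in the derived group -/
noncomputable def psi : ↥(CL z) →* Equiv.Perm (Fin 126) := A.phi.comp (Subgroup.inclusion inf_le_right)

theorem psi_apply (c : CL z) : A.psi c = A.phi ⟨c.1, c.2.2⟩ := rfl

theorem conj_CL (g : ↥(Subgroup.centralizer ({z} : Set G))) {c : G} (hc : c ∈ CL z) :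
    (g : G) * c * (g : G)⁻¹ ∈ CL z :=
  Subgroup.mem_inf.mpr ⟨(inferInstance : (commutator G).Normal).conj_mem c hc.1 g, mul_mem (mul_mem g.2 hc.2) (inv_mem g.2)⟩

theorem Q0_le_L : A.Q0 ≤ commutator G :=
  (Subgroup.closure_le _).mpr fun _ ⟨i, a, ha, b, hb, _, h⟩ => h ▸ pair_mem_L (K := K) (A.mem_D ha) (A.mem_D hb)

theorem Q0_le_Kf (hz : IsProd D 4 z) : A.Q0 ≤ A.Kf := fun _ h => (A.Q0_le_K1 hz h).1

theorem Q0_le_CL (hz : IsProd D 4 z) : A.Q0 ≤ CL z :=
  fun _ h => ⟨A.Q0_le_L h, A.Kf_le_C (A.Q0_le_Kf hz h)⟩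

theorem cube_mem (hz : IsProd D 4 z) {k : G} (hk : k ∈ A.Kf) : k ^ 3 ∈ A.Q0 := by
  haveI : (A.Q0.subgroupOf A.Kf).Normal :=
    ⟨fun n hn g => A.Q0_conj ⟨g.1, A.Kf_le_C g.2⟩ hn⟩
  have hidx : (A.Q0.subgroupOf A.Kf).index = 3 := by
    have h := Subgroup.card_mul_index (A.Q0.subgroupOf A.Kf)
    rw [Nat.card_congr (Subgroup.subgroupOfEquivOfLe (A.Q0_le_Kf hz)).toEquiv, A.card_Q0 hz,
      (A.range_and_kernel hz).2] at h
    omega
  have := Subgroup.pow_index_mem (A.Q0.subgroupOf A.Kf) ⟨k, hk⟩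
  rw [hidx] at this
  exact this

theorem Kf_le_CL (hz : IsProd D 4 z) : A.Kf ≤ CL z := by
  refine fun k hk => Subgroup.mem_inf.mpr ⟨?_, A.Kf_le_C hk⟩
  have h3 := A.Q0_le_L (A.cube_mem hz hk)
  have h2 : k * k ∈ commutator G := by
    rw [Subgroup.mul_mem_iff_of_index_two (index_commutator (K := K))]
  rw [show k = k ^ 3 * (k * k)⁻¹ by group]
  exact mul_mem h3 (inv_mem h2)

theorem psi_ker : A.psi.ker = A.Kf.subgroupOf (CL z) := by
  ext c
  rw [MonoidHom.mem_ker, Subgroup.mem_subgroupOf, A.psi_apply]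
  constructor
  · intro h
    exact ⟨⟨c.1, c.2.2⟩, MonoidHom.mem_ker.mpr h, rfl⟩
  · rintro ⟨g, hg, e⟩
    rw [show (⟨c.1, c.2.2⟩ : Subgroup.centralizer ({z} : Set G)) = g from Subtype.ext e.symm]
    exact hg

theorem card_psi_ker (hz : IsProd D 4 z) : Nat.card A.psi.ker = 3 * 2 ^ 13 := by
  rw [A.psi_ker, Nat.card_congr (Subgroup.subgroupOfEquivOfLe (A.Kf_le_CL hz)).toEquiv,
    (A.range_and_kernel hz).2]

include A in
theorem card_CL (hz : IsProd D 4 z) : Nat.card (CL z) = 3 * 2 ^ 13 * 6531840 := by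
  obtain ⟨x, hx⟩ := A.exists_mem 0
  have hi : ((commutator G).subgroupOf (Subgroup.centralizer ({z} : Set G))).index = 2 := by
    refine Subgroup.index_eq_two_iff.mpr ⟨⟨x, A.mem_C hx⟩, fun b => ?_⟩
    have hxL : x ∉ commutator G := ParityM24.parity K.S22 K.S23 K.S K.hM K.pinned (A.mem_D hx)
    simp only [Subgroup.mem_subgroupOf, Subgroup.coe_mul,
      Subgroup.mul_mem_iff_of_index_two (index_commutator (K := K))]
    by_cases hb : (b : G) ∈ commutator G <;> simp [Xor', hb, hxL]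
  have hc := Subgroup.card_mul_index ((commutator G).subgroupOf (Subgroup.centralizer ({z} : Set G)))
  rw [hi, Nat.card_congr (Subgroup.equivMapOfInjective ((commutator G).subgroupOf
      (Subgroup.centralizer ({z} : Set G))) _ (Subgroup.subtype_injective _)).toEquiv,
    Subgroup.subgroupOf_map_subtype] at hc
  have hC : Nat.card (Subgroup.centralizer ({z} : Set G)) = 13063680 * (3 * 2 ^ 13) := by
    rw [Subgroup.card_eq_card_quotient_mul_card_subgroup A.phi.ker,
      Nat.card_congr (QuotientGroup.quotientKerEquivRange A.phi).toEquiv, A.card_range hz,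
      Nat.card_congr (A.phi.ker.equivMapOfInjective _ (Subgroup.subtype_injective _)).toEquiv]
    exact congrArg _ (A.range_and_kernel hz).2
  rw [hC] at hc
  show Nat.card ↥(commutator G ⊓ Subgroup.centralizer ({z} : Set G)) = _
  omega

theorem card_psi_range (hz : IsProd D 4 z) : Nat.card A.psi.range = 6531840 := by
  have h := A.card_CL hz
  rw [Subgroup.card_eq_card_quotient_mul_card_subgroup A.psi.ker,
    Nat.card_congr (QuotientGroup.quotientKerEquivRange A.psi).toEquiv, A.card_psi_ker hz] at h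
  omega

/-- the kernel and the image of a conjugate -/
theorem psi_conj (g : ↥(Subgroup.centralizer ({z} : Set G))) (c : CL z) :
    A.psi ⟨_, conj_CL g c.2⟩ = A.phi g * A.psi c * (A.phi g)⁻¹ := by
  rw [A.psi_apply, A.psi_apply, ← map_inv, ← map_mul, ← map_mul]
  rfl

theorem autM_conj (hz : IsProd D 4 z) {σ : Equiv.Perm (Fin 126)} (hσ : σ ∈ autM) :
    ∃ g, A.phi g = σ := by
  rwa [← (A.range_and_kernel hz).1] at hσ

theorem card_PO_not_pow : ∀ k : ℕ, (3265920 : ℕ) ≠ 2 ^ k := fun k h => by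
  have h3 : 3 ∣ 2 ^ k := h ▸ by norm_num
  exact absurd (Nat.Prime.dvd_of_dvd_pow Nat.prime_three h3) (by norm_num)

theorem PO_le_psi (hz : IsProd D 4 z) : PO ≤ A.psi.range := by
  haveI := PO_simple
  have hn : (A.psi.range.subgroupOf PO).Normal := by
    refine ⟨fun n hn σ => ?_⟩
    obtain ⟨g, hg⟩ := A.autM_conj hz (PO_le_autM σ.2)
    obtain ⟨c, hc⟩ := hn
    exact ⟨⟨_, conj_CL g c.2⟩, by rw [A.psi_conj, hg, hc]; rfl⟩
  rcases hn.eq_bot_or_eq_top with h | h
  · exfalso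
    have hcomm : ∀ a b : PO, a * b = b * a := by
      intro a b
      obtain ⟨g, hg⟩ := A.autM_conj hz (PO_le_autM a.2)
      obtain ⟨k, hk⟩ := A.autM_conj hz (PO_le_autM b.2)
      have hc : ⁅g, k⁆.1 ∈ CL z :=
        ⟨Subgroup.commutator_mem_commutator (Subgroup.mem_top g.1) (Subgroup.mem_top k.1), ⁅g, k⁆.2⟩
      have hm : ⁅a, b⁆ ∈ A.psi.range.subgroupOf PO := ⟨⟨_, hc⟩, by
        rw [A.psi_apply]
        show A.phi ⁅g, k⁆ = _
        rw [map_commutatorElement, hg, hk]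
        rfl⟩
      rw [h, Subgroup.mem_bot] at hm
      exact commutatorElement_eq_one_iff_mul_comm.mp hm
    letI : CommGroup PO := { (inferInstance : Group PO) with mul_comm := hcomm }
    have hp := IsSimpleGroup.prime_card (α := PO)
    rw [card_PO] at hp
    exact absurd hp (by norm_num)
  · exact Subgroup.subgroupOf_eq_top.mp h

theorem PO_index (hz : IsProd D 4 z) : (PO.subgroupOf A.psi.range).index = 2 := by
  have h := Subgroup.card_mul_index (PO.subgroupOf A.psi.range)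
  rw [Nat.card_congr (Subgroup.subgroupOfEquivOfLe (A.PO_le_psi hz)).toEquiv, card_PO, A.card_psi_range hz] at h
  omega

/-- the part above the kernel -/
noncomputable def M : Subgroup (CL z) := PO.comap A.psi

theorem index_M (hz : IsProd D 4 z) : A.M.index = 2 := by
  rw [M, Subgroup.index_comap]
  exact A.PO_index hz

theorem ker_le_M : A.psi.ker ≤ A.M := fun c hc => by
  show A.psi c ∈ PO
  rw [MonoidHom.mem_ker.mp hc]
  exact one_mem _

theorem exists_quot_iso (hz : IsProd D 4 z) :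
    Nonempty (↥A.M ⧸ A.psi.ker.subgroupOf A.M ≃* ↥PO) := by
  let f : A.M →* PO := (A.psi.comp A.M.subtype).codRestrict PO fun c => c.2
  have hf : Function.Surjective f := fun σ => by
    obtain ⟨c, hc⟩ := A.PO_le_psi hz σ.2
    exact ⟨⟨c, show A.psi c ∈ PO from hc ▸ σ.2⟩, Subtype.ext hc⟩
  have hker : f.ker = A.psi.ker.subgroupOf A.M := by
    ext c
    simp only [MonoidHom.mem_ker, Subgroup.mem_subgroupOf]
    exact ⟨fun h => congrArg Subtype.val h, fun h => Subtype.ext h⟩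
  exact ⟨(QuotientGroup.quotientMulEquivOfEq hker.symm).trans (QuotientGroup.quotientKerEquivOfSurjective f hf)⟩

/-- the pair group inside -/
noncomputable def QC : Subgroup (CL z) := A.Q0.subgroupOf (CL z)

theorem QC_normal : A.QC.Normal :=
  ⟨fun _ hn g => A.Q0_conj ⟨g.1, g.2.2⟩ hn⟩

theorem card_QC (hz : IsProd D 4 z) : Nat.card A.QC = 2 ^ 13 := by
  rw [QC, Nat.card_congr (Subgroup.subgroupOfEquivOfLe (A.Q0_le_CL hz)).toEquiv, A.card_Q0 hz]

theorem QC_le_ker (hz : IsProd D 4 z) : A.QC ≤ A.psi.ker := by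
  rw [A.psi_ker]
  exact fun c hc => A.Q0_le_Kf hz hc

theorem sq_Q0 (hz : IsProd D 4 z) {g : G} (hg : g ∈ A.Q0) : g * g = 1 ∨ g * g = z := by
  induction hg using Subgroup.closure_induction with
  | mem u hu => exact Or.inl (A.pair_sq hu.choose_spec)
  | one => exact Or.inl (one_mul 1)
  | mul x y hx' hy' hx hy =>
    have hxz : Commute x z := A.Kf_comm_z (A.Q0_le_Kf hz hx')
    have hyz : Commute y z := A.Kf_comm_z (A.Q0_le_Kf hz hy')
    have hz2 := A.z_mul_z hz
    rw [show x * y * (x * y) = x * (y * x * y⁻¹) * (y * y) by group]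
    rcases A.Q0_cls hz hy' hx' with e | e <;> rw [e]
    · rcases hx with hx | hx <;> rcases hy with hy | hy <;> rw [hx, hy] <;> simp [hz2]
    · rw [← mul_assoc x x z]
      rcases hx with hx | hx <;> rcases hy with hy | hy <;> rw [hx, hy] <;> simp [hz2]
  | inv x _ hx =>
    rw [← mul_inv_rev]
    rcases hx with hx | hx <;> rw [hx]
    · exact Or.inl inv_one
    · exact Or.inr (inv_eq_of_mul_eq_one_right (A.z_mul_z hz))

theorem QC_extraspecial (hz : IsProd D 4 z) : Cfsg.IsExtraspecial 2 ↥A.QC := by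
  let z₀ : A.QC := ⟨⟨z, A.Q0_le_CL hz A.z_mem_Q0⟩, A.z_mem_Q0⟩
  have hv : ∀ {a b : A.QC}, (a.1.1 : G) = b.1.1 → a = b := fun h => Subtype.ext (Subtype.ext h)
  have hlift : ∀ {u : G} (hu : u ∈ A.Q0), ∃ g : A.QC, g.1.1 = u :=
    fun {u} hu => ⟨⟨⟨u, A.Q0_le_CL hz hu⟩, hu⟩, rfl⟩
  refine extraspecial_of (IsPGroup.of_card (A.card_QC hz)) (z₀ := z₀)
    (fun h => A.z_ne_one hz (congrArg (fun a : A.QC => a.1.1) h)) (hv (A.z_mul_z hz)) (fun h => ⟨fun hc => ?_, ?_⟩)
    (fun g h => ?_) ?_ (fun g => ?_)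
  · refine (A.Q0_center hz h.2 fun i u hu => ?_).imp (fun e => hv e) (fun e => hv e)
    obtain ⟨g, hg⟩ := hlift (A.pair_mem_Q0 hu)
    rw [← hg]
    exact (congrArg (fun a : A.QC => a.1.1) (hc g)).symm
  · rintro (rfl | rfl) g
    · simp
    · exact hv (A.Kf_comm_z (A.Q0_le_Kf hz g.2)).eq
  · have hcomm : (⁅g, h⁆ : A.QC).1.1 = g.1.1 * h.1.1 * (g.1.1)⁻¹ * (h.1.1)⁻¹ := rfl
    rcases A.Q0_cls hz g.2 h.2 with e | e <;> simp only [Subgroup.coe_subtype] at e
    · exact Or.inl (hv (by rw [hcomm, e, mul_inv_cancel]; rfl))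
    · refine Or.inr (hv ?_)
      rw [hcomm, e]
      show (h.1.1 : G) * z * (h.1.1)⁻¹ = z
      rw [show (h.1.1 : G) * z = z * h.1.1 from (A.Kf_comm_z (A.Q0_le_Kf hz h.2)).eq, mul_inv_cancel_right]
  · obtain ⟨j, hne, hA⟩ := exists_far 0
    obtain ⟨u, hu⟩ := A.exists_pair 0
    obtain ⟨v, hv', hn⟩ := A.exists_not_comm hz hne hA hu
    obtain ⟨g, hg⟩ := hlift (A.pair_mem_Q0 hu)
    obtain ⟨h, hh⟩ := hlift (A.pair_mem_Q0 hv')
    refine ⟨g, h, fun e => hn ?_⟩
    have := congrArg (fun a : A.QC => a.1.1) (commutatorElement_eq_one_iff_mul_comm.mp e)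
    simp only [Subgroup.coe_mul, hg, hh] at this
    first | exact this | exact this.symm
  · exact (A.sq_Q0 hz g.2).imp (fun e => hv e) (fun e => hv e)

/-- what commutes with all pairs lies in the pair group -/
theorem centralizer_pairs (hz : IsProd D 4 z) {k : G} (hk : Commute k z)
    (h : ∀ i u, IsPair (A.T i) u → Commute k u) : k ∈ A.Q0 := by
  set g : Subgroup.centralizer ({z} : Set G) := ⟨k, Subgroup.mem_centralizer_singleton_iff.mpr hk.eq⟩
  have hKf : k ∈ A.Kf := by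
    refine ⟨g, MonoidHom.mem_ker.mpr (Equiv.ext fun i => ?_), rfl⟩
    obtain ⟨u, hu⟩ := A.exists_pair i
    have hu' := A.conj_pair_at g hu
    rw [show (g : G) * u * (g : G)⁻¹ = u by rw [(h i u hu).eq, mul_inv_cancel_right]] at hu'
    obtain ⟨a, ha, b, hb, hne, e⟩ := hu
    obtain ⟨c, hc, d, hd, -, e'⟩ := hu'
    have hcd : c ≠ d := fun e'' => (A.pair_ne hz ⟨a, ha, b, hb, hne, rfl⟩).1
      (e.symm.trans (e'.trans (by rw [e'', mul_self K.hD.1 (A.mem_D hd)])))
    rcases (A.pair_eq ha hb hne hc hd hcd (e.symm.trans e')).1 with hca | hca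
    · exact A.eq_of_mem hc (hca ▸ ha)
    · exact A.eq_of_mem hc (hca ▸ hb)
  have hall : ∀ i, ∀ x ∈ A.T i, Commute k x := fun i => by
    obtain ⟨a, b, c, ha, hb, hc, hab, hac, hbc⟩ := A.exists_three i
    exact A.fix_members hKf ha hb hc hab hac hbc (h i _ ⟨a, ha, b, hb, hab, rfl⟩) (h i _ ⟨a, ha, c, hc, hac, rfl⟩)
  rcases A.fix_all hz hk hall with rfl | rfl
  · exact one_mem _
  · exact A.z_mem_Q0

theorem centralizer_QC (hz : IsProd D 4 z) : Subgroup.centralizer (A.QC : Set (CL z)) ≤ A.QC := fun c hc =>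
  A.centralizer_pairs hz (Subgroup.mem_centralizer_singleton_iff.mp c.2.2) fun _ u hu =>
    (congrArg Subtype.val (Subgroup.mem_centralizer_iff.mp hc
      ⟨u, A.Q0_le_CL hz (A.pair_mem_Q0 hu)⟩ (A.pair_mem_Q0 hu))).symm

/-- a permutation commuting with every reflection is trivial -/
theorem eq_one_of_comm {p : Equiv.Perm (Fin 126)} (hp : p ∈ A.phi.range)
    (h : ∀ j, p * Rp j = Rp j * p) : p = 1 := by
  refine Equiv.ext fun i => gen_induct (P := fun i => p i = i) (fun i hi => ?_) ?_ i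
  · by_contra hne
    obtain ⟨k, hk⟩ := (Rp_inj_gen i hi (p i)).resolve_left fun e => hne e.symm
    refine hk ?_
    have e : Rp (p i) = Rp i := by rw [← A.range_conj hp i, h i, mul_inv_cancel_right]
    rw [← Rp_apply, ← Rp_apply, e]
  · intro a b _ _ ha hb
    show p (R b a) = R b a
    have := congrArg (fun σ : Equiv.Perm (Fin 126) => σ a) (h b)
    simp only [Equiv.Perm.mul_apply, Rp_apply, ha] at this
    exact this

theorem pCore_le (hz : IsProd D 4 z) : Cfsg.pCore 2 (CL z) ≤ A.QC := by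
  haveI : Fact (Nat.Prime 2) := ⟨Nat.prime_two⟩
  set O := Cfsg.pCore 2 (CL z) with hO
  set P := O.map A.psi with hP
  have hP2 : IsPGroup 2 P := (Cores.pCore_isPGroup 2).map _
  have hinv : ∀ σ ∈ autM, ∀ p ∈ P, σ * p * σ⁻¹ ∈ P := by
    intro σ hσ p hp
    obtain ⟨g, rfl⟩ := A.autM_conj hz hσ
    obtain ⟨c, hc, rfl⟩ := hp
    let e : CL z ≃* CL z :=
      { toFun := fun c => ⟨_, conj_CL g c.2⟩
        invFun := fun c => ⟨_, conj_CL g⁻¹ c.2⟩
        left_inv := fun c => Subtype.ext (by simp [mul_assoc])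
        right_inv := fun c => Subtype.ext (by simp [mul_assoc])
        map_mul' := fun a b => Subtype.ext (by simp [mul_assoc]) }
    refine ⟨e c, ?_, A.psi_conj g c⟩
    rw [hO, ← Cores.map_pCore_equiv e]
    exact Subgroup.mem_map_of_mem _ hc
  haveI := PO_simple
  have hbot : P.subgroupOf PO = ⊥ := by
    have hn : (P.subgroupOf PO).Normal := ⟨fun n hn σ => hinv _ (PO_le_autM σ.2) _ hn⟩
    refine hn.eq_bot_or_eq_top.resolve_right fun h => ?_
    obtain ⟨k, hk⟩ := IsPGroup.iff_card.mp (hP2.to_le (Subgroup.subgroupOf_eq_top.mp h))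
    exact card_PO_not_pow k (card_PO ▸ hk)
  have hprod : ∀ p ∈ P, ∀ q ∈ P, p ≠ 1 → q ≠ 1 → p * q = 1 := by
    have hout : ∀ p ∈ P, p ≠ 1 → p ∉ PO := fun p hp hne hPO => by
      have : (⟨p, hPO⟩ : PO) ∈ P.subgroupOf PO := hp
      rw [hbot, Subgroup.mem_bot] at this
      exact hne (congrArg Subtype.val this)
    intro p hp q hq hp1 hq1
    by_contra hne
    refine hout _ (mul_mem hp hq) hne ?_
    have hr : P ≤ A.psi.range := by rintro _ ⟨c, -, rfl⟩; exact ⟨c, rfl⟩
    have h2 := Subgroup.mul_mem_iff_of_index_two (A.PO_index hz)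
      (a := ⟨p, hr hp⟩) (b := ⟨q, hr hq⟩)
    simp only [Subgroup.mem_subgroupOf, Subgroup.coe_mul] at h2
    exact h2.mpr (iff_of_false (hout p hp hp1) (hout q hq hq1))
  intro c hc
  have hker : A.psi c = 1 := by
    by_contra hne
    have hp : A.psi c ∈ P := Subgroup.mem_map_of_mem _ hc
    refine hne (A.eq_one_of_comm ⟨⟨c.1, c.2.2⟩, rfl⟩ fun j => ?_)
    obtain ⟨x, hx⟩ := A.exists_mem j
    have hσ : Rp j ∈ autM := A.phi_member hx (A.mem_C hx) ▸ A.phi_mem_autM _
    have hq := hinv _ hσ _ hp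
    have hq1 : Rp j * A.psi c * (Rp j)⁻¹ ≠ 1 := fun e => hne (conj_eq_one_iff.mp e)
    have e1 := hprod _ hp _ hp hne hne
    have e2 := hprod _ hp _ hq hne hq1
    have e3 : Rp j * A.psi c * (Rp j)⁻¹ = A.psi c := mul_left_cancel (e2.trans e1.symm)
    exact (mul_inv_eq_iff_eq_mul.mp e3).symm
  have hKf : c.1 ∈ A.Kf := by
    have : c ∈ A.psi.ker := hker
    rwa [A.psi_ker] at this
  have h3 : c.1 ^ 3 ∈ A.Q0 := A.cube_mem hz hKf
  obtain ⟨k, hk⟩ := (Cores.pCore_isPGroup (G := CL z) 2) ⟨c, hc⟩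
  have hord : c.1 ^ 2 ^ k = 1 := by
    have := congrArg (fun a : O => a.1.1) hk
    simpa using this
  obtain ⟨m, hm⟩ := exists_pow_eq_self_of_coprime (n := 3) (x := c.1)
    (Nat.Coprime.of_dvd_right (orderOf_dvd_of_pow_eq_one hord) (Nat.Coprime.pow_right _ (by norm_num)))
  show c.1 ∈ A.Q0
  rw [← hm]
  exact pow_mem h3 m

theorem genFitting (hz : IsProd D 4 z) : Cfsg.generalizedFittingSubgroup (CL z) = A.QC := by
  haveI : Fact (Nat.Prime 2) := ⟨Nat.prime_two⟩
  haveI := A.QC_normal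
  have hpP : Cfsg.pPrimeCore 2 (CL z) = ⊥ := by
    set O := Cfsg.pPrimeCore 2 (CL z) with hO
    haveI : O.Normal := Subgroup.sSup_normal _ fun N hN => hN.1
    have hdis : O ⊓ A.QC = ⊥ := Subgroup.inf_eq_bot_of_coprime (by
      rw [A.card_QC hz]
      exact Nat.Coprime.pow_right _ (Cores.pPrimeCore_coprime 2))
    have hle : O ≤ A.QC := fun x hx => A.centralizer_QC hz (Subgroup.mem_centralizer_iff.mpr fun q hq =>
      (Subgroup.commute_of_normal_of_disjoint O A.QC inferInstance inferInstance (disjoint_iff.mpr hdis) x q hx hq).symm.eq)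
    rwa [inf_eq_left.mpr hle] at hdis
  have hcore : Cfsg.pCore 2 (CL z) = A.QC :=
    le_antisymm (A.pCore_le hz) (Cores.le_pCore (IsPGroup.of_card (A.card_QC hz)))
  have hfit : Cfsg.fittingSubgroup (CL z) = A.QC := by rw [FStarTools.fitting_eq_pCore hpP, hcore]
  have hlay : Cfsg.layer (CL z) = ⊥ := FStarTools.centralizer_fitting_le_iff.mp (by
    rw [hfit]; exact A.centralizer_QC hz)
  rw [Cfsg.generalizedFittingSubgroup, hlay, bot_sup_eq, hfit]

include A in
/-- the shape of the centraliser -/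
theorem shape (hz : IsProd D 4 z) :
    ∃ (Q : Subgroup ↥(CL z)) (_ : Q.Normal), Cfsg.generalizedFittingSubgroup ↥(CL z) = Q ∧
      Cfsg.IsExtraspecial 2 ↥Q ∧ Nat.card Q = 2 ^ 13 ∧ ∃ (N M : Subgroup ↥(CL z)) (_ : N.Normal) (_ : M.Normal),
        Q ≤ N ∧ N ≤ M ∧ Nat.card N = 3 * Nat.card Q ∧ (∃ (K : Type) (_ : Field K) (_ : Fintype K),
          Fintype.card K = 9 ∧ Nonempty (↥M ⧸ N.subgroupOf M ≃* Cfsg.PSU 4 K 3)) ∧ M.index = 2 := by
  refine ⟨A.QC, A.QC_normal, A.genFitting hz, A.QC_extraspecial hz, A.card_QC hz, A.psi.ker, A.M,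
    inferInstance, Subgroup.normal_of_index_eq_two (A.index_M hz), A.QC_le_ker hz, A.ker_le_M,
    by rw [A.card_psi_ker hz, A.card_QC hz], ?_, A.index_M hz⟩
  letI : Fintype (GaloisField 3 2) := Fintype.ofFinite _
  have h9 : Fintype.card (GaloisField 3 2) = 9 := by
    rw [← Nat.card_eq_fintype_card, GaloisField.card 3 2 two_ne_zero]; norm_num
  refine ⟨GaloisField 3 2, inferInstance, inferInstance, h9, ?_⟩
  obtain ⟨e₁⟩ := A.exists_quot_iso hz
  obtain ⟨e₂⟩ := exists_PO_iso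
  obtain ⟨e₃⟩ := Cfsg.Agent.S0303.result (F := ZMod 3) (K := GaloisField 3 2) (q := 3) (ZMod.card 3)
    (by rw [h9]; norm_num) 0 1 anis
  exact ⟨e₁.trans (e₂.symm.trans e₃)⟩

end Lab

end Cfsg.Agent.Lib.FischerQuad75
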